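import Groth.Agent.CalgB.AdicFSLift
import Mathlib.Algebra.TrivSqZeroExt.Basic
import Mathlib.RingTheory.Derivation.Basic

/-!
# Extension of derivations along adically formally smooth algebras (Stacks 07PL)
-/

set_option autoImplicit false

namespace Groth.Agent.CalgB.AdicDerExt

open Groth.Agent.CalgB.AdicFSExt Groth.Agent.CalgB.AdicFSLift

universe u v

section Eps

variable (B : Type u) [CommRing B]

/-- The ring `B[ε]`, as a type synonym without the `B`-algebra structure. -/
def Eps : Type u := TrivSqZeroExt B B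

noncomputable instance : CommRing (Eps B) := inferInstanceAs (CommRing (TrivSqZeroExt B B))

variable {B}

/-- First component. -/
noncomputable def Eps.fst : Eps B →+* B := (TrivSqZeroExt.fstHom B B B : TrivSqZeroExt B B →ₐ[B] B).toRingHom

/-- Second component. -/
def Eps.snd (x : Eps B) : B := TrivSqZeroExt.snd x

/-- Constructor. -/
def Eps.mk (a b : B) : Eps B := (TrivSqZeroExt.inl a + TrivSqZeroExt.inr b : TrivSqZeroExt B B)

@[simp] theorem Eps.fst_mk (a b : B) : Eps.fst (Eps.mk a b) = a := by
  change TrivSqZeroExt.fst (TrivSqZeroExt.inl a + TrivSqZeroExt.inr b) = a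
  simp

@[simp] theorem Eps.snd_mk (a b : B) : Eps.snd (Eps.mk a b) = b := by
  change TrivSqZeroExt.snd (TrivSqZeroExt.inl a + TrivSqZeroExt.inr b) = b
  simp

theorem Eps.ext {x y : Eps B} (h1 : Eps.fst x = Eps.fst y) (h2 : Eps.snd x = Eps.snd y) : x = y :=
  TrivSqZeroExt.ext h1 h2

@[simp] theorem Eps.snd_add (x y : Eps B) : Eps.snd (x + y) = Eps.snd x + Eps.snd y := rfl

@[simp] theorem Eps.snd_sub (x y : Eps B) : Eps.snd (x - y) = Eps.snd x - Eps.snd y := rfl

@[simp] theorem Eps.snd_zero : Eps.snd (0 : Eps B) = 0 := rfl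

@[simp] theorem Eps.snd_one : Eps.snd (1 : Eps B) = 0 := rfl

@[simp] theorem Eps.snd_mul (x y : Eps B) :
    Eps.snd (x * y) = Eps.fst x * Eps.snd y + Eps.fst y * Eps.snd x := by
  refine (TrivSqZeroExt.snd_mul (R := B) (M := B) x y).trans ?_
  change TrivSqZeroExt.fst x * TrivSqZeroExt.snd y + TrivSqZeroExt.snd x * TrivSqZeroExt.fst y =
    TrivSqZeroExt.fst x * TrivSqZeroExt.snd y + TrivSqZeroExt.fst y * TrivSqZeroExt.snd x
  ring

/-- The ideal `n + (ε)`. -/
noncomputable def epsIdeal (n : Ideal B) : Ideal (Eps B) := n.comap Eps.fst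

theorem mem_epsIdeal_pow (n : Ideal B) (k : ℕ) (x : Eps B) :
    x ∈ epsIdeal n ^ (k + 1) ↔ Eps.fst x ∈ n ^ (k + 1) ∧ Eps.snd x ∈ n ^ k := by
  constructor
  · intro hx
    refine ⟨?_, ?_⟩
    · have h1 : Eps.fst x ∈ (epsIdeal n ^ (k + 1)).map Eps.fst := Ideal.mem_map_of_mem _ hx
      rw [Ideal.map_pow] at h1
      exact Ideal.pow_right_mono Ideal.map_comap_le (k + 1) h1
    · induction k generalizing x with
      | zero => simp
      | succ k ih =>
        rw [pow_succ] at hx
        refine Submodule.mul_induction_on hx ?_ ?_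
        · intro y hy z hz
          have hy1 := ih y hy
          have hy2 : Eps.fst y ∈ n ^ (k + 1) := by
            have h1 : Eps.fst y ∈ (epsIdeal n ^ (k + 1)).map Eps.fst := Ideal.mem_map_of_mem _ hy
            rw [Ideal.map_pow] at h1
            exact Ideal.pow_right_mono Ideal.map_comap_le (k + 1) h1
          have hz1 : Eps.fst z ∈ n := hz
          rw [Eps.snd_mul]
          refine Ideal.add_mem _ (Ideal.mul_mem_right _ _ hy2) ?_
          rw [pow_succ']
          exact Ideal.mul_mem_mul hz1 hy1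
        · intro y z hy hz
          rw [Eps.snd_add]
          exact Ideal.add_mem _ hy hz
  · rintro ⟨h1, h2⟩
    have hx : x = Eps.mk (Eps.fst x) 0 + Eps.mk (Eps.snd x) 0 * Eps.mk 0 1 := by
      apply Eps.ext <;> simp
    have hinl : ∀ (j : ℕ) (b : B), b ∈ n ^ j → Eps.mk b 0 ∈ epsIdeal n ^ j := by
      intro j b hb
      let f : B →+* Eps B := (TrivSqZeroExt.inlHom B B : B →+* TrivSqZeroExt B B)
      have hf : ∀ b : B, f b = Eps.mk b 0 := by
        intro b
        apply Eps.ext
        · rw [Eps.fst_mk]; rfl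
        · rw [Eps.snd_mk]; rfl
      have h3 : f b ∈ (n ^ j).map f := Ideal.mem_map_of_mem _ hb
      rw [Ideal.map_pow] at h3
      rw [← hf]
      refine Ideal.pow_right_mono ?_ j h3
      rw [Ideal.map_le_iff_le_comap]
      intro c hc
      change Eps.fst (f c) ∈ n
      rw [hf, Eps.fst_mk]
      exact hc
    rw [hx]
    refine Ideal.add_mem _ (hinl _ _ h1) ?_
    rw [pow_succ]
    refine Ideal.mul_mem_mul (hinl _ _ h2) ?_
    change Eps.fst _ ∈ n
    rw [Eps.fst_mk]
    exact n.zero_mem

theorem isAdicComplete_eps (n : Ideal B) [IsAdicComplete n B] :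
    IsAdicComplete (epsIdeal n) (Eps B) where
  haus' := by
    intro x hx
    have h1 : ∀ k, Eps.fst x ∈ n ^ k ∧ Eps.snd x ∈ n ^ k := by
      intro k
      have h2 := hx (k + 1)
      rw [SModEq.zero, smul_eq_mul, Ideal.mul_top, mem_epsIdeal_pow] at h2
      exact ⟨Ideal.pow_le_pow_right (Nat.le_succ k) h2.1, h2.2⟩
    have hB : IsHausdorff n B := inferInstance
    apply Eps.ext
    · rw [map_zero]
      exact hB.haus _ fun k => by
        rw [SModEq.zero, smul_eq_mul, Ideal.mul_top]; exact (h1 k).1
    · rw [Eps.snd_zero]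
      exact hB.haus _ fun k => by
        rw [SModEq.zero, smul_eq_mul, Ideal.mul_top]; exact (h1 k).2
  prec' := by
    intro f hf
    have hB : IsPrecomplete n B := inferInstance
    have hf' : ∀ {m k : ℕ}, m ≤ k → f (m + 1) - f (k + 1) ∈ epsIdeal n ^ (m + 1) := by
      intro m k hmk
      have h1 := hf (Nat.succ_le_succ hmk)
      rw [SModEq.sub_mem, smul_eq_mul, Ideal.mul_top] at h1
      exact h1
    obtain ⟨a, ha⟩ := hB.prec (f := fun m => Eps.fst (f (m + 1))) (by
      intro m k hmk
      rw [SModEq.sub_mem, smul_eq_mul, Ideal.mul_top, ← map_sub]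
      exact Ideal.pow_le_pow_right (Nat.le_succ m) ((mem_epsIdeal_pow n m _).mp (hf' hmk)).1)
    obtain ⟨b, hb⟩ := hB.prec (f := fun m => Eps.snd (f (m + 1))) (by
      intro m k hmk
      rw [SModEq.sub_mem, smul_eq_mul, Ideal.mul_top, ← Eps.snd_sub]
      exact ((mem_epsIdeal_pow n m _).mp (hf' hmk)).2)
    refine ⟨Eps.mk a b, fun m => ?_⟩
    rw [SModEq.sub_mem, smul_eq_mul, Ideal.mul_top]
    cases m with
    | zero => simp
    | succ m =>
      rw [mem_epsIdeal_pow]
      have h1 := ha (m + 1)
      have h2 := hb m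
      rw [SModEq.sub_mem, smul_eq_mul, Ideal.mul_top] at h1 h2
      have h3 := ((mem_epsIdeal_pow n m _).mp (hf' (Nat.le_succ m))).1
      refine ⟨?_, ?_⟩
      · rw [map_sub, Eps.fst_mk]
        have h4 : Eps.fst (f (m + 1)) - a =
            Eps.fst (f (m + 1) - f (m + 1 + 1)) + (Eps.fst (f (m + 1 + 1)) - a) := by
          rw [map_sub]; ring
        rw [h4]
        exact Ideal.add_mem _ h3 h1
      · rw [Eps.snd_sub, Eps.snd_mk]
        exact h2

end Eps

variable {A : Type v} {B : Type u} [CommRing A] [CommRing B] [Algebra A B]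

/-- Stacks 07PL: a derivation `A → B` extends to a derivation `B → B` when `B` is `n`-adically complete and
adically formally smooth over `A`. -/
theorem exists_derivation_extend_adic (n : Ideal B) [IsAdicComplete n B] (h : AdicFS A B n)
    (D : Derivation ℤ A B) :
    ∃ D' : Derivation ℤ B B, ∀ a, D' (algebraMap A B a) = D a := by
  let φ : A →+* Eps B :=
    { toFun := fun a => Eps.mk (algebraMap A B a) (D a)
      map_one' := by apply Eps.ext <;> simp
      map_mul' := fun x y => by
        apply Eps.ext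
        · simp
        · simp [Algebra.smul_def]
      map_zero' := by apply Eps.ext <;> simp
      map_add' := fun x y => by apply Eps.ext <;> simp }
  let _ : Algebra A (Eps B) := φ.toAlgebra
  have hcomp := isAdicComplete_eps n
  let K : Ideal (Eps B) := RingHom.ker (Eps.fst (B := B))
  have hK : K ≤ epsIdeal n := by
    intro x hx
    have h1 : Eps.fst x = 0 := hx
    change Eps.fst x ∈ n
    rw [h1]; exact n.zero_mem
  have hmemK : ∀ x : Eps B, x ∈ K ↔ Eps.fst x = 0 := fun x => Iff.rfl
  -- the isomorphism `B ≃ B[ε] / K`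
  let ψ : B →ₐ[A] (Eps B ⧸ K) :=
    { toRingHom := (Ideal.Quotient.mk K).comp (TrivSqZeroExt.inlHom B B : B →+* TrivSqZeroExt B B)
      commutes' := fun a => by
        change Ideal.Quotient.mk K _ = Ideal.Quotient.mk K (φ a)
        rw [Ideal.Quotient.eq, hmemK, map_sub]
        change (algebraMap A B a) - Eps.fst (Eps.mk (algebraMap A B a) (D a)) = 0
        rw [Eps.fst_mk, sub_self] }
  have hψ : ∀ b, ψ b = Ideal.Quotient.mk K (Eps.mk b 0) := by
    intro b
    change Ideal.Quotient.mk K _ = _
    congr 1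
    apply Eps.ext
    · rw [Eps.fst_mk]; rfl
    · rw [Eps.snd_mk]; rfl
  obtain ⟨χ, hχ⟩ := AdicFS.exists_lift_complete (h := h) (c := epsIdeal n) (K := K) hK (by
      intro x hx
      rw [hmemK]
      have hB : IsHausdorff n B := inferInstance
      refine hB.haus _ fun k => ?_
      rw [SModEq.zero, smul_eq_mul, Ideal.mul_top]
      obtain ⟨y, hy, z, hz, rfl⟩ := Submodule.mem_sup.1 (hx (k + 1))
      rw [map_add, (hmemK y).mp hy, zero_add]
      exact Ideal.pow_le_pow_right (Nat.le_succ k) ((mem_epsIdeal_pow n k z).mp hz).1) ψ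
    ⟨1, fun x hx => by
      rw [pow_one] at hx
      rw [hψ]
      refine Ideal.mem_map_of_mem _ ?_
      change Eps.fst _ ∈ n
      rw [Eps.fst_mk]
      exact hx⟩
  have hfst : ∀ b, Eps.fst (χ b) = b := by
    intro b
    have h1 : Ideal.Quotient.mk K (χ b) = ψ b := DFunLike.congr_fun hχ b
    rw [hψ, Ideal.Quotient.eq, hmemK, map_sub, Eps.fst_mk, sub_eq_zero] at h1
    exact h1
  refine ⟨Derivation.mk' (R := ℤ) (A := B) (M := B)
    { toFun := fun b => Eps.snd (χ b)
      map_add' := fun x y => by rw [map_add, Eps.snd_add]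
      map_smul' := fun z x => by
        rw [map_zsmul]
        exact TrivSqZeroExt.snd_smul (R := B) (M := B) z (χ x) } (fun x y => ?_), fun a => ?_⟩
  · change Eps.snd (χ (x * y)) = _
    rw [map_mul, Eps.snd_mul, hfst, hfst]
    rfl
  · change Eps.snd (χ (algebraMap A B a)) = _
    rw [χ.commutes]
    change Eps.snd (Eps.mk (algebraMap A B a) (D a)) = _
    rw [Eps.snd_mk]

/-- Stacks 07PL: a derivation of `A` extends to `B` when `B` is `n`-adically complete and
adically formally smooth over `A`. -/
theorem exists_derivation_extend_adic' (n : Ideal B) [IsAdicComplete n B] (h : AdicFS A B n)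
    (D : Derivation ℤ A A) :
    ∃ D' : Derivation ℤ B B, ∀ a, D' (algebraMap A B a) = algebraMap A B (D a) := by
  let D1 : Derivation ℤ A B :=
    Derivation.mk' (R := ℤ) (A := A) (M := B)
      { toFun := fun a => algebraMap A B (D a)
        map_add' := fun x y => by rw [map_add, map_add]
        map_smul' := fun z x => by rw [map_zsmul, map_zsmul]; rfl } (fun x y => by
          change algebraMap A B (D (x * y)) = _
          rw [Derivation.leibniz, map_add]
          simp only [smul_eq_mul, map_mul, Algebra.smul_def]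
          rfl)
  exact exists_derivation_extend_adic n h D1

end Groth.Agent.CalgB.AdicDerExt
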