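import Groth.Prelude.Def_Found
import Groth.Agent.CalgB.AdicRegField
import Groth.Agent.CalgA.RegLoc

/-!
# Adic formal smoothness: base change, localization; it implies geometric regularity over a field
-/

set_option autoImplicit false

universe u

namespace Groth.Agent.CalgB.AdicGeomReg

open IsLocalRing TensorProduct

/-- Adic formal smoothness is stable under base change. -/
theorem baseChange {R S : Type u} [CommRing R] [CommRing S] [Algebra R S] {n : Ideal S}
    (h : CAlgX.IsAdicFormallySmooth R S n) (R' : Type u) [CommRing R'] [Algebra R R'] :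
    CAlgX.IsAdicFormallySmooth R' (R' ⊗[R] S)
      (n.map (Algebra.TensorProduct.includeRight : S →ₐ[R] R' ⊗[R] S)) := by
  intro C _ _ J hJ ψ ⟨k, hk⟩
  let _ : Algebra R C := Algebra.compHom C (algebraMap R R')
  have : IsScalarTower R R' C := IsScalarTower.of_algebraMap_eq fun _ => rfl
  let ψ₀ : S →ₐ[R] C ⧸ J := (ψ.restrictScalars R).comp Algebra.TensorProduct.includeRight
  obtain ⟨χ₀, hχ₀⟩ := h C J hJ ψ₀ ⟨k, fun x hx => hk _ (by
    rw [← Ideal.map_pow]
    exact Ideal.mem_map_of_mem (Algebra.TensorProduct.includeRight : S →ₐ[R] R' ⊗[R] S) hx)⟩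
  refine ⟨Algebra.TensorProduct.lift (Algebra.ofId R' C) χ₀ (fun _ _ => Commute.all _ _), ?_⟩
  apply Algebra.TensorProduct.ext
  · ext
  · ext s
    have h1 := DFunLike.congr_fun hχ₀ s
    change Ideal.Quotient.mk J (χ₀ s) = ψ (1 ⊗ₜ s) at h1
    change Ideal.Quotient.mk J (Algebra.TensorProduct.lift (Algebra.ofId R' C) χ₀
      (fun _ _ => Commute.all _ _) (1 ⊗ₜ s)) = ψ (1 ⊗ₜ s)
    rw [← h1]
    simp

/-- Adic formal smoothness passes along formally smooth algebras and to larger ideals. -/
theorem of_formallySmooth {R S T : Type u} [CommRing R] [CommRing S] [CommRing T] [Algebra R S] [Algebra S T]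
    [Algebra R T] [IsScalarTower R S T] {n : Ideal S} (h : CAlgX.IsAdicFormallySmooth R S n)
    [Algebra.FormallySmooth S T] (n' : Ideal T) (hn : n.map (algebraMap S T) ≤ n') :
    CAlgX.IsAdicFormallySmooth R T n' := by
  intro C _ _ J hJ ψ ⟨k, hk⟩
  obtain ⟨χ₀, hχ₀⟩ := h C J hJ (ψ.comp (IsScalarTower.toAlgHom R S T)) ⟨k, fun x hx => hk _ (by
    have h1 := Ideal.mem_map_of_mem (algebraMap S T) hx
    rw [Ideal.map_pow] at h1
    exact Ideal.pow_right_mono hn k h1)⟩
  let _ : Algebra S C := χ₀.toRingHom.toAlgebra
  have hC : ∀ c : S, algebraMap S C c = χ₀ c := fun _ => rfl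
  let ψ' : T →ₐ[S] C ⧸ J :=
    { ψ with
      commutes' := fun c => by
        change ψ (algebraMap S T c) = Ideal.Quotient.mk J (χ₀ c)
        exact (DFunLike.congr_fun hχ₀ c).symm }
  obtain ⟨χ, hχ⟩ := Algebra.FormallySmooth.exists_lift (R := S) (A := T) J ⟨2, hJ⟩ ψ'
  refine ⟨{ χ with
    commutes' := fun c => by
      change χ (algebraMap R T c) = algebraMap R C c
      rw [IsScalarTower.algebraMap_apply R S T, χ.commutes, hC, χ₀.commutes] }, ?_⟩
  ext a
  exact DFunLike.congr_fun hχ a

/-- A Noetherian ring is regular if its localizations at maximal ideals are. -/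
theorem isRegularRing_of_isMaximal {R : Type u} [CommRing R] [IsNoetherianRing R]
    (h : ∀ (M : Ideal R) [M.IsMaximal], IsRegularLocalRing (Localization.AtPrime M)) : IsRegularRing R := by
  rw [isRegularRing_iff]
  intro P hP
  obtain ⟨M, hM, hPM⟩ := Ideal.exists_le_maximal P hP.ne_top
  have := h M
  let Q : Ideal (Localization.AtPrime M) := P.map (algebraMap R (Localization.AtPrime M))
  have hdisj : Disjoint (M.primeCompl : Set R) (P : Set R) := by
    rw [Set.disjoint_left]
    intro x hx hx'
    exact hx (hPM hx')
  have hQ : Q.IsPrime := IsLocalization.isPrime_of_isPrime_disjoint M.primeCompl _ P hP hdisj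
  have hreg := Groth.Agent.CalgA.RegLoc.isRegularLocalRing_localization (Localization.AtPrime M) Q
  have hcomap : Q.comap (algebraMap R (Localization.AtPrime M)) = P :=
    IsLocalization.under_map_of_isPrime_disjoint M.primeCompl _ hP hdisj
  have : IsLocalization.AtPrime (Localization.AtPrime Q) P := by
    have h1 := IsLocalization.isLocalization_isLocalization_atPrime_isLocalization M.primeCompl
      (Localization.AtPrime Q) Q
    have h2 : Q.comap (algebraMap R (Localization.AtPrime M)) = P := hcomap
    convert h1
    exact h2.symm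
  exact IsRegularLocalRing.of_ringEquiv (IsLocalization.algEquiv P.primeCompl
    (Localization.AtPrime Q) (Localization.AtPrime P)).toRingEquiv

/-- An adically formally smooth Noetherian local algebra over a field is geometrically regular. -/
theorem isGeometricallyRegular_of_isAdicFormallySmooth {k A : Type u} [Field k] [CommRing A] [IsLocalRing A]
    [IsNoetherianRing A] [Algebra k A] (h : CAlgX.IsAdicFormallySmooth k A (maximalIdeal A)) :
    CAlg.IsGeometricallyRegular k A := by
  intro k' _ _ hfin
  have hN : IsNoetherianRing (k' ⊗[k] A) := by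
    have h1 : Module.Finite A (A ⊗[k] k') := inferInstance
    have h2 : IsNoetherianRing (A ⊗[k] k') := IsNoetherianRing.of_finite A _
    exact isNoetherianRing_of_ringEquiv _ (Algebra.TensorProduct.comm k A k').toRingEquiv
  refine isRegularRing_of_isMaximal fun M _ => ?_
  have h1 := baseChange h k'
  have hle : (maximalIdeal A).map (Algebra.TensorProduct.includeRight : A →ₐ[k] k' ⊗[k] A) ≤ M := by
    rw [Ideal.map_le_iff_le_comap]
    have hint : (Algebra.TensorProduct.includeRight : A →ₐ[k] k' ⊗[k] A).toRingHom.IsIntegral := by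
      have h3 : (algebraMap A (A ⊗[k] k')).IsIntegral := algebraMap_isIntegral_iff.mpr inferInstance
      have h4 : (Algebra.TensorProduct.includeRight : A →ₐ[k] k' ⊗[k] A).toRingHom =
          ((Algebra.TensorProduct.comm k A k').toRingEquiv : A ⊗[k] k' →+* k' ⊗[k] A).comp
            (algebraMap A (A ⊗[k] k')) := by
        ext a
        simp [Algebra.TensorProduct.algebraMap_apply]
      rw [h4]
      exact h3.trans _ _ (RingHom.isIntegral_of_surjective _ (Algebra.TensorProduct.comm k A k').surjective)
    have hmax : (M.comap (Algebra.TensorProduct.includeRight : A →ₐ[k] k' ⊗[k] A).toRingHom).IsMaximal :=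
      Ideal.isMaximal_comap_of_isIntegral_of_isMaximal' _ hint M
    exact (eq_maximalIdeal hmax).ge
  have h2 : CAlgX.IsAdicFormallySmooth k' (Localization.AtPrime M) (maximalIdeal (Localization.AtPrime M)) := by
    have : Algebra.FormallySmooth (k' ⊗[k] A) (Localization.AtPrime M) :=
      Algebra.FormallySmooth.of_isLocalization M.primeCompl
    refine of_formallySmooth h1 _ ?_
    refine (Ideal.map_mono hle).trans ?_
    rw [Localization.AtPrime.map_eq_maximalIdeal]
  exact Groth.Agent.CalgB.AdicRegField.isRegularLocalRing_of_isAdicFormallySmooth h2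

end Groth.Agent.CalgB.AdicGeomReg
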