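import Mathlib.RingTheory.Localization.Basic
import Mathlib.RingTheory.Noetherian.Basic
import Mathlib.RingTheory.Localization.Ideal

/-!
# Annihilator conditions descend from a localization (Stacks 07FC)
-/

set_option autoImplicit false

namespace Groth.Agent.CalgB.AnnLoc

variable {A : Type*} [CommRing A] [IsNoetherianRing A] (S : Submonoid A) (A' : Type*) [CommRing A']
  [Algebra A A'] [IsLocalization S A']

/-- Over a Noetherian ring the kernel of a localization map is killed by one element. -/
lemma exists_mul_eq_zero_of_map_eq_zero :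
    ∃ s ∈ S, ∀ x : A, algebraMap A A' x = 0 → s * x = 0 := by
  classical
  have hfg : (RingHom.ker (algebraMap A A')).FG := IsNoetherian.noetherian _
  obtain ⟨T, hT⟩ := hfg
  have h1 : ∀ x ∈ T, ∃ s : S, (s : A) * x = 0 := by
    intro x hx
    have : x ∈ RingHom.ker (algebraMap A A') := hT ▸ Ideal.subset_span hx
    exact (IsLocalization.map_eq_zero_iff S A' x).mp this
  choose! s hs using h1
  refine ⟨∏ x ∈ T, (s x : A), Submonoid.prod_mem _ fun x _ => (s x).2, ?_⟩
  intro x hx
  have hx' : x ∈ Ideal.span (T : Set A) := hT.symm ▸ (hx : x ∈ RingHom.ker (algebraMap A A'))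
  induction hx' using Submodule.span_induction with
  | mem x hxT =>
    rw [← Finset.prod_erase_mul T _ hxT, mul_assoc, hs x hxT, mul_zero]
  | zero => rw [mul_zero]
  | add x y hx1 hy1 hx2 hy2 =>
    have hx3 : algebraMap A A' x = 0 := by
      have : x ∈ RingHom.ker (algebraMap A A') := hT ▸ hx1
      exact this
    have hy3 : algebraMap A A' y = 0 := by
      have : y ∈ RingHom.ker (algebraMap A A') := hT ▸ hy1
      exact this
    rw [mul_add, hx2 hx3, hy2 hy3, add_zero]
  | smul a x hx1 hx2 =>
    have hx3 : algebraMap A A' x = 0 := by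
      have : x ∈ RingHom.ker (algebraMap A A') := hT ▸ hx1
      exact this
    rw [smul_eq_mul, mul_left_comm, hx2 hx3, mul_zero]

/-- Stacks 07FC: if `Ann(π) = Ann(π²)` in a localization `S⁻¹A` of a Noetherian ring then there is
`s ∈ S` with `Ann(s^m π) = Ann((s^m π)²)` in `A` for all `m ≥ 1`. -/
theorem exists_ann_eq (π : A)
    (h : ∀ x : A', algebraMap A A' π ^ 2 * x = 0 → algebraMap A A' π * x = 0) :
    ∃ s ∈ S, ∀ m : ℕ, 1 ≤ m → ∀ x : A, (s ^ m * π) ^ 2 * x = 0 → (s ^ m * π) * x = 0 := by
  obtain ⟨s, hs, hker⟩ := exists_mul_eq_zero_of_map_eq_zero S A'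
  refine ⟨s, hs, fun m hm x hx => ?_⟩
  have hu : IsUnit (algebraMap A A' s) := IsLocalization.map_units A' (⟨s, hs⟩ : S)
  have h1 : algebraMap A A' π ^ 2 * algebraMap A A' x = 0 := by
    have h2 := congrArg (algebraMap A A') hx
    rw [map_zero, map_mul, map_pow, map_mul, mul_pow, map_pow, mul_assoc] at h2
    exact ((hu.pow m).pow 2).mul_right_eq_zero.mp h2
  have h3 : algebraMap A A' (π * x) = 0 := by rw [map_mul]; exact h _ h1
  have h4 := hker _ h3
  obtain ⟨k, rfl⟩ := Nat.exists_eq_add_of_le hm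
  rw [pow_add, pow_one]
  calc s * s ^ k * π * x = s ^ k * (s * (π * x)) := by ring
    _ = 0 := by rw [h4, mul_zero]

end Groth.Agent.CalgB.AnnLoc
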