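import Groth.Agent.CalgB.Minors
import Groth.Agent.CalgB.DepthLite
import Mathlib.RingTheory.LocalRing.Module
import Mathlib.RingTheory.Regular.Flat
import Mathlib.RingTheory.Ideal.AssociatedPrime.Finiteness
import Mathlib.RingTheory.Ideal.KrullsHeightTheorem

/-!
Buchsbaum–Eisenbud: what makes a complex of finite free modules exact.
-/

set_option autoImplicit false
universe u

namespace Groth.Agent.CalgB.BuchEis

open CAlgX Matrix Groth.Agent.CalgB.Minors Groth.Agent.CalgB.DepthLite IsLocalRing

variable {R : Type u} [CommRing R]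

/-- exactness at the middle spot -/
def Ex {a b c : ℕ} (A : Matrix (Fin a) (Fin b) R) (B : Matrix (Fin b) (Fin c) R) : Prop :=
  ∀ v : Fin b → R, A *ᵥ v = 0 → ∃ u : Fin c → R, B *ᵥ u = v

section DepthZero

variable [IsLocalRing R]

lemma one_tmul_eq_zero_iff {b : ℕ} (v : Fin b → R) :
    (TensorProduct.tmul R (1 : ResidueField R) v = 0) ↔ ∀ i, v i ∈ maximalIdeal R := by
  constructor
  · intro h i
    have h1 : TensorProduct.map (LinearMap.id : ResidueField R →ₗ[R] ResidueField R)
        (LinearMap.proj i : (Fin b → R) →ₗ[R] R) (TensorProduct.tmul R (1 : ResidueField R) v) = 0 := by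
      rw [h, map_zero]
    rw [TensorProduct.map_tmul] at h1
    have h2 := congrArg (TensorProduct.rid R (ResidueField R)) h1
    rw [TensorProduct.rid_tmul, map_zero] at h2
    rw [← residue_eq_zero_iff]
    have : residue R (v i) = (v i) • (1 : ResidueField R) := by
      rw [Algebra.smul_def, mul_one]; rfl
    rw [this]
    exact h2
  · intro h
    have h1 : v = ∑ i, v i • (Pi.single i (1 : R) : Fin b → R) := by
      ext j
      simp [Finset.sum_apply, Pi.single_apply]
    rw [h1, TensorProduct.tmul_sum]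
    refine Finset.sum_eq_zero (fun i _ => ?_)
    rw [← TensorProduct.smul_tmul]
    have : (v i) • (1 : ResidueField R) = 0 := by
      rw [Algebra.smul_def, mul_one]
      exact (residue_eq_zero_iff _).mpr (h i)
    rw [this, TensorProduct.zero_tmul]

lemma exists_left_inverse {a b : ℕ} (P : Matrix (Fin a) (Fin b) R) (s : R) (hs : s ≠ 0)
    (hsm : ∀ x ∈ maximalIdeal R, x * s = 0) (hinj : ∀ v, P *ᵥ v = 0 → v = 0) :
    ∃ L : Matrix (Fin b) (Fin a) R, L * P = 1 := by
  have key : ∃ l', l' ∘ₗ P.mulVecLin = LinearMap.id := by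
    rw [IsLocalRing.split_injective_iff_lTensor_residueField_injective]
    rw [injective_iff_map_eq_zero]
    intro z hz
    obtain ⟨v, rfl⟩ : ∃ v : Fin b → R, TensorProduct.tmul R (1 : ResidueField R) v = z := by
      induction z using TensorProduct.induction_on with
      | zero => exact ⟨0, TensorProduct.tmul_zero _ _⟩
      | tmul x y =>
        obtain ⟨c, rfl⟩ := residue_surjective x
        refine ⟨c • y, ?_⟩
        rw [← TensorProduct.smul_tmul]
        congr 1
        rw [Algebra.smul_def, mul_one]; rfl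
      | add x y hx hy =>
        have : ∀ z : TensorProduct R (ResidueField R) (Fin b → R),
            ∃ v : Fin b → R, TensorProduct.tmul R (1 : ResidueField R) v = z := by
          intro z
          induction z using TensorProduct.induction_on with
          | zero => exact ⟨0, TensorProduct.tmul_zero _ _⟩
          | tmul x y =>
            obtain ⟨c, rfl⟩ := residue_surjective x
            refine ⟨c • y, ?_⟩
            rw [← TensorProduct.smul_tmul]
            congr 1
            rw [Algebra.smul_def, mul_one]; rfl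
          | add x y hx hy =>
            obtain ⟨v, rfl⟩ := hx
            obtain ⟨w, rfl⟩ := hy
            exact ⟨v + w, TensorProduct.tmul_add _ _ _⟩
        exact this _
    rw [LinearMap.lTensor_tmul, one_tmul_eq_zero_iff] at hz
    rw [one_tmul_eq_zero_iff]
    intro i
    have h1 : P *ᵥ (s • v) = 0 := by
      rw [Matrix.mulVec_smul]
      ext j
      have := hsm _ (hz j)
      rw [Pi.smul_apply, smul_eq_mul, mul_comm]
      exact this
    have h2 := congrFun (hinj _ h1) i
    rw [Pi.smul_apply, smul_eq_mul, Pi.zero_apply] at h2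
    by_contra hvi
    have hu : IsUnit (v i) := by
      by_contra h3
      exact hvi ((mem_maximalIdeal _).mpr h3)
    exact hs ((IsUnit.mul_left_eq_zero hu).mp h2)
  obtain ⟨l, hl⟩ := key
  refine ⟨LinearMap.toMatrix' l, ?_⟩
  apply Matrix.toLin'.injective
  rw [Matrix.toLin'_mul, Matrix.toLin'_toMatrix', Matrix.toLin'_one]
  exact hl

lemma exists_complement {b r' : ℕ} (P' : Matrix (Fin b) (Fin r') R) (L' : Matrix (Fin r') (Fin b) R)
    (h : L' * P' = 1) :
    ∃ (r : ℕ) (ι : Matrix (Fin b) (Fin r) R) (π : Matrix (Fin r) (Fin b) R), r + r' = b ∧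
      π * ι = 1 ∧ L' * ι = 0 ∧ π * P' = 0 ∧ P' * L' + ι * π = 1 := by
  let p : (Fin r' → R) →ₗ[R] (Fin b → R) := Matrix.toLin' P'
  let l : (Fin b → R) →ₗ[R] (Fin r' → R) := Matrix.toLin' L'
  have hlp : ∀ x, l (p x) = x := by
    intro x
    have : l ∘ₗ p = LinearMap.id := by
      rw [← Matrix.toLin'_mul, h, Matrix.toLin'_one]
    exact LinearMap.congr_fun this x
  let K := LinearMap.ker l
  let q : (Fin b → R) →ₗ[R] K := LinearMap.codRestrict K (LinearMap.id - p ∘ₗ l) (by
    intro x
    simp [K, LinearMap.mem_ker, hlp])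
  have hq : ∀ x : K, q x = x := by
    intro x
    apply Subtype.ext
    have hx : l (x : Fin b → R) = 0 := x.2
    simp [q, hx]
  have hqval : ∀ x, ((q x : K) : Fin b → R) = x - p (l x) := fun x => rfl
  have : Module.Finite R K := Module.Finite.of_surjective q (fun x => ⟨x, hq x⟩)
  have : Module.Projective R K := Module.Projective.of_split K.subtype q (by
    ext x : 1
    exact hq x)
  have : Module.Free R K := Module.free_of_flat_of_isLocalRing
  let E : ((Fin r' → R) × K) ≃ₗ[R] (Fin b → R) :=
    LinearEquiv.ofLinearMap (LinearMap.coprod p K.subtype) (LinearMap.prod l q) (by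
      apply LinearMap.ext
      intro x
      simp [LinearMap.coprod_apply, hqval]) (by
      apply LinearMap.ext
      rintro ⟨x, y⟩
      have hy : l (y : Fin b → R) = 0 := y.2
      have h1 : q (p x) = 0 := by
        apply Subtype.ext
        rw [hqval, hlp, sub_self]; rfl
      simp [LinearMap.coprod_apply, hlp, hy, hq, h1])
  have hrank : Module.finrank R K + r' = b := by
    have := LinearEquiv.finrank_eq E
    rw [Module.finrank_prod, Module.finrank_fin_fun, Module.finrank_fin_fun] at this
    omega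
  let β := Module.finBasis R K
  refine ⟨Module.finrank R K, LinearMap.toMatrix' (K.subtype ∘ₗ β.equivFun.symm.toLinearMap),
    LinearMap.toMatrix' (β.equivFun.toLinearMap ∘ₗ q), hrank, ?_, ?_, ?_, ?_⟩
  · rw [← LinearMap.toMatrix'_comp, ← LinearMap.toMatrix'_id]
    congr 1
    apply LinearMap.ext
    intro x
    change β.equivFun (q ((β.equivFun.symm x : K) : Fin b → R)) = x
    rw [hq, LinearEquiv.apply_symm_apply]
  · apply Matrix.toLin'.injective
    rw [Matrix.toLin'_mul, Matrix.toLin'_toMatrix', map_zero]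
    apply LinearMap.ext
    intro x
    have : l ((β.equivFun.symm x : K) : Fin b → R) = 0 := (β.equivFun.symm x).2
    exact this
  · apply Matrix.toLin'.injective
    rw [Matrix.toLin'_mul, Matrix.toLin'_toMatrix', map_zero]
    apply LinearMap.ext
    intro x
    have h1 : q (p x) = 0 := by
      apply Subtype.ext
      rw [hqval, hlp, sub_self]; rfl
    change β.equivFun (q (p x)) = 0
    rw [h1, map_zero]
  · apply Matrix.toLin'.injective
    rw [map_add, Matrix.toLin'_mul, Matrix.toLin'_mul, Matrix.toLin'_toMatrix', Matrix.toLin'_toMatrix',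
      Matrix.toLin'_one]
    apply LinearMap.ext
    intro x
    change p (l x) + ((β.equivFun.symm (β.equivFun (q x)) : K) : Fin b → R) = x
    rw [LinearEquiv.symm_apply_apply, hqval]
    abel

lemma SR_step {a b c r' : ℕ} (A : Matrix (Fin a) (Fin b) R) (B : Matrix (Fin b) (Fin c) R)
    (hAB : A * B = 0) (hB : SR B r') (hex : Ex A B) (s : R) (hs : s ≠ 0)
    (hsm : ∀ x ∈ maximalIdeal R, x * s = 0) : ∃ r, r + r' = b ∧ SR A r := by
  obtain ⟨P', Q', L', S', rfl, hL', hS'⟩ := hB
  obtain ⟨r, ι, π, hr, hπι, hLι, hπP, hone⟩ := exists_complement P' L' hL'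
  have hAP : A * P' = 0 := by
    have : A * (P' * Q') * S' = A * P' := by
      rw [Matrix.mul_assoc, Matrix.mul_assoc, hS', Matrix.mul_one]
    rw [← this, hAB, Matrix.zero_mul]
  have hinj : ∀ v, (A * ι) *ᵥ v = 0 → v = 0 := by
    intro v hv
    rw [← Matrix.mulVec_mulVec] at hv
    obtain ⟨u, hu⟩ := hex _ hv
    have h1 : L' *ᵥ ((P' * Q') *ᵥ u) = L' *ᵥ (ι *ᵥ v) := by rw [hu]
    rw [Matrix.mulVec_mulVec, Matrix.mulVec_mulVec, hLι, ← Matrix.mul_assoc, hL', Matrix.one_mul,
      Matrix.zero_mulVec] at h1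
    have h2 : ι *ᵥ v = 0 := by
      rw [← hu, ← Matrix.mulVec_mulVec, h1, Matrix.mulVec_zero]
    have h3 : π *ᵥ (ι *ᵥ v) = v := by
      rw [Matrix.mulVec_mulVec, hπι, Matrix.one_mulVec]
    rw [← h3, h2, Matrix.mulVec_zero]
  obtain ⟨L, hL⟩ := exists_left_inverse (A * ι) s hs hsm hinj
  refine ⟨r, hr, A * ι, π, L, ι, ?_, hL, hπι⟩
  calc A = A * (P' * L' + ι * π) := by rw [hone, Matrix.mul_one]
    _ = A * ι * π := by rw [Matrix.mul_add, ← Matrix.mul_assoc, hAP, Matrix.zero_mul, zero_add,
        Matrix.mul_assoc]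

end DepthZero

lemma SR_zero (a b : ℕ) : SR (0 : Matrix (Fin a) (Fin b) R) 0 :=
  ⟨0, 0, 0, 0, by simp, Subsingleton.elim _ _, Subsingleton.elim _ _⟩

lemma _root_.Groth.Agent.CalgB.Minors.SR.matrixRank_eq [Nontrivial R] {m n : Type} [Fintype m] [Fintype n]
    {A : Matrix m n R} {r : ℕ} (h : SR A r) : matrixRank A = r :=
  Groth.Agent.CalgB.Minors.matrixRank_eq (by rw [h.minorIdeal_eq_top]; exact top_ne_bot) h.minorIdeal_eq_bot

/-- the standing data: complementary ranks -/
def RK (e : ℕ) (n r : ℕ → ℕ) : Prop :=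
  r (e + 1) = 0 ∧ ∀ j, 1 ≤ j → j ≤ e → r j + r (j + 1) = n j

lemma RK.unique {e : ℕ} {n r r' : ℕ → ℕ} (h : RK e n r) (h' : RK e n r') (j : ℕ) (h1 : 1 ≤ j)
    (h2 : j ≤ e + 1) : r j = r' j := by
  have key : ∀ k j, j + k = e + 1 → 1 ≤ j → r j = r' j := by
    intro k
    induction k with
    | zero =>
      intro j hj _
      obtain rfl : j = e + 1 := by omega
      rw [h.1, h'.1]
    | succ k ih =>
      intro j hj hj1
      have h3 := ih (j + 1) (by omega) (by omega)
      have h4 := h.2 j hj1 (by omega)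
      have h5 := h'.2 j hj1 (by omega)
      omega
  exact key (e + 1 - j) j (by omega) h1

/-- the depth zero case -/
lemma exists_rk_of_depth_zero [IsLocalRing R] (e : ℕ) (n : ℕ → ℕ)
    (A : (i : ℕ) → Matrix (Fin (n i)) (Fin (n (i + 1))) R) (hz : A e = 0)
    (hA : ∀ i, i + 1 ≤ e → A i * A (i + 1) = 0) (hex : ∀ i, i + 1 ≤ e → Ex (A i) (A (i + 1)))
    (s : R) (hs : s ≠ 0) (hsm : ∀ x ∈ maximalIdeal R, x * s = 0) :
    ∃ r : ℕ → ℕ, RK e n r ∧ ∀ j, j ≤ e → SR (A j) (r (j + 1)) := by
  have hSR : ∀ k, ∀ j, j + k = e → SR (A j) (matrixRank (A j)) := by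
    intro k
    induction k with
    | zero =>
      intro j hj
      obtain rfl : j = e := by omega
      rw [hz]
      rw [(SR_zero (R := R) _ _).matrixRank_eq]
      exact SR_zero _ _
    | succ k ih =>
      intro j hj
      obtain ⟨r, _, hr2⟩ := SR_step (A j) (A (j + 1)) (hA j (by omega)) (ih (j + 1) (by omega))
        (hex j (by omega)) s hs hsm
      rw [hr2.matrixRank_eq]
      exact hr2
  refine ⟨fun j => matrixRank (A (j - 1)), ⟨?_, ?_⟩, ?_⟩
  · change matrixRank (A e) = 0
    rw [hz]
    exact (SR_zero (R := R) _ _).matrixRank_eq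
  · intro j hj1 hj2
    obtain ⟨k, rfl⟩ : ∃ k, j = k + 1 := ⟨j - 1, by omega⟩
    change matrixRank (A k) + matrixRank (A (k + 1)) = n (k + 1)
    obtain ⟨r, hr1, hr2⟩ := SR_step (A k) (A (k + 1)) (hA k (by omega))
      (hSR (e - (k + 1)) (k + 1) (by omega)) (hex k (by omega)) s hs hsm
    rw [hr2.matrixRank_eq]
    exact hr1
  · intro j hj
    exact hSR (e - j) j (by omega)

end Groth.Agent.CalgB.BuchEis
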