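import Groth.Agent.CalgB.BuchEis

/-!
Buchsbaum–Eisenbud, second file: localization of exactness of matrices, and the implication from
ranks and grades to exactness.
-/

set_option autoImplicit false
universe u

namespace Groth.Agent.CalgB.BuchEis

open CAlgX Matrix Groth.Agent.CalgB.Minors Groth.Agent.CalgB.DepthLite IsLocalRing

variable {R : Type u} [CommRing R]

section Localization

variable {S : Type u} [CommRing S] [Algebra R S] (M : Submonoid R) [IsLocalization M S]

lemma map_mulVec {a b : ℕ} (A : Matrix (Fin a) (Fin b) R) (w : Fin b → R) :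
    (A.map (algebraMap R S)) *ᵥ (algebraMap R S ∘ w) = algebraMap R S ∘ (A *ᵥ w) := by
  ext i
  exact (RingHom.map_mulVec (algebraMap R S) A w i).symm

include M in
lemma exists_clear {b : ℕ} (v : Fin b → S) :
    ∃ t : M, ∃ w : Fin b → R, (algebraMap R S t) • v = algebraMap R S ∘ w := by
  obtain ⟨t, ht⟩ := IsLocalization.exist_integer_multiples_of_finite M v
  choose w hw using ht
  refine ⟨t, w, ?_⟩
  ext i
  rw [Function.comp_apply, hw i, Pi.smul_apply, smul_eq_mul, Algebra.smul_def]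

include S in
lemma exists_kill {b : ℕ} (w : Fin b → R) (h : algebraMap R S ∘ w = 0) :
    ∃ t : M, (t : R) • w = 0 := by
  have h1 : ∀ i, ∃ c : M, (c : R) * w i = 0 := fun i => by
    have := congrFun h i
    exact (IsLocalization.map_eq_zero_iff M S _).mp this
  choose c hc using h1
  refine ⟨∏ i, c i, ?_⟩
  ext i
  rw [Pi.smul_apply, smul_eq_mul, Submonoid.coe_finsetProd,
    ← Finset.prod_erase_mul _ _ (Finset.mem_univ i), mul_assoc, hc i, mul_zero]
  rfl

lemma algebraMap_smul_comp {b : ℕ} (t : R) (w : Fin b → R) :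
    algebraMap R S ∘ (t • w) = (algebraMap R S t) • (algebraMap R S ∘ w) := by
  ext i
  simp

/-- lifting kernel elements -/
lemma exists_ker_lift {a b : ℕ} (A : Matrix (Fin a) (Fin b) R) (v : Fin b → S)
    (hv : (A.map (algebraMap R S)) *ᵥ v = 0) :
    ∃ t : M, ∃ w : Fin b → R, (algebraMap R S t) • v = algebraMap R S ∘ w ∧ A *ᵥ w = 0 := by
  obtain ⟨t₁, w₁, h₁⟩ := exists_clear M v
  have h2 : algebraMap R S ∘ (A *ᵥ w₁) = 0 := by
    rw [← map_mulVec, ← h₁, Matrix.mulVec_smul, hv, smul_zero]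
  obtain ⟨t₂, h₂⟩ := exists_kill (S := S) M _ h2
  refine ⟨t₂ * t₁, (t₂ : R) • w₁, ?_, ?_⟩
  · rw [algebraMap_smul_comp, ← h₁, smul_smul, Submonoid.coe_mul, map_mul]
  · rw [Matrix.mulVec_smul, h₂]

/-- descending image elements -/
lemma exists_range_lift {a b : ℕ} (B : Matrix (Fin a) (Fin b) R) (w : Fin a → R) (u : Fin b → S)
    (hu : (B.map (algebraMap R S)) *ᵥ u = algebraMap R S ∘ w) :
    ∃ t : M, ∃ u' : Fin b → R, B *ᵥ u' = (t : R) • w := by
  obtain ⟨t₁, u₁, h₁⟩ := exists_clear M u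
  have h2 : algebraMap R S ∘ ((t₁ : R) • w - B *ᵥ u₁) = 0 := by
    have h3 : algebraMap R S ∘ ((t₁ : R) • w - B *ᵥ u₁) =
        algebraMap R S ∘ ((t₁ : R) • w) - algebraMap R S ∘ (B *ᵥ u₁) := by
      ext i
      simp
    rw [h3, ← map_mulVec, ← h₁, Matrix.mulVec_smul, hu, algebraMap_smul_comp, sub_self]
  obtain ⟨t₂, h₂⟩ := exists_kill (S := S) M _ h2
  refine ⟨t₂ * t₁, (t₂ : R) • u₁, ?_⟩
  rw [smul_sub, sub_eq_zero] at h₂
  rw [Matrix.mulVec_smul, ← h₂, smul_smul, Submonoid.coe_mul]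

include M in
lemma Ex.localize {a b c : ℕ} {A : Matrix (Fin a) (Fin b) R} {B : Matrix (Fin b) (Fin c) R}
    (h : Ex A B) : Ex (A.map (algebraMap R S)) (B.map (algebraMap R S)) := by
  intro v hv
  obtain ⟨t, w, h1, h2⟩ := exists_ker_lift M A v hv
  obtain ⟨u, hu⟩ := h w h2
  have htu : IsUnit (algebraMap R S t) := IsLocalization.map_units S t
  obtain ⟨t', ht'⟩ := htu.exists_left_inv
  refine ⟨t' • (algebraMap R S ∘ u), ?_⟩
  rw [Matrix.mulVec_smul, map_mulVec, hu, ← h1, smul_smul, ht', one_smul]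

end Localization

/-- exactness after localization at `p`, expressed over `R`. -/
def ExAt (p : Ideal R) {a b c : ℕ} (A : Matrix (Fin a) (Fin b) R) (B : Matrix (Fin b) (Fin c) R) :
    Prop :=
  ∀ w : Fin b → R, A *ᵥ w = 0 → ∃ t : R, t ∉ p ∧ ∃ u : Fin c → R, B *ᵥ u = t • w

lemma ExAt.of_ex (p : Ideal R) [p.IsPrime] (S : Type u) [CommRing S] [Algebra R S]
    [IsLocalization.AtPrime S p] {a b c : ℕ} {A : Matrix (Fin a) (Fin b) R}
    {B : Matrix (Fin b) (Fin c) R} (h : Ex (A.map (algebraMap R S)) (B.map (algebraMap R S))) :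
    ExAt p A B := by
  intro w hw
  have h1 : (A.map (algebraMap R S)) *ᵥ (algebraMap R S ∘ w) = 0 := by
    rw [map_mulVec, hw]
    ext i
    simp
  obtain ⟨u, hu⟩ := h _ h1
  obtain ⟨t, u', hu'⟩ := exists_range_lift p.primeCompl B w u hu
  exact ⟨t, t.2, u', hu'⟩

lemma ExAt.ex [IsLocalRing R] {a b c : ℕ} {A : Matrix (Fin a) (Fin b) R}
    {B : Matrix (Fin b) (Fin c) R} (h : ExAt (maximalIdeal R) A B) : Ex A B := by
  intro w hw
  obtain ⟨t, ht, u, hu⟩ := h w hw
  have htu : IsUnit t := by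
    by_contra hcon
    exact ht ((mem_maximalIdeal _).mpr hcon)
  obtain ⟨t', ht'⟩ := htu.exists_left_inv
  refine ⟨t' • u, ?_⟩
  rw [Matrix.mulVec_smul, hu, smul_smul, ht', one_smul]

lemma exists_prime_ann [IsNoetherianRing R] {M : Type u} [AddCommGroup M] [Module R M] (x : M)
    (hx : x ≠ 0) : ∃ P : Ideal R, P.IsPrime ∧ ∃ b : R, b • x ≠ 0 ∧ ∀ a : R, a • (b • x) = 0 ↔ a ∈ P := by
  have hx' : (⟨x, Submodule.mem_span_singleton_self x⟩ : Submodule.span R {x}) ≠ 0 := by
    intro h
    exact hx (congrArg Subtype.val h)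
  obtain ⟨P, hP, _⟩ := exists_le_isAssociatedPrime_of_isNoetherianRing R _ hx'
  rw [isAssociatedPrime_iff] at hP
  obtain ⟨hP1, ⟨y, hy⟩, rfl⟩ := hP
  obtain ⟨b, rfl⟩ := Submodule.mem_span_singleton.mp hy
  have key : ∀ a : R, a • (b • x) = 0 ↔
      a ∈ (⊥ : Submodule R (Submodule.span R {x})).colon {⟨b • x, hy⟩} := by
    intro a
    rw [Submodule.mem_colon_singleton, Submodule.mem_bot]
    constructor
    · intro h
      exact Subtype.ext h
    · intro h
      exact congrArg Subtype.val h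
  refine ⟨_, hP1, b, ?_, key⟩
  intro h
  apply hP1.ne_top
  rw [Ideal.eq_top_iff_one, ← key, one_smul, h]

section Local

variable [IsLocalRing R] [IsNoetherianRing R]

/-- the cokernel modules -/
abbrev Cok (n : ℕ → ℕ) (A : (i : ℕ) → Matrix (Fin (n i)) (Fin (n (i + 1))) R) (j : ℕ) : Type u :=
  (Fin (n j) → R) ⧸ LinearMap.range (A j).mulVecLin

omit [IsNoetherianRing R] in
lemma EV_cok_of_SR (n : ℕ → ℕ) (A : (i : ℕ) → Matrix (Fin (n i)) (Fin (n (i + 1))) R) (j r k : ℕ)
    (hSR : SR (A j) r) (hR : EV (kk R) (ModuleCat.of R R) k) :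
    EV (kk R) (ModuleCat.of R (Cok n A j)) k := by
  obtain ⟨P, Q, L, S, hPQ, hL, hS⟩ := hSR
  refine EV.retract' (M := Fin (n j) → R) (M' := Cok n A j)
    (Submodule.liftQ _ (LinearMap.id - Matrix.toLin' (P * L)) ?_) (Submodule.mkQ _) ?_ (hR.pi (n j))
  · rintro _ ⟨u, rfl⟩
    rw [LinearMap.mem_ker]
    change (A j) *ᵥ u - (P * L) *ᵥ ((A j) *ᵥ u) = 0
    rw [Matrix.mulVec_mulVec, hPQ, Matrix.mul_assoc P L, ← Matrix.mul_assoc L, hL, Matrix.one_mul,
      sub_self]
  · apply Submodule.linearMap_qext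
    apply LinearMap.ext
    intro v
    refine (Submodule.Quotient.eq _).mpr ?_
    change (v - (P * L) *ᵥ v) - v ∈ _
    have : (P * L) *ᵥ v ∈ LinearMap.range (A j).mulVecLin := by
      refine ⟨(S * L) *ᵥ v, ?_⟩
      rw [Matrix.mulVecLin_apply, Matrix.mulVec_mulVec, hPQ, Matrix.mul_assoc P Q,
        ← Matrix.mul_assoc Q, hS, Matrix.one_mul]
    have h2 : (v - (P * L) *ᵥ v) - v = -((P * L) *ᵥ v) := by abel
    rw [h2]
    exact Submodule.neg_mem _ this

omit [IsNoetherianRing R] in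
lemma EV_cok_step (n : ℕ → ℕ) (A : (i : ℕ) → Matrix (Fin (n i)) (Fin (n (i + 1))) R) (j k : ℕ)
    (hA : A j * A (j + 1) = 0) (hex : Ex (A j) (A (j + 1)))
    (h1 : EV (kk R) (ModuleCat.of R (Cok n A (j + 1))) (k + 1))
    (hR : EV (kk R) (ModuleCat.of R R) k) :
    EV (kk R) (ModuleCat.of R (Cok n A j)) k := by
  let f : Cok n A (j + 1) →ₗ[R] (Fin (n j) → R) := Submodule.liftQ _ (A j).mulVecLin (by
    rintro _ ⟨u, rfl⟩
    rw [LinearMap.mem_ker]
    change (A j) *ᵥ ((A (j + 1)) *ᵥ u) = 0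
    rw [Matrix.mulVec_mulVec, hA, Matrix.zero_mulVec])
  refine EV.right' (f := f) (g := Submodule.mkQ _) ?_ ?_ (Submodule.mkQ_surjective _) h1
    (hR.pi (n j))
  · rw [injective_iff_map_eq_zero]
    intro z hz
    obtain ⟨v, rfl⟩ := Submodule.Quotient.mk_surjective _ z
    have hv : (A j) *ᵥ v = 0 := hz
    obtain ⟨u, hu⟩ := hex v hv
    rw [Submodule.Quotient.mk_eq_zero]
    exact ⟨u, hu⟩
  · intro y
    rw [Submodule.mkQ_apply, Submodule.Quotient.mk_eq_zero]
    constructor
    · rintro ⟨u, rfl⟩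
      exact ⟨Submodule.Quotient.mk u, rfl⟩
    · rintro ⟨z, rfl⟩
      obtain ⟨v, rfl⟩ := Submodule.Quotient.mk_surjective _ z
      exact ⟨v, rfl⟩

/-- The key local statement: exactness off the maximal ideal, complementary ranks, and for each `j`
either split at `j` or depth at least `j`. -/
theorem exact_of_punctured (e : ℕ) (n r : ℕ → ℕ) (hr : RK e n r)
    (A : (i : ℕ) → Matrix (Fin (n i)) (Fin (n (i + 1))) R) (hz : A e = 0)
    (hA : ∀ i, i + 1 ≤ e → A i * A (i + 1) = 0)
    (hrk : ∀ j, j + 1 ≤ e → minorIdeal (A j) (r (j + 1) + 1) = ⊥)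
    (hdep : ∀ j, j + 1 ≤ e → minorIdeal (A j) (r (j + 1)) = ⊤ ∨
      EV (kk R) (ModuleCat.of R R) (j + 1))
    (hpunc : ∀ j, j + 1 ≤ e → ∀ p : Ideal R, p.IsPrime → p ≠ maximalIdeal R →
      ExAt p (A j) (A (j + 1))) :
    ∀ j, j + 1 ≤ e → Ex (A j) (A (j + 1)) := by
  -- depth
  obtain ⟨d, hde, hd1, hd2⟩ : ∃ d, d ≤ e ∧ EV (kk R) (ModuleCat.of R R) d ∧
      ∀ j, d < j → j ≤ e → ¬ EV (kk R) (ModuleCat.of R R) j := by
    classical
    let P : ℕ → Prop := fun d => EV (kk R) (ModuleCat.of R R) d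
    refine ⟨Nat.findGreatest P e, Nat.findGreatest_le e,
      Nat.findGreatest_spec (P := P) (Nat.zero_le e) (EV.zero _ _), ?_⟩
    intro j hj hje
    exact Nat.findGreatest_is_greatest hj hje
  have hSR : ∀ j, d ≤ j → j ≤ e → SR (A j) (r (j + 1)) := by
    intro j hdj hje
    rcases eq_or_lt_of_le hje with h | h
    · subst h
      rw [hz, hr.1]
      exact SR_zero _ _
    · rcases hdep j (by omega) with h1 | h1
      · exact SR.of_minorIdeal h1 (hrk j (by omega))
      · exact absurd h1 (hd2 (j + 1) (by omega) (by omega))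
  -- descending induction
  have main : ∀ k j, j + k = e → (∀ i, j ≤ i → i + 1 ≤ e → Ex (A i) (A (i + 1))) ∧
      (j ≤ d → EV (kk R) (ModuleCat.of R (Cok n A j)) j) := by
    intro k
    induction k with
    | zero =>
      intro j hj
      obtain rfl : j = e := by omega
      refine ⟨fun i h1 h2 => by omega, fun hjd => ?_⟩
      obtain rfl : j = d := by omega
      exact EV_cok_of_SR n A j _ j (hSR j le_rfl le_rfl) hd1
    | succ k ih =>
      intro j hj
      obtain ⟨ih1, ih2⟩ := ih (j + 1) (by omega)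
      have hexj : Ex (A j) (A (j + 1)) := by
        rcases Nat.lt_or_ge j d with hlt | hge
        · -- depth argument
          have hEV1 := (ih2 (by omega)).mono (show 1 ≤ j + 1 by omega)
          rw [EV_one_iff] at hEV1
          intro v hv
          by_contra hcon
          have hx : (Submodule.Quotient.mk v : Cok n A (j + 1)) ≠ 0 := by
            rw [Ne, Submodule.Quotient.mk_eq_zero]
            rintro ⟨u, hu⟩
            exact hcon ⟨u, hu⟩
          obtain ⟨P, hP, b, hb, hPb⟩ := exists_prime_ann (R := R) _ hx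
          by_cases hPm : P = maximalIdeal R
          · apply hb
            apply hEV1
            intro a ha
            rw [hPb, hPm]
            exact ha
          · obtain ⟨t, htP, u, hu⟩ := hpunc j (by omega) P hP hPm v hv
            apply htP
            rw [← hPb, smul_comm]
            have : t • (Submodule.Quotient.mk v : Cok n A (j + 1)) = 0 := by
              rw [← Submodule.Quotient.mk_smul, Submodule.Quotient.mk_eq_zero]
              exact ⟨u, hu⟩
            rw [this, smul_zero]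
        · exact fun v hv => (hSR j hge (by omega)).exact (hSR (j + 1) (by omega) (by omega))
            (hA j (by omega)) (by
              rw [Fintype.card_fin]
              exact hr.2 (j + 1) (by omega) (by omega)) v hv
      refine ⟨?_, ?_⟩
      · intro i h1 h2
        rcases eq_or_lt_of_le h1 with h | h
        · subst h
          exact hexj
        · exact ih1 i h h2
      · intro hjd
        rcases eq_or_lt_of_le hjd with h | h
        · subst h
          exact EV_cok_of_SR n A j _ j (hSR j le_rfl (by omega)) hd1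
        · exact EV_cok_step n A j j (hA j (by omega)) hexj (ih2 h) (hd1.mono hjd)
  intro j hj
  exact (main (e - j) j (by omega)).1 j le_rfl hj

end Local

end Groth.Agent.CalgB.BuchEis
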