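import Groth.Agent.CalgB.BuchEis2

/-!
Buchsbaum–Eisenbud, third file: the two implications.
-/

set_option autoImplicit false
universe u

namespace Groth.Agent.CalgB.BuchEis

open CAlgX Matrix Groth.Agent.CalgB.Minors Groth.Agent.CalgB.DepthLite IsLocalRing

variable {R : Type u} [CommRing R]

lemma ExAt.localize {S : Type u} [CommRing S] [Algebra R S] (M : Submonoid R) [IsLocalization M S]
    (P : Ideal S) {a b c : ℕ} {A : Matrix (Fin a) (Fin b) R}
    {B : Matrix (Fin b) (Fin c) R} (h : ExAt (P.comap (algebraMap R S)) A B) :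
    ExAt P (A.map (algebraMap R S)) (B.map (algebraMap R S)) := by
  intro v hv
  obtain ⟨t, w, h1, h2⟩ := exists_ker_lift M A v hv
  obtain ⟨t', ht', u, hu⟩ := h w h2
  refine ⟨algebraMap R S t' , ht', ?_⟩
  have htu : IsUnit (algebraMap R S t) := IsLocalization.map_units S t
  obtain ⟨c, hc⟩ := htu.exists_left_inv
  refine ⟨c • (algebraMap R S ∘ u), ?_⟩
  rw [Matrix.mulVec_smul, map_mulVec, hu, algebraMap_smul_comp, ← h1, smul_smul, smul_smul]
  congr 1
  calc c * algebraMap R S t' * algebraMap R S t = (c * algebraMap R S t) * algebraMap R S t' := by ring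
    _ = algebraMap R S t' := by rw [hc, one_mul]

/-- ranks and grades imply exactness (at every prime). -/
theorem exAt_of_data [IsNoetherianRing R] (e : ℕ) (n r : ℕ → ℕ) (hr : RK e n r)
    (A : (i : ℕ) → Matrix (Fin (n i)) (Fin (n (i + 1))) R) (hz : A e = 0)
    (hA : ∀ i, i + 1 ≤ e → A i * A (i + 1) = 0)
    (hrk : ∀ j, j + 1 ≤ e → minorIdeal (A j) (r (j + 1) + 1) = ⊥)
    (hdep : ∀ j, j + 1 ≤ e → minorIdeal (A j) (r (j + 1)) = ⊤ ∨
      ∃ rs : List R, rs.length = j + 1 ∧ (∀ x ∈ rs, x ∈ minorIdeal (A j) (r (j + 1))) ∧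
        RingTheory.Sequence.IsWeaklyRegular R rs) :
    ∀ (N : ℕ) (p : Ideal R), p.IsPrime → p.height < N → ∀ j, j + 1 ≤ e → ExAt p (A j) (A (j + 1)) := by
  intro N
  induction N with
  | zero =>
    intro p _ hp
    simp at hp
  | succ N ih =>
    intro p hp hpN j hj
    let S := Localization.AtPrime p
    have : IsNoetherianRing S := IsLocalization.isNoetherianRing p.primeCompl S inferInstance
    refine ExAt.of_ex p S ?_
    refine exact_of_punctured e n r hr (fun i => (A i).map (algebraMap R S)) ?_ ?_ ?_ ?_ ?_ j hj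
    · rw [hz]
      ext i k
      simp
    · intro i hi
      change (A i).map (algebraMap R S) * (A (i + 1)).map (algebraMap R S) = 0
      rw [← Matrix.map_mul, hA i hi]
      ext i k
      simp
    · intro i hi
      rw [minorIdeal_map, hrk i hi, Ideal.map_bot]
    · intro i hi
      rw [minorIdeal_map]
      by_cases hle : minorIdeal (A i) (r (i + 1)) ≤ p
      · rcases hdep i hi with h | ⟨rs, hlen, hmem, hreg⟩
        · rw [h, top_le_iff] at hle
          exact absurd hle hp.ne_top
        · right
          have h1 := RingTheory.Sequence.IsWeaklyRegular.of_isLocalization S p.primeCompl hreg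
          have h2 := EV.of_regular (R := S) (M := S) (rs.map (algebraMap R S)) (by
            intro x hx
            obtain ⟨y, hy, rfl⟩ := List.mem_map.mp hx
            rw [IsLocalization.AtPrime.to_map_mem_maximal_iff S p]
            exact hle (hmem y hy)) h1
          rw [List.length_map, hlen] at h2
          exact h2
      · left
        obtain ⟨x, hx, hxp⟩ := Set.not_subset.mp hle
        rw [Ideal.eq_top_iff_one]
        have h1 : IsUnit (algebraMap R S x) := IsLocalization.map_units S (⟨x, hxp⟩ : p.primeCompl)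
        have h2 := Ideal.mem_map_of_mem (algebraMap R S) hx
        exact (Ideal.eq_top_iff_one _).mp (Ideal.eq_top_of_isUnit_mem _ h2 h1)
    · intro i hi P hP hPm
      refine ExAt.localize p.primeCompl P ?_
      have hle : P.comap (algebraMap R S) < p := by
        have h1 : P ≤ maximalIdeal S := le_maximalIdeal hP.ne_top
        have h2 : P.comap (algebraMap R S) ≤ p := by
          have h3 := Ideal.comap_mono (f := algebraMap R S) h1
          have h4 : (maximalIdeal S).comap (algebraMap R S) = p :=
            IsLocalization.AtPrime.under_maximalIdeal S p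
          rwa [h4] at h3
        refine lt_of_le_of_ne h2 (fun h => hPm ?_)
        have h5 : P.under R = p := h
        exact Localization.AtPrime.eq_maximalIdeal_iff_under_eq.mp h5
      have hP' : (P.comap (algebraMap R S)).IsPrime := Ideal.comap_isPrime _ _
      refine ih _ hP' ?_ i hi
      have h6 : (P.comap (algebraMap R S)).height < p.height :=
        Ideal.height_strict_mono_of_isPrime hle
      have h7 : p.height ≤ N := by
        have : p.height < (N : ℕ∞) + 1 := by exact_mod_cast hpN
        exact ENat.lt_add_one_iff (by simp) |>.mp this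
      exact lt_of_lt_of_le h6 h7

theorem ex_of_data [IsLocalRing R] [IsNoetherianRing R] (e : ℕ) (n r : ℕ → ℕ) (hr : RK e n r)
    (A : (i : ℕ) → Matrix (Fin (n i)) (Fin (n (i + 1))) R) (hz : A e = 0)
    (hA : ∀ i, i + 1 ≤ e → A i * A (i + 1) = 0)
    (hrk : ∀ j, j + 1 ≤ e → minorIdeal (A j) (r (j + 1) + 1) = ⊥)
    (hdep : ∀ j, j + 1 ≤ e → minorIdeal (A j) (r (j + 1)) = ⊤ ∨
      ∃ rs : List R, rs.length = j + 1 ∧ (∀ x ∈ rs, x ∈ minorIdeal (A j) (r (j + 1))) ∧
        RingTheory.Sequence.IsWeaklyRegular R rs) (j : ℕ) (hj : j + 1 ≤ e) :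
    Ex (A j) (A (j + 1)) := by
  refine ExAt.ex ?_
  obtain ⟨N, hN⟩ := ENat.ne_top_iff_exists.mp
    (Ideal.height_ne_top_of_isPrime (I := maximalIdeal R))
  refine exAt_of_data e n r hr A hz hA hrk hdep (N + 1) (maximalIdeal R) inferInstance ?_ j hj
  rw [← hN]
  exact_mod_cast Nat.lt_succ_self N

end Groth.Agent.CalgB.BuchEis
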