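import Groth.Agent.CalgB.BuchEis2

/-!
Buchsbaum–Eisenbud, fourth file: exactness implies the rank and grade conditions.
-/

set_option autoImplicit false
universe u

namespace Groth.Agent.CalgB.BuchEis

open CAlgX Matrix Groth.Agent.CalgB.Minors Groth.Agent.CalgB.DepthLite IsLocalRing

variable {R : Type u} [CommRing R]

lemma exists_socle_of_assoc [IsNoetherianRing R] (q : Ideal R) (hq : q ∈ associatedPrimes R R)
    [q.IsPrime] : ∃ s : Localization.AtPrime q, s ≠ 0 ∧
      ∀ y ∈ maximalIdeal (Localization.AtPrime q), y * s = 0 := by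
  have hq' : IsAssociatedPrime q R := hq
  rw [isAssociatedPrime_iff] at hq'
  obtain ⟨_, x, hx⟩ := hq'
  have hx' : ∀ a : R, a ∈ q ↔ a * x = 0 := by
    intro a
    rw [hx, Submodule.mem_colon_singleton, Submodule.mem_bot, smul_eq_mul]
  refine ⟨algebraMap R _ x, ?_, ?_⟩
  · intro h
    obtain ⟨t, ht⟩ := (IsLocalization.map_eq_zero_iff q.primeCompl (Localization.AtPrime q) x).mp h
    exact t.2 ((hx' t).mpr ht)
  · intro y hy
    obtain ⟨a, t, rfl⟩ := IsLocalization.exists_mk'_eq q.primeCompl y
    rw [IsLocalization.AtPrime.mk'_mem_maximal_iff (Localization.AtPrime q) q] at hy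
    have h1 : a * x = 0 := (hx' a).mp hy
    rw [IsLocalization.mk'_eq_mul_mk'_one a t, mul_assoc,
      mul_comm (IsLocalization.mk' _ 1 t), ← mul_assoc, ← map_mul, h1, map_zero, zero_mul]

lemma eq_zero_of_assoc [IsNoetherianRing R] (x : R)
    (h : ∀ q ∈ associatedPrimes R R, ∀ _ : q.IsPrime,
      algebraMap R (Localization.AtPrime q) x = 0) : x = 0 := by
  by_contra hx
  obtain ⟨P, hP, hle⟩ := exists_le_isAssociatedPrime_of_isNoetherianRing R x hx
  have hPp : P.IsPrime := hP.isPrime
  obtain ⟨t, ht⟩ := (IsLocalization.map_eq_zero_iff P.primeCompl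
    (Localization.AtPrime P) x).mp (h P hP hPp)
  apply t.2
  apply hle
  rw [Submodule.mem_colon_singleton, Submodule.mem_bot]
  exact ht

/-- the data at an associated prime -/
lemma exists_rk_at_assoc [IsNoetherianRing R] (q : Ideal R) (hq : q ∈ associatedPrimes R R)
    [q.IsPrime] (e : ℕ) (n : ℕ → ℕ)
    (A : (i : ℕ) → Matrix (Fin (n i)) (Fin (n (i + 1))) R) (hz : A e = 0)
    (hA : ∀ i, i + 1 ≤ e → A i * A (i + 1) = 0) (hex : ∀ i, i + 1 ≤ e → Ex (A i) (A (i + 1))) :
    ∃ r : ℕ → ℕ, RK e n r ∧ ∀ j, j ≤ e →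
      SR ((A j).map (algebraMap R (Localization.AtPrime q))) (r (j + 1)) := by
  obtain ⟨s, hs, hsm⟩ := exists_socle_of_assoc q hq
  refine exists_rk_of_depth_zero e n (fun i => (A i).map (algebraMap R (Localization.AtPrime q)))
    ?_ ?_ ?_ s hs hsm
  · rw [hz]
    ext i k
    simp
  · intro i hi
    rw [← Matrix.map_mul, hA i hi]
    ext i k
    simp
  · intro i hi
    exact (hex i hi).localize q.primeCompl

/-- the quotient step: exactness modulo a nonzerodivisor, shifted. -/
lemma Ex.quotient {a b c d : ℕ} (x : R) (hx : ∀ y : R, x * y = 0 → y = 0)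
    {A : Matrix (Fin a) (Fin b) R} {B : Matrix (Fin b) (Fin c) R} {C : Matrix (Fin c) (Fin d) R}
    (hAB : A * B = 0) (h1 : Ex A B) (h2 : Ex B C) :
    Ex (B.map (Ideal.Quotient.mk (Ideal.span {x}))) (C.map (Ideal.Quotient.mk (Ideal.span {x}))) := by
  intro v' hv'
  have hlift : ∃ v : Fin c → R, v' = Ideal.Quotient.mk (Ideal.span {x}) ∘ v := by
    have : ∀ i, ∃ y : R, Ideal.Quotient.mk (Ideal.span {x}) y = v' i := fun i =>
      Ideal.Quotient.mk_surjective _
    choose v hv using this
    exact ⟨v, funext fun i => (hv i).symm⟩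
  obtain ⟨v, rfl⟩ := hlift
  have h3 : ∀ i, ∃ w : R, (B *ᵥ v) i = x * w := by
    intro i
    have h4 := congrFun hv' i
    have h5 : Ideal.Quotient.mk (Ideal.span {x}) ((B *ᵥ v) i) = 0 := by
      rw [RingHom.map_mulVec]
      exact h4
    rw [Ideal.Quotient.eq_zero_iff_mem, Ideal.mem_span_singleton] at h5
    exact h5
  choose w hw using h3
  have hw' : B *ᵥ v = x • w := funext fun i => hw i
  have h6 : A *ᵥ w = 0 := by
    ext i
    apply hx
    have h7 : A *ᵥ (x • w) = 0 := by
      rw [← hw', Matrix.mulVec_mulVec, hAB, Matrix.zero_mulVec]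
    rw [Matrix.mulVec_smul] at h7
    exact congrFun h7 i
  obtain ⟨u, hu⟩ := h1 w h6
  have h8 : B *ᵥ (v - x • u) = 0 := by
    rw [Matrix.mulVec_sub, Matrix.mulVec_smul, hu, hw', sub_self]
  obtain ⟨z, hz⟩ := h2 _ h8
  refine ⟨Ideal.Quotient.mk (Ideal.span {x}) ∘ z, ?_⟩
  ext i
  rw [← RingHom.map_mulVec, hz, Function.comp_apply, Pi.sub_apply, map_sub, Pi.smul_apply,
    smul_eq_mul]
  have : Ideal.Quotient.mk (Ideal.span {x}) (x * u i) = 0 := by
    rw [Ideal.Quotient.eq_zero_iff_mem]
    exact Ideal.mul_mem_right _ _ (Ideal.mem_span_singleton_self x)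
  rw [this, sub_zero]

/-- lifting a regular sequence from the quotient -/
lemma exists_regular_lift [IsLocalRing R] (x : R) (hx : ∀ y : R, x * y = 0 → y = 0)
    (hxm : x ∈ maximalIdeal R) (J : Ideal R) (hxJ : x ∈ J) (k : ℕ)
    (h : ∃ rs : List (R ⧸ Ideal.span {x}), rs.length = k ∧
      (∀ y ∈ rs, y ∈ J.map (Ideal.Quotient.mk (Ideal.span {x}))) ∧
      RingTheory.Sequence.IsRegular (R ⧸ Ideal.span {x}) rs) :
    ∃ rs : List R, rs.length = k + 1 ∧ (∀ y ∈ rs, y ∈ J) ∧ RingTheory.Sequence.IsRegular R rs := by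
  obtain ⟨rs, hlen, hmem, hreg⟩ := h
  have hlift : ∀ l : List (R ⧸ Ideal.span {x}),
      (∀ y ∈ l, y ∈ J.map (Ideal.Quotient.mk (Ideal.span {x}))) →
      ∃ l' : List R, l'.map (Ideal.Quotient.mk (Ideal.span {x})) = l ∧ ∀ y ∈ l', y ∈ J := by
    intro l
    induction l with
    | nil => exact fun _ => ⟨[], rfl, by simp⟩
    | cons a l ih =>
      intro h
      obtain ⟨l', h1, h2⟩ := ih (fun y hy => h y (List.mem_cons_of_mem _ hy))
      obtain ⟨b, hb, hba⟩ := (Ideal.mem_map_iff_of_surjective _ Ideal.Quotient.mk_surjective).mp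
        (h a List.mem_cons_self)
      refine ⟨b :: l', by rw [List.map_cons, h1, hba], ?_⟩
      intro y hy
      rcases List.mem_cons.mp hy with rfl | hy
      · exact hb
      · exact h2 y hy
  obtain ⟨l, hl, hlJ⟩ := hlift rs hmem
  have hlm : ∀ y ∈ l, y ∈ maximalIdeal R := by
    intro y hy
    rw [mem_maximalIdeal, mem_nonunits_iff]
    intro hu
    apply hreg.2
    have h1 : Ideal.Quotient.mk (Ideal.span {x}) y ∈ Ideal.ofList rs := by
      rw [← hl]
      exact Ideal.subset_span (List.mem_map_of_mem hy)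
    have h2 : Ideal.ofList rs = ⊤ := Ideal.eq_top_of_isUnit_mem _ h1 (hu.map _)
    rw [h2, Submodule.top_smul]
  refine ⟨x :: l, ?_, ?_, ?_⟩
  · rw [List.length_cons, ← hlen, ← hl, List.length_map]
  · intro y hy
    rcases List.mem_cons.mp hy with rfl | hy
    · exact hxJ
    · exact hlJ y hy
  · rw [IsLocalRing.isRegular_iff_isWeaklyRegular_of_subset_maximalIdeal (by
      intro y hy
      rcases List.mem_cons.mp hy with rfl | hy
      · exact hxm
      · exact hlm y hy)]
    rw [RingTheory.Sequence.isWeaklyRegular_cons_iff]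
    refine ⟨?_, ?_⟩
    · intro a b hab
      have : x * (a - b) = 0 := by
        rw [mul_sub, sub_eq_zero]
        exact hab
      exact sub_eq_zero.mp (hx _ this)
    · have e : (R ⧸ Ideal.span {x}) ≃ₗ[R] QuotSMulTop x R :=
        Submodule.quotEquivOfEq _ _ (by
          rw [← Submodule.ideal_span_singleton_smul, smul_eq_mul, Ideal.mul_top])
      rw [← LinearEquiv.isWeaklyRegular_congr e,
        ← RingTheory.Sequence.isWeaklyRegular_map_algebraMap_iff (R ⧸ Ideal.span {x})]
      rw [show l.map (algebraMap R (R ⧸ Ideal.span {x})) = rs from hl]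
      exact hreg.1

/-- prime avoidance -/
lemma exists_nonzerodivisor [IsLocalRing R] [IsNoetherianRing R] (e : ℕ) (J : ℕ → Ideal R)
    (hm : maximalIdeal R ∉ associatedPrimes R R)
    (hnot : ∀ q ∈ associatedPrimes R R, ∀ j, j < e → ¬ J j ≤ q) :
    ∃ x ∈ maximalIdeal R, (∀ j, j < e → x ∈ J j) ∧ ∀ y : R, x * y = 0 → y = 0 := by
  obtain ⟨x, hxK, hxass⟩ : ∃ x ∈ maximalIdeal R * ∏ j ∈ Finset.range e, J j,
      x ∉ ⋃ q ∈ associatedPrimes R R, (q : Set R) := by
    by_contra hcon
    have hsub : ((maximalIdeal R * ∏ j ∈ Finset.range e, J j : Ideal R) : Set R) ⊆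
        ⋃ q ∈ associatedPrimes R R, (q : Set R) := by
      intro y hy
      by_contra hy'
      exact hcon ⟨y, hy, hy'⟩
    have hfin := associatedPrimes.finite R R
    obtain ⟨q, hq, hle⟩ := (Ideal.subset_union_prime_finite hfin (f := fun q => q) ⊤ ⊤
      (fun q hq _ _ => IsAssociatedPrime.isPrime hq)).mp hsub
    have hqp : q.IsPrime := IsAssociatedPrime.isPrime hq
    rcases hqp.mul_le.mp hle with h1 | h1
    · have : q = maximalIdeal R := ((maximalIdeal.isMaximal R).eq_of_le hqp.ne_top h1).symm
      exact hm (this ▸ hq)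
    · rw [hqp.prod_le] at h1
      obtain ⟨j, hj, hle'⟩ := h1
      exact hnot q hq j (Finset.mem_range.mp hj) hle'
  rw [biUnion_associatedPrimes_eq_compl_nonZeroDivisors, Set.notMem_compl_iff] at hxass
  refine ⟨x, Ideal.mul_le_left hxK, ?_, ?_⟩
  · intro j hj
    have h1 : x ∈ ∏ j ∈ Finset.range e, J j := Ideal.mul_le_right hxK
    have h2 : j ∈ Finset.range e := Finset.mem_range.mpr hj
    have h3 : ∏ j ∈ Finset.range e, J j ≤ J j :=
      Ideal.prod_le_inf.trans (Finset.inf_le h2)
    exact h3 h1
  · intro y hy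
    exact (mul_right_mem_nonZeroDivisors_eq_zero_iff hxass).mp (by rwa [mul_comm] at hy)

theorem data_of_exact (e : ℕ) : ∀ (R : Type u) [CommRing R] [IsLocalRing R] [IsNoetherianRing R]
    (n r : ℕ → ℕ) (_ : RK e n r)
    (A : (i : ℕ) → Matrix (Fin (n i)) (Fin (n (i + 1))) R) (_ : A e = 0)
    (_ : ∀ i, i + 1 ≤ e → A i * A (i + 1) = 0) (_ : ∀ i, i + 1 ≤ e → Ex (A i) (A (i + 1)))
    (j : ℕ), j + 1 ≤ e → minorIdeal (A j) (r (j + 1) + 1) = ⊥ ∧
      (minorIdeal (A j) (r (j + 1)) = ⊤ ∨ ∃ rs : List R, rs.length = j + 1 ∧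
        (∀ x ∈ rs, x ∈ minorIdeal (A j) (r (j + 1))) ∧ RingTheory.Sequence.IsRegular R rs) := by
  induction e with
  | zero =>
    intro R _ _ _ n r _ A _ _ _ j hj
    omega
  | succ e ih =>
    intro R _ _ _ n r hr A hz hA hex j hj
    -- information at associated primes
    have hass : ∀ q ∈ associatedPrimes R R, ∀ _ : q.IsPrime, ∀ j, j ≤ e + 1 →
        SR ((A j).map (algebraMap R (Localization.AtPrime q))) (r (j + 1)) := by
      intro q hq _ j hj
      obtain ⟨r', hr', h'⟩ := exists_rk_at_assoc q hq (e + 1) n A hz hA hex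
      rw [hr.unique hr' (j + 1) (by omega) (by omega)]
      exact h' j hj
    have hnot : ∀ q ∈ associatedPrimes R R, ∀ j, j ≤ e + 1 →
        ¬ minorIdeal (A j) (r (j + 1)) ≤ q := by
      intro q hq j hj hle
      have hqp : q.IsPrime := hq.isPrime
      have h1 := (hass q hq hqp j hj).minorIdeal_eq_top
      rw [minorIdeal_map] at h1
      have h2 := Ideal.map_mono (f := algebraMap R (Localization.AtPrime q)) hle
      rw [h1, top_le_iff, Localization.AtPrime.map_eq_maximalIdeal] at h2
      exact (maximalIdeal.isMaximal (Localization.AtPrime q)).ne_top h2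
    refine ⟨?_, ?_⟩
    · rw [minorIdeal_eq_bot_iff]
      intro f g
      apply eq_zero_of_assoc
      intro q hq hqp
      have h1 := (hass q hq hqp j (by omega)).minorIdeal_eq_bot
      rw [minorIdeal_eq_bot_iff] at h1
      rw [RingHom.map_det]
      exact h1 f g
    · by_cases hm : maximalIdeal R ∈ associatedPrimes R R
      · left
        by_contra hne
        exact hnot _ hm j (by omega) (le_maximalIdeal hne)
      · rw [or_iff_not_imp_left]
        intro htop
        -- prime avoidance
        obtain ⟨x, hxm, hxJ, hx⟩ := exists_nonzerodivisor (e + 1)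
          (fun j => minorIdeal (A j) (r (j + 1))) hm (fun q hq j hj => hnot q hq j (by omega))
        match j with
        | 0 =>
          refine ⟨[x], rfl, ?_, ?_⟩
          · intro y hy
            rw [List.mem_singleton.mp hy]
            exact hxJ 0 (by omega)
          · rw [IsLocalRing.isRegular_iff_isWeaklyRegular_of_subset_maximalIdeal (by
              intro y hy
              rw [List.mem_singleton.mp hy]
              exact hxm), RingTheory.Sequence.isWeaklyRegular_singleton_iff]
            intro a b hab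
            have : x * (a - b) = 0 := by
              rw [mul_sub, sub_eq_zero]
              exact hab
            exact sub_eq_zero.mp (hx _ this)
        | j + 1 =>
          have hnt : Nontrivial (R ⧸ Ideal.span {x}) := by
            rw [Ideal.Quotient.nontrivial_iff]
            intro h
            have h1 : Ideal.span {x} ≤ maximalIdeal R := by
              rw [Ideal.span_singleton_le_iff_mem]
              exact hxm
            rw [h, top_le_iff] at h1
            exact (maximalIdeal.isMaximal R).ne_top h1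
          have hloc : IsLocalRing (R ⧸ Ideal.span {x}) :=
            IsLocalRing.of_surjective' (Ideal.Quotient.mk _) Ideal.Quotient.mk_surjective
          obtain ⟨-, h2⟩ := ih (R ⧸ Ideal.span {x}) (fun i => n (i + 1)) (fun i => r (i + 1))
            ⟨hr.1, fun j h1 h2 => hr.2 (j + 1) (by omega) (by omega)⟩
            (fun i => (A (i + 1)).map (Ideal.Quotient.mk (Ideal.span {x})))
            (by
              rw [hz]
              ext i k
              simp)
            (by
              intro i hi
              change (A (i + 1)).map _ * (A (i + 2)).map _ = 0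
              rw [← Matrix.map_mul, hA (i + 1) (by omega)]
              ext i k
              simp)
            (by
              intro i hi
              exact Ex.quotient x hx (hA i (by omega)) (hex i (by omega)) (hex (i + 1) (by omega)))
            j (by omega)
          rw [minorIdeal_map] at h2
          refine exists_regular_lift x hx hxm _ (hxJ (j + 1) (by omega)) (j + 1) ?_
          rcases h2 with h2 | h2
          · exfalso
            apply htop
            have h3 := congrArg (Ideal.comap (Ideal.Quotient.mk (Ideal.span {x}))) h2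
            rw [Ideal.comap_map_of_surjective _ Ideal.Quotient.mk_surjective, Ideal.comap_top,
              ← RingHom.ker_eq_comap_bot, Ideal.mk_ker] at h3
            have h4 : Ideal.span {x} ≤ minorIdeal (A (j + 1)) (r (j + 1 + 1)) := by
              rw [Ideal.span_singleton_le_iff_mem]
              exact hxJ (j + 1) (by omega)
            rwa [sup_eq_left.mpr h4] at h3
          · exact h2

end Groth.Agent.CalgB.BuchEis
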