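import Groth.Agent.CalgB.DerTri
import Mathlib.Algebra.Homology.HomologicalComplexLimits
import Mathlib.CategoryTheory.Limits.Constructions.EventuallyConstant
import Mathlib.CategoryTheory.Functor.OfSequence
import Mathlib.Algebra.Homology.SingleHomology
import Mathlib.Algebra.Homology.HomotopyCategory.HomComplexSingle

/-!
Stepwise construction of bounded above resolutions of complexes by objects of a given class of projectives
(e.g. finite free modules): `exists_resolution`.
-/

set_option autoImplicit false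

open CategoryTheory CategoryTheory.Limits CategoryTheory.Pretriangulated CategoryTheory.Triangulated
open scoped ZeroObject

universe w v u

namespace Groth.Agent.CalgB.DerRes

open DerivedCategory CochainComplex CochainComplex.HomComplex Groth.Agent.CalgB.DerTri

variable {C : Type u} [Category.{v} C] [Abelian C] [HasDerivedCategory.{w} C]

theorem mappingConeCompTriangle_distinguished {X₁ X₂ X₃ : CochainComplex C ℤ} (f : X₁ ⟶ X₂) (g : X₂ ⟶ X₃) :
    Q.mapTriangle.obj (mappingConeCompTriangle f g) ∈ distTriang (DerivedCategory C) := by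
  refine isomorphic_distinguished _ (Qh.map_distinguished _ (HomotopyCategory.mappingConeCompTriangleh_distinguished f g)) _ ?_
  exact (Functor.mapTriangleIso (quotientCompQhIso C)).symm.app _ ≪≫
      (Functor.mapTriangleCompIso (HomotopyCategory.quotient C _) Qh).app _

/-- If `A → B` is the inclusion of the target of `g : S → A` in the mapping cone of `g`, its own cone is `S[1]`. -/
theorem cone_inr_iso {S E : CochainComplex C ℤ} (g : S ⟶ E) :
    Nonempty (Q.obj (mappingCone (mappingCone.inr g)) ≅ Q.obj (S⟦(1 : ℤ)⟧)) := by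
  have e := mappingCone.rotateHomotopyEquiv g
  exact ⟨(quotientCompQhIso C).symm.app _ ≪≫ Qh.mapIso (HomotopyCategory.isoOfHomotopyEquiv e).symm ≪≫
    (quotientCompQhIso C).app _⟩


theorem cone_step {E E' K : CochainComplex C ℤ} (ι : E ⟶ E') (f' : E' ⟶ K) (m m' : ℤ) (hm : m' + 1 = m)
    (h1 : (Q.obj (mappingCone ι)).IsLE m) (h2 : (Q.obj (mappingCone (ι ≫ f'))).IsLE m)
    (h3 : Epi (HomologicalComplex.homologyMap (mappingConeCompTriangle ι f').mor₁ m)) :
    (Q.obj (mappingCone f')).IsLE m' := by
  refine (isLE_obj₃_iff (mappingConeCompTriangle_distinguished ι f') m m' hm).2 ⟨fun i hi => ?_, ?_⟩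
  · have z1 : IsZero ((homologyFunctor C i).obj (Q.obj (mappingCone ι))) := isZero_of_isLE _ m i hi
    have z2 : IsZero ((homologyFunctor C i).obj (Q.obj (mappingCone (ι ≫ f')))) := isZero_of_isLE _ m i hi
    exact ⟨0, z1.eq_of_src _ _, z2.eq_of_src _ _⟩
  · exact (epi_homologyFunctor_map_Q_iff _ m).2 h3

section Attach

omit [HasDerivedCategory.{w} C]

variable {S E K : CochainComplex C ℤ} (g : S ⟶ E) (f : E ⟶ K) (n m : ℤ) (hm : m + 1 = n)
  (α : Cochain S K (-1)) (hα : δ (-1) 0 α = Cochain.ofHom (g ≫ f))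

/-- The lift to the cone of the inclusion `E → cone(g)`. -/
noncomputable def attLift : S.X n ⟶ (mappingCone (mappingCone.inr g)).X m :=
  g.f n ≫ (mappingCone.inl (mappingCone.inr g)).v n m (by omega) -
    (mappingCone.inl g).v n m (by omega) ≫ (mappingCone.inr (mappingCone.inr g)).f m

theorem attLift_d (hS : S.d n (n + 1) = 0) :
    attLift g n m hm ≫ (mappingCone (mappingCone.inr g)).d m n = 0 := by
  unfold attLift
  have hg : g.f n ≫ E.d n (n + 1) = 0 := by rw [g.comm, hS, zero_comp]
  rw [Preadditive.sub_comp, Category.assoc, Category.assoc,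
    mappingCone.inl_v_d _ n m (n + 1) (by omega) (by omega), mappingCone.inr_f_d,
    mappingCone.inl_v_d_assoc _ n m (n + 1) (by omega) (by omega)]
  simp [reassoc_of% hg, hS]

/-- The cycle in the cone of `f` given by `g` and `α`. -/
noncomputable def attCyc : S.X n ⟶ (mappingCone f).X m :=
  g.f n ≫ (mappingCone.inl f).v n m (by omega) - α.v n m (by omega) ≫ (mappingCone.inr f).f m

set_option backward.isDefEq.respectTransparency false in
theorem attLift_comp :
    attLift g n m hm ≫
      (mappingCone.map (mappingCone.inr g) (mappingCone.inr g ≫ mappingCone.desc g α f hα) (𝟙 E)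
        (mappingCone.desc g α f hα) (by rw [Category.id_comp])).f m =
    attCyc g (mappingCone.inr g ≫ mappingCone.desc g α f hα) n m hm α := by
  unfold attLift attCyc
  simp [mappingCone.map]

set_option backward.isDefEq.respectTransparency false in
/-- If the cycle `attCyc` generates the cohomology of the cone in degree `m`, then the composition triangle is
surjective on cohomology in degree `m`. -/
theorem epi_homologyMap_att (hS : S.d n (n + 1) = 0)
    (hc : attCyc g f n m hm α ≫ (mappingCone f).d m n = 0)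
    (hepi : Epi ((mappingCone f).liftCycles (attCyc g f n m hm α) n (by simp [hm]) hc ≫
        (mappingCone f).homologyπ m)) :
    Epi (HomologicalComplex.homologyMap
      (mappingCone.map (mappingCone.inr g) (mappingCone.inr g ≫ mappingCone.desc g α f hα) (𝟙 E)
        (mappingCone.desc g α f hα) (by rw [Category.id_comp])) m) := by
  obtain ⟨hc, hepi⟩ : ∃ hc : attCyc g (mappingCone.inr g ≫ mappingCone.desc g α f hα) n m hm α ≫
      (mappingCone (mappingCone.inr g ≫ mappingCone.desc g α f hα)).d m n = 0,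
      Epi ((mappingCone (mappingCone.inr g ≫ mappingCone.desc g α f hα)).liftCycles
        (attCyc g (mappingCone.inr g ≫ mappingCone.desc g α f hα) n m hm α) n (by simp [hm]) hc ≫
        (mappingCone (mappingCone.inr g ≫ mappingCone.desc g α f hα)).homologyπ m) := by
    have : ∀ (f'' : E ⟶ K), f'' = f → ∃ hc : attCyc g f'' n m hm α ≫ (mappingCone f'').d m n = 0,
      Epi ((mappingCone f'').liftCycles (attCyc g f'' n m hm α) n (by simp [hm]) hc ≫
        (mappingCone f'').homologyπ m) := by
      rintro _ rfl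
      exact ⟨hc, hepi⟩
    exact this _ (mappingCone.inr_desc g α f hα)
  have h1 : ((mappingCone (mappingCone.inr g)).liftCycles (attLift g n m hm) n (by simp [hm]) (attLift_d g n m hm hS) ≫
      (mappingCone (mappingCone.inr g)).homologyπ m) ≫
      HomologicalComplex.homologyMap
      (mappingCone.map (mappingCone.inr g) (mappingCone.inr g ≫ mappingCone.desc g α f hα) (𝟙 E)
        (mappingCone.desc g α f hα) (by rw [Category.id_comp])) m =
      (mappingCone (mappingCone.inr g ≫ mappingCone.desc g α f hα)).liftCycles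
      (attCyc g (mappingCone.inr g ≫ mappingCone.desc g α f hα) n m hm α) n (by simp [hm]) hc ≫
        (mappingCone (mappingCone.inr g ≫ mappingCone.desc g α f hα)).homologyπ m := by
    rw [Category.assoc, HomologicalComplex.homologyπ_naturality, ← Category.assoc]
    congr 1
    rw [← cancel_mono (HomologicalComplex.iCycles _ _)]
    simp [attLift_comp]
  rw [← h1] at hepi
  exact @epi_of_epi _ _ _ _ _ _ _ hepi

end Attach

set_option backward.isDefEq.respectTransparency false in
theorem exists_attaching {E K : CochainComplex C ℤ} (f : E ⟶ K) {F : C} (n m : ℤ) (hm : m + 1 = n) (x : F ⟶ E.X n)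
    (hx : x ≫ E.d n (n + 1) = 0) (y : F ⟶ K.X m) (hxy : x ≫ f.f n = y ≫ K.d m n) :
    ∃ (S : CochainComplex C ℤ) (e : S.X n ≅ F) (g : S ⟶ E) (α : Cochain S K (-1)),
      δ (-1) 0 α = Cochain.ofHom (g ≫ f) ∧ g.f n = e.hom ≫ x ∧ α.v n m (by omega) = e.hom ≫ y ∧
      (∀ i, i ≠ n → IsZero (S.X i)) ∧ S.d n (n + 1) = 0 ∧
      Nonempty (Q.obj (S⟦(1 : ℤ)⟧) ≅ (DerivedCategory.singleFunctor C m).obj F) := by
  let S : CochainComplex C ℤ := (CochainComplex.singleFunctor C n).obj F
  let e : S.X n ≅ F := HomologicalComplex.singleObjXSelf (ComplexShape.up ℤ) n F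
  let g : S ⟶ E := HomologicalComplex.mkHomFromSingle x (by
    intro j hj
    obtain rfl : n + 1 = j := hj
    exact hx)
  have hgn : g.f n = e.hom ≫ x :=
    HomologicalComplex.mkHomFromSingle_f _ _
  have hg : Cochain.ofHom g = Cochain.fromSingleMk x (add_zero n) := by
    apply (Cochain.fromSingleEquiv (add_zero n)).injective
    simp [Cochain.fromSingleEquiv, hgn, e]
  let α : Cochain S K (-1) := Cochain.fromSingleMk y (by omega : n + (-1) = m)
  have hα : δ (-1) 0 α = Cochain.ofHom (g ≫ f) := by
    rw [Cochain.δ_fromSingleMk y (by omega : n + (-1) = m) 0 n (by omega), Cochain.ofHom_comp, hg,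
      ← Cochain.fromSingleMk_postcomp, hxy]
  have hαv : α.v n m (by omega) = e.hom ≫ y := Cochain.fromSingleMk_v _ _
  exact ⟨S, e, g, α, hα, hgn, hαv, fun i hi => HomologicalComplex.isZero_single_obj_X _ _ _ _ hi, rfl,
    ⟨(Q.commShiftIso (1 : ℤ)).app S ≪≫ ((DerivedCategory.singleFunctors C).shiftIso 1 m n (by omega)).app F⟩⟩

section Stages

variable (P : ObjectProperty C) (T : ObjectProperty (DerivedCategory C)) (K : CochainComplex C ℤ) (b : ℤ)

/-- The `k`-th stage of the construction of a resolution of `K`. -/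
structure Stage (k : ℕ) where
  /-- the complex -/
  E : CochainComplex C ℤ
  /-- the map -/
  f : E ⟶ K
  zero : ∀ i : ℤ, i ≤ b - k ∨ b < i → IsZero (E.X i)
  prop : ∀ i : ℤ, P (E.X i)
  cone : T (Q.obj (mappingCone f))
  isLE : (Q.obj (mappingCone f)).IsLE (b - k)

/-- The hypotheses on a class `P` of projectives of an abelian category and a class `T` of objects of the derived category
under which one can construct resolutions by objects of `P`. -/
structure ResolutionData : Prop where
  P_iso : ∀ {X Y : C}, (X ≅ Y) → P X → P Y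
  P_zero : ∀ {X : C}, IsZero X → P X
  P_sum : ∀ {X Y : C}, P X → P Y → P (X ⊞ Y)
  P_proj : ∀ {X : C}, P X → Projective X
  T_iso : ∀ {X Y : DerivedCategory C}, (X ≅ Y) → T X → T Y
  T_top : ∀ {X : DerivedCategory C} (n : ℤ), T X → X.IsLE n →
    ∃ (F : C) (p : F ⟶ (homologyFunctor C n).obj X), P F ∧ Epi p
  T_cone : ∀ {Δ : Triangle (DerivedCategory C)} (n : ℤ) (F : C), Δ ∈ distTriang (DerivedCategory C) → P F →
    (Δ.obj₁ ≅ (DerivedCategory.singleFunctor C n).obj F) → Δ.obj₂.IsLE n → T Δ.obj₂ → T Δ.obj₃

variable {P T K b}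

theorem stage_zero (h : ResolutionData P T) (hK : T (Q.obj K)) (hb : (Q.obj K).IsLE b) : Nonempty (Stage P T K b 0) := by
  have hiso : Nonempty (Q.obj K ≅ Q.obj (mappingCone (0 : (0 : CochainComplex C ℤ) ⟶ K))) := by
    have hT := mappingCone_triangle_distinguished (0 : (0 : CochainComplex C ℤ) ⟶ K)
    have h0 : IsIso ((Q.mapTriangle.obj (mappingCone.triangle (0 : (0 : CochainComplex C ℤ) ⟶ K))).mor₂) := by
      rw [← Triangle.isZero₁_iff_isIso₂ _ hT]
      exact Q.map_isZero (isZero_zero _)
    exact ⟨@asIso _ _ _ _ _ h0⟩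
  obtain ⟨e⟩ := hiso
  have hz : ∀ i : ℤ, IsZero ((0 : CochainComplex C ℤ).X i) := fun i =>
    (HomologicalComplex.eval C (ComplexShape.up ℤ) i).map_isZero (isZero_zero _)
  refine ⟨⟨0, 0, fun i _ => hz i, fun i => h.P_zero (hz i), h.T_iso e hK, ?_⟩⟩
  simp only [Nat.cast_zero, sub_zero]
  exact TStructure.t.isLE_of_iso e b

theorem stage_succ (h : ResolutionData P T) (k : ℕ) (s : Stage P T K b k) :
    ∃ (s' : Stage P T K b (k + 1)) (ι : s.E ⟶ s'.E), ι ≫ s'.f = s.f ∧ ∀ i : ℤ, b - k < i → IsIso (ι.f i) := by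
  obtain ⟨m, hm⟩ : ∃ m : ℤ, m = b - k := ⟨_, rfl⟩
  obtain ⟨n, hn⟩ : ∃ n : ℤ, m + 1 = n := ⟨_, rfl⟩
  have hLE : (Q.obj (mappingCone s.f)).IsLE m := by rw [hm]; exact s.isLE
  obtain ⟨F, p, hF, hp⟩ := h.T_top m s.cone hLE
  have hFp := h.P_proj hF
  let p' : F ⟶ (mappingCone s.f).homology m := p ≫ ((homologyFunctorFactors C m).app (mappingCone s.f)).hom
  have hp' : Epi p' := epi_comp _ _
  let q : F ⟶ (mappingCone s.f).cycles m := Projective.factorThru p' ((mappingCone s.f).homologyπ m)
  have hq : q ≫ (mappingCone s.f).homologyπ m = p' := Projective.factorThru_comp _ _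
  obtain ⟨x, y, hz⟩ := mappingCone.decomp_to s.f (q ≫ (mappingCone s.f).iCycles m) n hn
  have hzd : (q ≫ (mappingCone s.f).iCycles m) ≫ (mappingCone s.f).d m n = 0 := by simp
  have hzd' := hzd
  rw [hz, Preadditive.add_comp, Category.assoc, Category.assoc,
    mappingCone.inl_v_d _ n m (n + 1) (by omega) (by omega), mappingCone.inr_f_d] at hzd'
  have hx : x ≫ s.E.d n (n + 1) = 0 := by
    have h1 := hzd' =≫ (mappingCone.fst s.f).1.v n (n + 1) rfl
    simpa using h1
  have hxy : x ≫ s.f.f n = (-y) ≫ K.d m n := by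
    have h1 := hzd' =≫ (mappingCone.snd s.f).v n n (add_zero n)
    simp at h1
    rw [Preadditive.neg_comp]
    exact eq_neg_of_add_eq_zero_left h1
  -- the single complex, the attaching map and the homotopy
  obtain ⟨S, e, g, α, hα, hgn, hαv, hSz, hSd, ⟨eS⟩⟩ := exists_attaching s.f n m hn x hx (-y) hxy
  have hcyc : attCyc g s.f n m hn α = e.hom ≫ q ≫ (mappingCone s.f).iCycles m := by
    unfold attCyc
    rw [hz, hgn, hαv]
    simp
  have hc : attCyc g s.f n m hn α ≫ (mappingCone s.f).d m n = 0 := by
    rw [hcyc, Category.assoc, hzd, comp_zero]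
  have hepi : Epi ((mappingCone s.f).liftCycles (attCyc g s.f n m hn α) n (by simp [hn]) hc ≫
        (mappingCone s.f).homologyπ m) := by
    have : (mappingCone s.f).liftCycles (attCyc g s.f n m hn α) n (by simp [hn]) hc = e.hom ≫ q := by
      rw [← cancel_mono ((mappingCone s.f).iCycles m)]
      simp [hcyc]
    rw [this, Category.assoc, hq]
    exact epi_comp _ _
  have h3 := epi_homologyMap_att g s.f n m hn α hα hSd hc hepi
  -- the cone of the inclusion
  have hcone : Nonempty (Q.obj (mappingCone (mappingCone.inr g)) ≅ (DerivedCategory.singleFunctor C m).obj F) := by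
    obtain ⟨e'⟩ := cone_inr_iso g
    exact ⟨e' ≪≫ eS⟩
  obtain ⟨ec⟩ := hcone
  have hdesc : mappingCone.inr g ≫ mappingCone.desc g α s.f hα = s.f := mappingCone.inr_desc g α s.f hα
  have hXiso : ∀ i, Nonempty ((mappingCone g).X i ≅ (S.X (i + 1) ⊞ s.E.X i)) := fun i =>
    ⟨HomologicalComplex.homotopyCofiber.XIsoBiprod g i (i + 1) rfl⟩
  have hinr : ∀ i, i ≠ m → IsIso ((mappingCone.inr g).f i) := fun i hi => by
    refine ⟨(mappingCone.snd g).v i i (add_zero i), mappingCone.inr_f_snd_v g i, ?_⟩
    have h1 := mappingCone.id_X g i (i + 1) rfl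
    rw [← h1, (hSz (i + 1) (by omega)).eq_of_tgt ((mappingCone.fst g).1.v i (i + 1) rfl) 0, zero_comp, zero_add]
  refine ⟨⟨mappingCone g, mappingCone.desc g α s.f hα, fun i hi => ?_, fun i => ?_, ?_, ?_⟩,
    mappingCone.inr g, hdesc, fun i hi => hinr i (by omega)⟩
  · obtain ⟨ei⟩ := hXiso i
    refine IsZero.of_iso ?_ ei
    rw [biprod_isZero_iff]
    push_cast at hi
    exact ⟨hSz _ (by omega), s.zero _ (by omega)⟩
  · obtain ⟨ei⟩ := hXiso i
    refine h.P_iso ei.symm (h.P_sum ?_ (s.prop i))
    by_cases hi : i + 1 = n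
    · subst hi
      exact h.P_iso e.symm hF
    · exact h.P_zero (hSz _ hi)
  · refine h.T_cone m F (mappingConeCompTriangle_distinguished (mappingCone.inr g) (mappingCone.desc g α s.f hα)) hF
      ec ?_ ?_
    · change (Q.obj (mappingCone (mappingCone.inr g ≫ mappingCone.desc g α s.f hα))).IsLE m
      rw [hdesc]
      exact hLE
    · change T (Q.obj (mappingCone (mappingCone.inr g ≫ mappingCone.desc g α s.f hα)))
      rw [hdesc]
      exact s.cone
  · refine cone_step (mappingCone.inr g) (mappingCone.desc g α s.f hα) m _ (by push_cast; omega) ?_ ?_ h3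
    · exact TStructure.t.isLE_of_iso ec.symm m
    · rw [hdesc]
      exact hLE

/-- A choice of successive stages. -/
noncomputable def stageSeq (h : ResolutionData P T) (s₀ : Stage P T K b 0) : (k : ℕ) → Stage P T K b k
  | 0 => s₀
  | k + 1 => (stage_succ h k (stageSeq h s₀ k)).choose

/-- The transition maps between the stages. -/
noncomputable def stageι (h : ResolutionData P T) (s₀ : Stage P T K b 0) (k : ℕ) :
    (stageSeq h s₀ k).E ⟶ (stageSeq h s₀ (k + 1)).E :=
  (stage_succ h k (stageSeq h s₀ k)).choose_spec.choose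

theorem stageι_comp (h : ResolutionData P T) (s₀ : Stage P T K b 0) (k : ℕ) :
    stageι h s₀ k ≫ (stageSeq h s₀ (k + 1)).f = (stageSeq h s₀ k).f :=
  (stage_succ h k (stageSeq h s₀ k)).choose_spec.choose_spec.1

theorem isIso_stageι (h : ResolutionData P T) (s₀ : Stage P T K b 0) (k : ℕ) (i : ℤ) (hi : b - k < i) :
    IsIso ((stageι h s₀ k).f i) :=
  (stage_succ h k (stageSeq h s₀ k)).choose_spec.choose_spec.2 i hi

/-- The sequence of the stages. -/
noncomputable def stageFunctor (h : ResolutionData P T) (s₀ : Stage P T K b 0) : ℕ ⥤ CochainComplex C ℤ :=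
  Functor.ofSequence (X := fun k => (stageSeq h s₀ k).E) (stageι h s₀)

theorem stageFunctor_map (h : ResolutionData P T) (s₀ : Stage P T K b 0) (k : ℕ) :
    (stageFunctor h s₀).map (homOfLE (Nat.le_add_right k 1)) = stageι h s₀ k :=
  Functor.ofSequence_map_homOfLE_succ _ _

/-- The cocone on the sequence of the stages given by the maps to `K`. -/
noncomputable def stageCocone (h : ResolutionData P T) (s₀ : Stage P T K b 0) : Cocone (stageFunctor h s₀) where
  pt := K
  ι := NatTrans.ofSequence (fun k => (stageSeq h s₀ k).f) (fun k => by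
    rw [stageFunctor_map]
    exact (stageι_comp h s₀ k).trans (Category.comp_id _).symm)

theorem stageFunctor_isIso (h : ResolutionData P T) (s₀ : Stage P T K b 0) (i : ℤ) (k : ℕ) (hk : b - k < i) :
    (stageFunctor h s₀ ⋙ HomologicalComplex.eval C (ComplexShape.up ℤ) i).IsEventuallyConstantFrom k := by
  have key : ∀ (j l : ℕ) (hl : l = k + j), IsIso ((stageFunctor h s₀ ⋙
      HomologicalComplex.eval C (ComplexShape.up ℤ) i).map (homOfLE (by omega : k ≤ l))) := by
    intro j
    induction j with
    | zero =>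
      rintro l hl
      obtain rfl : l = k := by omega
      have : (homOfLE (le_refl l)) = 𝟙 l := rfl
      rw [this, CategoryTheory.Functor.map_id]
      infer_instance
    | succ j ih =>
      rintro l hl
      obtain rfl : l = (k + j) + 1 := by omega
      have h1 : (homOfLE (by omega : k ≤ k + j + 1)) =
          homOfLE (by omega : k ≤ k + j) ≫ homOfLE (by omega : k + j ≤ k + j + 1) := rfl
      rw [h1, Functor.map_comp]
      have h2 := ih (k + j) rfl
      have h3 : IsIso ((stageFunctor h s₀ ⋙ HomologicalComplex.eval C (ComplexShape.up ℤ) i).map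
          (homOfLE (by omega : k + j ≤ k + j + 1))) := by
        have h4 : (stageFunctor h s₀).map (homOfLE (by omega : k + j ≤ k + j + 1)) = stageι h s₀ (k + j) :=
          stageFunctor_map h s₀ (k + j)
        rw [Functor.comp_map, h4]
        exact isIso_stageι h s₀ (k + j) i (by push_cast; omega)
      exact IsIso.comp_isIso
  intro l φ
  obtain ⟨j, hj⟩ := Nat.exists_eq_add_of_le (leOfHom φ)
  obtain rfl := Subsingleton.elim φ (homOfLE (by omega))
  exact key j l hj

end Stages

/-- **Resolutions.** Let `P` be a class of projectives and `T` a class of objects of the derived category such that the top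
cohomology of an object of `T` is a quotient of an object of `P`, and such that `T` is stable under killing it. Then every
complex bounded above whose class is in `T` admits a quasi-isomorphism from a complex of objects of `P` with the
same bound. -/
theorem exists_resolution [HasColimitsOfShape ℕ C] {P : ObjectProperty C} {T : ObjectProperty (DerivedCategory C)}
    (h : ResolutionData P T) (K : CochainComplex C ℤ) (b : ℤ) (hK : T (Q.obj K)) (hb : (Q.obj K).IsLE b) :
    ∃ (E : CochainComplex C ℤ) (f : E ⟶ K), QuasiIso f ∧ (∀ i, P (E.X i)) ∧ ∀ i, b < i → IsZero (E.X i) := by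
  obtain ⟨s₀⟩ := stage_zero h hK hb
  let c := colimit.cocone (stageFunctor h s₀)
  let hc : IsColimit c := colimit.isColimit (stageFunctor h s₀)
  have hiso : ∀ (i : ℤ) (k : ℕ), b - k < i → IsIso ((c.ι.app k).f i) := fun i k hk =>
    (stageFunctor_isIso h s₀ i k hk).isIso_ι_of_isColimit
      (isColimitOfPreserves (HomologicalComplex.eval C (ComplexShape.up ℤ) i) hc)
  have hfac : ∀ k, c.ι.app k ≫ hc.desc (stageCocone h s₀) = (stageSeq h s₀ k).f := fun k =>
    hc.fac (stageCocone h s₀) k
  refine ⟨c.pt, hc.desc (stageCocone h s₀), ?_, fun i => ?_, fun i hi => ?_⟩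
  · rw [quasiIso_iff]
    intro i
    obtain ⟨k, hk⟩ : ∃ k : ℕ, b - k < i - 1 := ⟨(b - i + 2).toNat, by omega⟩
    have h1 : QuasiIsoAt (c.ι.app k) i :=
      quasiIsoAt_of_isIso _ i (hiso _ k hk) (hiso _ k (by omega)) (hiso _ k (by omega))
    have h2 : QuasiIsoAt (c.ι.app k ≫ hc.desc (stageCocone h s₀)) i := by
      refine (hfac k).symm ▸ ?_
      rw [← isIso_homologyFunctor_map_Q_iff]
      exact ((isLE_obj₃_iff (mappingCone_triangle_distinguished (stageSeq h s₀ k).f) (b - k + 1) (b - k) rfl).1
        (stageSeq h s₀ k).isLE).1 i (by omega)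
    exact (quasiIsoAt_iff_comp_left (c.ι.app k) _ i).1 h2
  · obtain ⟨k, hk⟩ : ∃ k : ℕ, b - k < i := ⟨(b - i + 2).toNat, by omega⟩
    have := hiso i k hk
    exact h.P_iso (asIso ((c.ι.app k).f i)) ((stageSeq h s₀ k).prop i)
  · have := hiso i 0 (by simpa using hi)
    exact IsZero.of_iso ((stageSeq h s₀ 0).zero i (Or.inr hi)) (asIso ((c.ι.app 0).f i)).symm

end Groth.Agent.CalgB.DerRes
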