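import Mathlib.Algebra.Homology.DerivedCategory.KProjective
import Mathlib.Algebra.Homology.DerivedCategory.TStructure
import Mathlib.CategoryTheory.Triangulated.TStructure.Basic

/-!
General lemmas on the derived category of an abelian category: cohomology of cones and the canonical
t-structure, morphisms out of K-projective complexes, stupid truncations of cochain complexes.
-/

set_option autoImplicit false

open CategoryTheory CategoryTheory.Limits CategoryTheory.Pretriangulated CategoryTheory.Triangulated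

universe w v u

namespace Groth.Agent.CalgB.DerTri

variable {C : Type u} [Category.{v} C] [Abelian C]

section Derived

variable [HasDerivedCategory.{w} C]

open DerivedCategory

/-- Any morphism in the derived category from a K-projective complex is the image of a morphism of complexes. -/
theorem Q_map_surjective_of_isKProjective (K L : CochainComplex C ℤ) [K.IsKProjective] :
    Function.Surjective (Q.map : (K ⟶ L) → (Q.obj K ⟶ Q.obj L)) := by
  intro g
  obtain ⟨f', hf'⟩ := (CochainComplex.IsKProjective.Qh_map_bijective K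
    ((HomotopyCategory.quotient _ _).obj L)).2
      ((quotientCompQhIso C).hom.app K ≫ g ≫ (quotientCompQhIso C).inv.app L)
  obtain ⟨f, rfl⟩ := (HomotopyCategory.quotient _ _).map_surjective f'
  refine ⟨f, ?_⟩
  have h := quotientCompQhIso_hom_naturality f
  rw [hf', Category.assoc, Category.assoc] at h
  have h1 : (quotientCompQhIso C).inv.app L ≫ (quotientCompQhIso C).hom.app L = 𝟙 _ := by
    rw [← NatTrans.comp_app, Iso.inv_hom_id, NatTrans.id_app]
  rw [h1, Category.comp_id] at h
  exact ((cancel_epi ((quotientCompQhIso C).hom.app K)).1 h).symm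

/-- In a distinguished triangle `X → Y → Z`, the third object is in `D^{≤ m-1}` exactly when `X → Y` induces
isomorphisms on cohomology above degree `m` and an epimorphism in degree `m`. -/
theorem isLE_obj₃_iff {T : Triangle (DerivedCategory C)} (hT : T ∈ distTriang (DerivedCategory C)) (m m' : ℤ)
    (hm : m' + 1 = m) :
    T.obj₃.IsLE m' ↔ (∀ i : ℤ, m < i → IsIso ((homologyFunctor C i).map T.mor₁)) ∧
      Epi ((homologyFunctor C m).map T.mor₁) := by
  constructor
  · intro h
    have hz : ∀ i : ℤ, m ≤ i → IsZero ((homologyFunctor C i).obj T.obj₃) := fun i hi =>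
      isZero_of_isLE T.obj₃ m' i (by omega)
    have hepi : ∀ i : ℤ, m ≤ i → Epi ((homologyFunctor C i).map T.mor₁) := fun i hi =>
      (HomologySequence.epi_homologyMap_mor₁_iff T hT i).2 ((hz i hi).eq_of_tgt _ _)
    refine ⟨fun i hi => ?_, hepi m le_rfl⟩
    have : Epi ((homologyFunctor C i).map T.mor₁) := hepi i hi.le
    have : Mono ((homologyFunctor C i).map T.mor₁) :=
      (HomologySequence.mono_homologyMap_mor₁_iff T hT (i - 1) i (by omega)).2 ((hz _ (by omega)).eq_of_src _ _)
    exact isIso_of_mono_of_epi _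
  · rintro ⟨h1, h2⟩
    rw [DerivedCategory.isLE_iff]
    intro i hi
    have hmono : Mono ((homologyFunctor C (i + 1)).map T.mor₁) := by
      have := h1 (i + 1) (by omega)
      infer_instance
    have hepi : Epi ((homologyFunctor C i).map T.mor₁) := by
      rcases (show m ≤ i by omega).eq_or_lt with h | h
      · subst h; exact h2
      · have := h1 i h
        infer_instance
    have hδ := (HomologySequence.mono_homologyMap_mor₁_iff T hT i (i + 1) rfl).1 hmono
    have h0 := (HomologySequence.epi_homologyMap_mor₁_iff T hT i).1 hepi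
    have := (HomologySequence.epi_homologyMap_mor₂_iff T hT i (i + 1) rfl).2 hδ
    rw [IsZero.iff_id_eq_zero, ← cancel_epi ((homologyFunctor C i).map T.mor₂), h0, zero_comp, zero_comp]

theorem isLE_obj₁ {T : Triangle (DerivedCategory C)} (hT : T ∈ distTriang (DerivedCategory C)) (m : ℤ)
    (h₂ : T.obj₂.IsLE m) (h₃ : T.obj₃.IsLE (m - 1)) : T.obj₁.IsLE m := by
  rw [DerivedCategory.isLE_iff] at *
  intro i hi
  have h1 := (HomologySequence.exact₁ T hT (i - 1) i (by omega))
  exact h1.isZero_of_both_zeros ((h₃ _ (by omega)).eq_of_src _ _) ((h₂ _ (by omega)).eq_of_tgt _ _)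

theorem isLE_obj₂ {T : Triangle (DerivedCategory C)} (hT : T ∈ distTriang (DerivedCategory C)) (m : ℤ)
    (h₁ : T.obj₁.IsLE m) (h₃ : T.obj₃.IsLE m) : T.obj₂.IsLE m := by
  rw [DerivedCategory.isLE_iff] at *
  intro i hi
  have h1 := (HomologySequence.exact₂ T hT i)
  exact h1.isZero_of_both_zeros ((h₁ _ (by omega)).eq_of_src _ _) ((h₃ _ (by omega)).eq_of_tgt _ _)

theorem isLE_obj₃ {T : Triangle (DerivedCategory C)} (hT : T ∈ distTriang (DerivedCategory C)) (m : ℤ)
    (h₁ : T.obj₁.IsLE (m + 1)) (h₂ : T.obj₂.IsLE m) : T.obj₃.IsLE m := by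
  rw [DerivedCategory.isLE_iff] at *
  intro i hi
  have h1 := (HomologySequence.exact₃ T hT i (i + 1) rfl)
  exact h1.isZero_of_both_zeros ((h₂ _ (by omega)).eq_of_src _ _) ((h₁ _ (by omega)).eq_of_tgt _ _)

/-- A morphism from a complex of projectives vanishing outside `[m, b]` to an object of `D^{≤ m - 1}` is zero. -/
theorem hom_eq_zero_of_projective (E : CochainComplex C ℤ) (m b m' : ℤ) (hm : m' < m)
    (hE : ∀ i, i < m ∨ b < i → IsZero (E.X i)) (hP : ∀ i, Projective (E.X i)) (L : DerivedCategory C)
    (hL : L.IsLE m') (f : Q.obj E ⟶ L) : f = 0 := by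
  have : E.IsStrictlyLE b := by
    rw [CochainComplex.isStrictlyLE_iff]
    exact fun i hi => hE i (Or.inr hi)
  have := CochainComplex.isKProjective_of_projective E b
  obtain ⟨L', hL', ⟨e⟩⟩ := exists_iso_Q_obj_of_isLE L m'
  obtain ⟨φ, hφ⟩ := Q_map_surjective_of_isKProjective E L' (f ≫ e.hom)
  have : φ = 0 := by
    ext i
    by_cases hi : i < m
    · exact (hE i (Or.inl hi)).eq_of_src _ _
    · exact (CochainComplex.isZero_of_isStrictlyLE L' m' i (by omega)).eq_of_tgt _ _
  rw [this, Functor.map_zero] at hφ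
  rw [← cancel_mono e.hom, ← hφ, zero_comp]

end Derived

section StupidTruncation

open scoped ZeroObject

open Classical in
/-- The terms of the stupid truncation `σ_{≥ m} E`. -/
noncomputable def sgeX (E : CochainComplex C ℤ) (m i : ℤ) : C := if m ≤ i then E.X i else (0 : C)

open Classical in
/-- The inclusion of the stupid truncation, in degree `i`. -/
noncomputable def sgeι (E : CochainComplex C ℤ) (m i : ℤ) : sgeX E m i ⟶ E.X i :=
  if h : m ≤ i then eqToHom (if_pos h) else 0

open Classical in
/-- The projection to the stupid truncation, in degree `i`. -/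
noncomputable def sgeπ (E : CochainComplex C ℤ) (m i : ℤ) : E.X i ⟶ sgeX E m i :=
  if h : m ≤ i then eqToHom (if_pos h).symm else 0

theorem sgeX_isZero (E : CochainComplex C ℤ) (m i : ℤ) (h : i < m) : IsZero (sgeX E m i) := by
  unfold sgeX
  rw [if_neg (by omega)]
  exact isZero_zero C

theorem sgeι_sgeπ (E : CochainComplex C ℤ) (m i : ℤ) : sgeι E m i ≫ sgeπ E m i = 𝟙 _ := by
  by_cases h : m ≤ i
  · unfold sgeι sgeπ
    rw [dif_pos h, dif_pos h]
    simp
  · exact (sgeX_isZero E m i (by omega)).eq_of_src _ _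

theorem sgeπ_sgeι (E : CochainComplex C ℤ) (m i : ℤ) (h : m ≤ i) : sgeπ E m i ≫ sgeι E m i = 𝟙 _ := by
  unfold sgeι sgeπ
  rw [dif_pos h, dif_pos h]
  simp

/-- The stupid truncation `σ_{≥ m} E`. -/
noncomputable def sge (E : CochainComplex C ℤ) (m : ℤ) : CochainComplex C ℤ where
  X i := sgeX E m i
  d i j := sgeι E m i ≫ E.d i j ≫ sgeπ E m j
  shape i j h := by rw [E.shape i j h]; simp
  d_comp_d' i j k _ _ := by
    by_cases h : m ≤ j
    · have := sgeπ_sgeι E m j h
      simp only [Category.assoc]
      rw [reassoc_of% this]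
      simp
    · rw [(sgeX_isZero E m j (by omega)).eq_of_tgt (sgeι E m i ≫ E.d i j ≫ sgeπ E m j) 0, zero_comp]

/-- The inclusion `σ_{≥ m} E → E`. -/
noncomputable def sgeHom (E : CochainComplex C ℤ) (m : ℤ) : sge E m ⟶ E where
  f i := sgeι E m i
  comm' i j hij := by
    dsimp [sge]
    by_cases h : m ≤ j
    · rw [Category.assoc, Category.assoc, sgeπ_sgeι E m j h, Category.comp_id]
    · have hij' : i + 1 = j := hij
      rw [(sgeX_isZero E m i (by omega)).eq_of_src (sgeι E m i) 0]
      simp

theorem sge_isZero (E : CochainComplex C ℤ) (m i : ℤ) (h : i < m) : IsZero ((sge E m).X i) := sgeX_isZero E m i h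

theorem isIso_sgeHom_f (E : CochainComplex C ℤ) (m i : ℤ) (h : m ≤ i) : IsIso ((sgeHom E m).f i) :=
  ⟨sgeπ E m i, sgeι_sgeπ E m i, sgeπ_sgeι E m i h⟩

/-- The iso of terms in degrees `≥ m`. -/
noncomputable def sgeXIso (E : CochainComplex C ℤ) (m i : ℤ) (h : m ≤ i) : (sge E m).X i ≅ E.X i where
  hom := sgeι E m i
  inv := sgeπ E m i
  hom_inv_id := sgeι_sgeπ E m i
  inv_hom_id := sgeπ_sgeι E m i h

/-- A morphism of complexes which is an isomorphism in the degrees `i-1`, `i`, `i+1` is a quasi-isomorphism in degree `i`. -/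
theorem quasiIsoAt_of_isIso {K L : CochainComplex C ℤ} (f : K ⟶ L) (i : ℤ) (h₀ : IsIso (f.f (i - 1)))
    (h₁ : IsIso (f.f i)) (h₂ : IsIso (f.f (i + 1))) : QuasiIsoAt f i := by
  rw [quasiIsoAt_iff' f (i - 1) i (i + 1) (by simp) (by simp)]
  have : IsIso ((HomologicalComplex.shortComplexFunctor' C (ComplexShape.up ℤ) (i - 1) i (i + 1)).map f).τ₁ := h₀
  have : IsIso ((HomologicalComplex.shortComplexFunctor' C (ComplexShape.up ℤ) (i - 1) i (i + 1)).map f).τ₂ := h₁
  have : IsIso ((HomologicalComplex.shortComplexFunctor' C (ComplexShape.up ℤ) (i - 1) i (i + 1)).map f).τ₃ := h₂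
  apply ShortComplex.quasiIso_of_epi_of_isIso_of_mono

/-- A morphism of complexes which is an isomorphism in degree `i` and a monomorphism in degree `i+1` is an epimorphism on
cohomology in degree `i`. -/
theorem epi_homologyMap_of_isIso {K L : CochainComplex C ℤ} (f : K ⟶ L) (i : ℤ)
    (h₁ : IsIso (f.f i)) (h₂ : Mono (f.f (i + 1))) : Epi (HomologicalComplex.homologyMap f i) := by
  have h3 : IsIso (HomologicalComplex.cyclesMap f i) := by
    have hc : (L.iCycles i ≫ inv (f.f i)) ≫ K.d i (i + 1) = 0 := by
      have hd : inv (f.f i) ≫ K.d i (i + 1) ≫ f.f (i + 1) = L.d i (i + 1) := by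
        rw [← f.comm, IsIso.inv_hom_id_assoc]
      rw [← cancel_mono (f.f (i + 1)), zero_comp, Category.assoc, Category.assoc, hd]
      simp
    refine ⟨K.liftCycles (L.iCycles i ≫ inv (f.f i)) (i + 1) (by simp) hc, ?_, ?_⟩
    · rw [← cancel_mono (K.iCycles i)]
      simp
    · rw [← cancel_mono (L.iCycles i)]
      simp
  have h4 := HomologicalComplex.homologyπ_naturality f i
  have : Epi (K.homologyπ i ≫ HomologicalComplex.homologyMap f i) := by
    rw [h4]
    infer_instance
  exact epi_of_epi (K.homologyπ i) _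

theorem quasiIsoAt_sgeHom (E : CochainComplex C ℤ) (m i : ℤ) (h : m < i) : QuasiIsoAt (sgeHom E m) i :=
  quasiIsoAt_of_isIso _ i (isIso_sgeHom_f E m _ (by omega)) (isIso_sgeHom_f E m _ (by omega))
    (isIso_sgeHom_f E m _ (by omega))

theorem epi_homologyMap_sgeHom (E : CochainComplex C ℤ) (m : ℤ) :
    Epi (HomologicalComplex.homologyMap (sgeHom E m) m) :=
  epi_homologyMap_of_isIso _ m (isIso_sgeHom_f E m _ le_rfl)
    (by have := isIso_sgeHom_f E m (m + 1) (by omega); infer_instance)

end StupidTruncation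

section Transfer

variable [HasDerivedCategory.{w} C]

open DerivedCategory

/-- `H^i(Q f)` is an isomorphism iff `f` is a quasi-isomorphism in degree `i`. -/
theorem isIso_homologyFunctor_map_Q_iff {K L : CochainComplex C ℤ} (f : K ⟶ L) (i : ℤ) :
    IsIso ((homologyFunctor C i).map (Q.map f)) ↔ QuasiIsoAt f i := by
  rw [quasiIsoAt_iff_isIso_homologyMap]
  exact NatIso.isIso_map_iff (homologyFunctorFactors C i) f

theorem epi_homologyFunctor_map_Q_iff {K L : CochainComplex C ℤ} (f : K ⟶ L) (i : ℤ) :
    Epi ((homologyFunctor C i).map (Q.map f)) ↔ Epi (HomologicalComplex.homologyMap f i) :=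
  (MorphismProperty.epimorphisms C).arrow_mk_iso_iff
    (Arrow.isoMk ((homologyFunctorFactors C i).app K) ((homologyFunctorFactors C i).app L)
      (homologyFunctorFactors_hom_naturality f i).symm)

end Transfer

end Groth.Agent.CalgB.DerTri
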