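import Groth.Prelude.Def_Found
import Mathlib.Algebra.Module.Projective
import Mathlib.Algebra.DirectSum.Module
import Mathlib.RingTheory.Flat.Basic
import Mathlib.RingTheory.Flat.FaithfullyFlat.Basic
import Mathlib.RingTheory.TensorProduct.Basic
import Mathlib.LinearAlgebra.Projection
import Mathlib.Order.CompactlyGenerated.Basic
import Mathlib.Data.Set.Countable

/-!
Dévissage for descent of projectivity (Stacks 05A9): reduction to countably generated modules.
-/

set_option autoImplicit false
universe u

namespace Groth.Agent.CalgB.DescProj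

open TensorProduct

section lattice

variable {S P : Type u} [CommRing S] [AddCommGroup P] [Module S P] {ι : Type u} (Q : ι → Submodule S P)

/-- the sum of the `Q i`, `i ∈ J` -/
def QQ (J : Set ι) : Submodule S P := ⨆ i ∈ J, Q i

lemma QQ_mono {J J' : Set ι} (h : J ⊆ J') : QQ Q J ≤ QQ Q J' :=
  biSup_mono h

lemma QQ_iUnion {κ : Sort*} (J : κ → Set ι) : QQ Q (⋃ k, J k) = ⨆ k, QQ Q (J k) :=
  iSup_iUnion _ _

lemma QQ_union (J J' : Set ι) : QQ Q (J ∪ J') = QQ Q J ⊔ QQ Q J' :=
  iSup_union

lemma le_QQ {J : Set ι} {i : ι} (hi : i ∈ J) : Q i ≤ QQ Q J :=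
  le_biSup Q hi

lemma QQ_le {J : Set ι} {N : Submodule S P} (h : ∀ i ∈ J, Q i ≤ N) : QQ Q J ≤ N :=
  iSup₂_le h

lemma exists_finset_mem (hQ : iSup Q = ⊤) (x : P) : ∃ J : Finset ι, x ∈ QQ Q (J : Set ι) := by
  have : x ∈ iSup Q := by rw [hQ]; trivial
  rw [Submodule.mem_iSup_iff_exists_finset] at this
  exact this

lemma isCompl_QQ (hQ : iSup Q = ⊤) (hi : iSupIndep Q) (J : Set ι) :
    IsCompl (QQ Q J) (QQ Q Jᶜ) := by
  constructor
  · exact hi.disjoint_biSup_biSup disjoint_compl_right
  · rw [codisjoint_iff, ← QQ_union, Set.union_compl_self, eq_top_iff, ← hQ]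
    exact iSup_le fun i => le_QQ Q (Set.mem_univ i)

end lattice

section quotient

variable {R S M : Type u} [CommRing R] [CommRing S] [Algebra R S] [Module.Flat R S]
    [AddCommGroup M] [Module R M]

/-- If the base changes of `N ≤ N'` are direct summands of the projective module `S ⊗ M`, then
`S ⊗ (N' / N)` is projective. -/
lemma projective_tensor_quotient [Module.Projective S (S ⊗[R] M)] (N N' : Submodule R M)
    (C C' : Submodule S (S ⊗[R] M)) (h : IsCompl (N.baseChange S) C) (h' : IsCompl (N'.baseChange S) C')
    (hle : N ≤ N') :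
    Module.Projective S (S ⊗[R] (N' ⧸ N.submoduleOf N')) := by
  let u : S ⊗[R] N' →ₗ[S] S ⊗[R] M := N'.subtype.baseChange S
  have hu : Function.Injective u :=
    Module.Flat.lTensor_preserves_injective_linearMap _ N'.injective_subtype
  let v : S ⊗[R] N' →ₗ[S] S ⊗[R] (N' ⧸ N.submoduleOf N') := (N.submoduleOf N').mkQ.baseChange S
  have hv : Function.Surjective v := LinearMap.lTensor_surjective S (Submodule.mkQ_surjective _)
  have hker : ∀ x, v x = 0 ↔ u x ∈ N.baseChange S := by
    intro x
    constructor
    · intro hx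
      have hex := lTensor_exact S (LinearMap.exact_subtype_mkQ (N.submoduleOf N')) (Submodule.mkQ_surjective _)
      obtain ⟨y, hy⟩ := (hex x).1 hx
      have : u x = N.subtype.baseChange S ((Submodule.submoduleOfEquivOfLe hle).toLinearMap.baseChange S y) := by
        rw [← hy]
        change (N'.subtype.baseChange S ∘ₗ (N.submoduleOf N').subtype.baseChange S) y =
          (N.subtype.baseChange S ∘ₗ (Submodule.submoduleOfEquivOfLe hle).toLinearMap.baseChange S) y
        rw [← LinearMap.baseChange_comp, ← LinearMap.baseChange_comp]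
        rfl
      rw [this]
      exact ⟨_, rfl⟩
    · rintro ⟨z, hz⟩
      have h1 : u x = u ((Submodule.inclusion hle).baseChange S z) := by
        rw [← hz]
        change (N.subtype.baseChange S) z =
          (N'.subtype.baseChange S ∘ₗ (Submodule.inclusion hle).baseChange S) z
        rw [← LinearMap.baseChange_comp]
        rfl
      rw [hu h1]
      change ((N.submoduleOf N').mkQ.baseChange S ∘ₗ (Submodule.inclusion hle).baseChange S) z = 0
      rw [← LinearMap.baseChange_comp]
      have : (N.submoduleOf N').mkQ ∘ₗ Submodule.inclusion hle = 0 := by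
        ext ⟨y, hy⟩
        simp only [LinearMap.comp_apply, Submodule.mkQ_apply, LinearMap.zero_apply]
        rw [Submodule.Quotient.mk_eq_zero]
        exact hy
      rw [this, LinearMap.baseChange_zero, LinearMap.zero_apply]
  let e := (N.baseChange S).projection C h
  have he : ∀ x, e x ∈ N.baseChange S := fun x => Submodule.projection_apply_mem h x
  have he' : ∀ x ∈ N.baseChange S, e x = x := fun x hx => Submodule.projection_apply_of_mem_left h hx
  let w : S ⊗[R] N' →ₗ[S] S ⊗[R] M := (LinearMap.id - e) ∘ₗ u
  have hw : LinearMap.ker v ≤ LinearMap.ker w := by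
    intro x hx
    rw [LinearMap.mem_ker] at hx ⊢
    change u x - e (u x) = 0
    rw [he' _ ((hker x).1 hx), sub_self]
  let s : S ⊗[R] (N' ⧸ N.submoduleOf N') →ₗ[S] S ⊗[R] M :=
    (LinearMap.ker v).liftQ w hw ∘ₗ (v.quotKerEquivOfSurjective hv).symm.toLinearMap
  have hs : ∀ x, s (v x) = u x - e (u x) := by
    intro x
    have : (v.quotKerEquivOfSurjective hv).symm (v x) = (LinearMap.ker v).mkQ x := by
      rw [LinearEquiv.symm_apply_eq]
      rfl
    change (LinearMap.ker v).liftQ w hw ((v.quotKerEquivOfSurjective hv).symm (v x)) = _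
    rw [this]
    rfl
  let r : S ⊗[R] M →ₗ[S] S ⊗[R] (N' ⧸ N.submoduleOf N') :=
    v ∘ₗ (LinearEquiv.ofInjective u hu).symm.toLinearMap ∘ₗ (N'.baseChange S).projectionOnto C' h'
  have hr : ∀ x, r (u x) = v x := by
    intro x
    change v ((LinearEquiv.ofInjective u hu).symm ((N'.baseChange S).projectionOnto C' h' (u x))) = v x
    rw [Submodule.projectionOnto_apply_of_mem_left h' (x := u x) ⟨x, rfl⟩]
    congr 1
    rw [LinearEquiv.symm_apply_eq]
    rfl
  refine Module.Projective.of_split s r ?_
  refine LinearMap.ext fun z => ?_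
  obtain ⟨x, rfl⟩ := hv z
  rw [LinearMap.comp_apply, hs, LinearMap.id_apply]
  obtain ⟨y, hy⟩ : ∃ y, u y = e (u x) := Submodule.baseChange_mono S hle (he (u x))
  rw [← hy, ← map_sub, hr, map_sub, (hker y).2 (by rw [hy]; exact he _), sub_zero]

end quotient

section closure

variable {R S M : Type u} [CommRing R] [CommRing S] [Algebra R S]
    [AddCommGroup M] [Module R M] {ι : Type u} (Q : ι → Submodule S (S ⊗[R] M))

/-- a countable subset of `M` containing `x` whose `S`-span is a sum of `Q i` -/
lemma exists_countable_closure (hQ : iSup Q = ⊤) (hc : ∀ i, ∃ s : Set (S ⊗[R] M), s.Countable ∧ Submodule.span S s = Q i)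
    (x : M) : ∃ (C : Set M) (J : Set ι), C.Countable ∧ x ∈ C ∧
      (Submodule.span R C).baseChange S = QQ Q J := by
  classical
  -- supports
  have h1 : ∀ m : M, ∃ J : Finset ι, (1 : S) ⊗ₜ[R] m ∈ QQ Q (J : Set ι) := fun m => exists_finset_mem Q hQ _
  choose supp hsupp using h1
  -- every element of `S ⊗ M` is in the span of finitely many elements of `M`
  have h2 : ∀ z : S ⊗[R] M, ∃ F : Finset M, z ∈ (Submodule.span R (F : Set M)).baseChange S := by
    intro z
    induction z using TensorProduct.induction_on with
    | zero => exact ⟨∅, Submodule.zero_mem _⟩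
    | tmul s m =>
      exact ⟨{m}, Submodule.tmul_mem_baseChange_of_mem _ (Submodule.subset_span (by simp))⟩
    | add a b ha hb =>
      obtain ⟨F, hF⟩ := ha
      obtain ⟨G, hG⟩ := hb
      refine ⟨F ∪ G, Submodule.add_mem _ ?_ ?_⟩
      · exact Submodule.baseChange_mono S (Submodule.span_mono (by simp)) hF
      · exact Submodule.baseChange_mono S (Submodule.span_mono (by simp)) hG
  choose fin hfin using h2
  choose gen hgenc hgen using hc
  -- one step
  let J' : Set M → Set ι := fun C => ⋃ m ∈ C, (supp m : Set ι)
  let C' : Set ι → Set M := fun J => ⋃ i ∈ J, ⋃ z ∈ gen i, (fin z : Set M)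
  have hJ' : ∀ C : Set M, C.Countable → (J' C).Countable := fun C hC =>
    hC.biUnion fun m _ => (supp m).countable_toSet
  have hC' : ∀ J : Set ι, J.Countable → (C' J).Countable := fun J hJ =>
    hJ.biUnion fun i _ => (hgenc i).biUnion fun z _ => (fin z).countable_toSet
  let step : Set M → Set M := fun C => C ∪ C' (J' C)
  let A : ℕ → Set M := fun n => step^[n] {x}
  have hA : ∀ n, (A n).Countable := by
    intro n
    induction n with
    | zero => exact Set.countable_singleton x
    | succ n ih =>
      change (step^[n + 1] {x}).Countable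
      rw [Function.iterate_succ_apply']
      exact ih.union (hC' _ (hJ' _ ih))
  have hAsucc : ∀ n, A (n + 1) = A n ∪ C' (J' (A n)) := by
    intro n
    change step^[n + 1] {x} = _
    rw [Function.iterate_succ_apply']
  refine ⟨⋃ n, A n, ⋃ n, J' (A n), Set.countable_iUnion hA, Set.mem_iUnion.2 ⟨0, rfl⟩, ?_⟩
  apply le_antisymm
  · rw [Submodule.baseChange_span, Submodule.span_le]
    rintro _ ⟨m, hm, rfl⟩
    rw [Set.mem_iUnion] at hm
    obtain ⟨n, hn⟩ := hm
    refine QQ_mono Q ?_ (hsupp m)
    refine Set.Subset.trans ?_ (Set.subset_iUnion _ n)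
    exact Set.subset_biUnion_of_mem (u := fun m => (supp m : Set ι)) hn
  · apply QQ_le
    intro i hi
    rw [Set.mem_iUnion] at hi
    obtain ⟨n, hn⟩ := hi
    rw [← hgen i, Submodule.span_le]
    intro z hz
    refine Submodule.baseChange_mono S (Submodule.span_mono ?_) (hfin z)
    refine Set.Subset.trans ?_ (Set.subset_iUnion _ (n + 1))
    rw [hAsucc]
    refine Set.Subset.trans ?_ Set.subset_union_right
    intro y hy
    simp only [C', Set.mem_iUnion]
    exact ⟨i, hn, z, hz, hy⟩

end closure

section main

variable {R S M : Type u} [CommRing R] [CommRing S] [Algebra R S] [Module.Flat R S]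
    [AddCommGroup M] [Module R M]

omit [Module.Flat R S] in
lemma baseChange_sup (N N' : Submodule R M) :
    (N ⊔ N').baseChange S = N.baseChange S ⊔ N'.baseChange S := by
  rw [Submodule.baseChange_eq_span, Submodule.baseChange_eq_span, Submodule.baseChange_eq_span,
    Submodule.map_sup, ← Submodule.span_union]
  apply le_antisymm
  · rw [Submodule.span_le]
    intro x hx
    obtain ⟨a, ha, b, hb, rfl⟩ := Submodule.mem_sup.1 hx
    exact Submodule.add_mem _ (Submodule.subset_span (Or.inl ha)) (Submodule.subset_span (Or.inr hb))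
  · apply Submodule.span_mono
    rintro x (hx | hx)
    · exact Submodule.mem_sup_left hx
    · exact Submodule.mem_sup_right hx

omit [Module.Flat R S] in
lemma baseChange_iSup {κ : Sort*} (N : κ → Submodule R M) :
    (⨆ k, N k).baseChange S = ⨆ k, (N k).baseChange S := by
  apply le_antisymm
  · rw [Submodule.baseChange_eq_span, Submodule.span_le]
    rintro _ ⟨m, hm, rfl⟩
    change (1 : S) ⊗ₜ[R] m ∈ _
    induction hm using Submodule.iSup_induction' with
    | mem k x hx =>
      exact (le_iSup (fun k => (N k).baseChange S) k) (Submodule.tmul_mem_baseChange_of_mem _ hx)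
    | zero => rw [TensorProduct.tmul_zero]; exact Submodule.zero_mem _
    | add x y _ _ hx hy => rw [TensorProduct.tmul_add]; exact Submodule.add_mem _ hx hy
  · exact iSup_le fun k => Submodule.baseChange_mono S (le_iSup N k)

/-- Dévissage: if `S ⊗ M` is projective and an internal direct sum of countably generated submodules, and every countably
generated `R`-module with projective base change is projective, then `M` is projective. -/
theorem projective_of_devissage [Module.Projective S (S ⊗[R] M)] {ι : Type u} (Q : ι → Submodule S (S ⊗[R] M))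
    (hQ : iSup Q = ⊤) (hind : iSupIndep Q)
    (hc : ∀ i, ∃ s : Set (S ⊗[R] M), s.Countable ∧ Submodule.span S s = Q i)
    (H : ∀ (T : Type u) [AddCommGroup T] [Module R T], (∃ s : Set T, s.Countable ∧ Submodule.span R s = ⊤) →
      Module.Projective S (S ⊗[R] T) → Module.Projective R T) :
    Module.Projective R M := by
  classical
  let 𝒟 : Set (Set (Submodule R M)) := {D | sSupIndep D ∧ (∀ P ∈ D, Module.Projective R P) ∧
    ∃ J : Set ι, (sSup D).baseChange S = QQ Q J}
  have hzorn : ∃ D, Maximal (· ∈ 𝒟) D := by
    apply zorn_subset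
    intro c hc hchain
    rcases c.eq_empty_or_nonempty with rfl | hne
    · refine ⟨∅, ⟨sSupIndep_empty, by simp, ∅, ?_⟩, by simp⟩
      simp [QQ]
    · refine ⟨⋃₀ c, ⟨?_, ?_, ?_⟩, fun s hs => Set.subset_sUnion_of_mem hs⟩
      · exact iSupIndep_sUnion_of_directed hchain.directedOn fun D hD => (hc hD).1
      · rintro P ⟨D, hD, hP⟩
        exact (hc hD).2.1 P hP
      · have h3 : ∀ D : c, ∃ J : Set ι, (sSup D.1).baseChange S = QQ Q J := fun D => (hc D.2).2.2
        choose J hJ using h3
        refine ⟨⋃ D, J D, ?_⟩
        rw [QQ_iUnion, sSup_sUnion, ← iSup_subtype'', baseChange_iSup]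
        exact iSup_congr hJ
  obtain ⟨D, hD, hmax⟩ := hzorn
  obtain ⟨hDi, hDp, J, hJ⟩ := hD
  set N := sSup D with hN
  -- `N = ⊤`
  have htop : N = ⊤ := by
    by_contra hne
    obtain ⟨x, hx⟩ : ∃ x, x ∉ N := by
      by_contra hcon
      push Not at hcon
      exact hne (eq_top_iff.2 fun x _ => hcon x)
    obtain ⟨C, J₁, hC, hxC, hCJ⟩ := exists_countable_closure Q hQ hc x
    let N' := N ⊔ Submodule.span R C
    have hle : N ≤ N' := le_sup_left
    have hN' : N'.baseChange S = QQ Q (J ∪ J₁) := by
      rw [baseChange_sup, hJ, hCJ, QQ_union]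
    have hT : Module.Projective S (S ⊗[R] (N' ⧸ N.submoduleOf N')) :=
      projective_tensor_quotient N N' (QQ Q Jᶜ) (QQ Q (J ∪ J₁)ᶜ) (by rw [hJ]; exact isCompl_QQ Q hQ hind J)
        (by rw [hN']; exact isCompl_QQ Q hQ hind _) hle
    have hTc : ∃ s : Set (N' ⧸ N.submoduleOf N'), s.Countable ∧ Submodule.span R s = ⊤ := by
      let f : C → N' := fun c => ⟨c.1, (le_sup_right : Submodule.span R C ≤ N') (Submodule.subset_span c.2)⟩
      refine ⟨Set.range fun c => (N.submoduleOf N').mkQ (f c), ?_, ?_⟩
      · haveI : Countable C := hC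
        exact Set.countable_range _
      · rw [eq_top_iff]
        rintro y -
        obtain ⟨⟨y, hy⟩, rfl⟩ := Submodule.mkQ_surjective _ y
        obtain ⟨a, ha, b, hb, rfl⟩ := Submodule.mem_sup.1 hy
        have h5 : (N.submoduleOf N').mkQ ⟨a + b, hy⟩ =
            (N.submoduleOf N').mkQ ⟨b, (le_sup_right : Submodule.span R C ≤ N') hb⟩ := by
          rw [← sub_eq_zero, ← map_sub, Submodule.mkQ_apply, Submodule.Quotient.mk_eq_zero]
          change a + b - b ∈ N
          rwa [add_sub_cancel_right]
        rw [h5]
        clear h5 hy ha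
        induction hb using Submodule.span_induction with
        | mem c hc => exact Submodule.subset_span ⟨⟨c, hc⟩, rfl⟩
        | zero =>
          have : (⟨0, (le_sup_right : Submodule.span R C ≤ N') (Submodule.zero_mem _)⟩ : N') = 0 := rfl
          rw [this, map_zero]
          exact Submodule.zero_mem _
        | add c d hc hd h6 h7 =>
          have : (⟨c + d, (le_sup_right : Submodule.span R C ≤ N') (Submodule.add_mem _ hc hd)⟩ : N') =
            ⟨c, (le_sup_right : Submodule.span R C ≤ N') hc⟩ + ⟨d, (le_sup_right : Submodule.span R C ≤ N') hd⟩ := rfl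
          rw [this, map_add]
          exact Submodule.add_mem _ h6 h7
        | smul r c hc h6 =>
          have : (⟨r • c, (le_sup_right : Submodule.span R C ≤ N') (Submodule.smul_mem _ r hc)⟩ : N') =
            r • ⟨c, (le_sup_right : Submodule.span R C ≤ N') hc⟩ := rfl
          rw [this, map_smul]
          exact Submodule.smul_mem _ _ h6
    haveI hTp : Module.Projective R (N' ⧸ N.submoduleOf N') := H _ hTc hT
    -- a complement of `N` in `N'`
    obtain ⟨σ, hσ⟩ := Module.projective_lifting_property (N.submoduleOf N').mkQ LinearMap.id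
      (Submodule.mkQ_surjective _)
    have hσ' : ∀ t, (N.submoduleOf N').mkQ (σ t) = t := fun t => LinearMap.congr_fun hσ t
    let τ : (N' ⧸ N.submoduleOf N') →ₗ[R] M := N'.subtype ∘ₗ σ
    have hτ : Function.Injective τ := by
      intro a b hab
      have : σ a = σ b := Subtype.ext hab
      rw [← hσ' a, this, hσ']
    let P₀ : Submodule R M := LinearMap.range τ
    have hP₀ : Module.Projective R P₀ := Module.Projective.of_equiv (LinearEquiv.ofInjective τ hτ)
    have hdisj : Disjoint N P₀ := by
      rw [Submodule.disjoint_def]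
      rintro y hyN ⟨t, rfl⟩
      have : (N.submoduleOf N').mkQ (σ t) = 0 := by
        rw [Submodule.mkQ_apply, Submodule.Quotient.mk_eq_zero]
        exact hyN
      rw [hσ'] at this
      rw [this, map_zero]
    have hsup : N ⊔ P₀ = N' := by
      apply le_antisymm
      · refine sup_le hle ?_
        rintro _ ⟨t, rfl⟩
        exact (σ t).2
      · intro y hy
        let t := (N.submoduleOf N').mkQ ⟨y, hy⟩
        have h8 : (⟨y, hy⟩ : N') - σ t ∈ N.submoduleOf N' := by
          rw [← Submodule.Quotient.mk_eq_zero, ← Submodule.mkQ_apply, map_sub, hσ', sub_self]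
        have h9 : y - τ t ∈ N := h8
        have : y = (y - τ t) + τ t := by rw [sub_add_cancel]
        rw [this]
        exact Submodule.add_mem_sup h9 ⟨t, rfl⟩
    have hP₀D : P₀ ∉ D := by
      intro hmem
      have h10 : P₀ ≤ N := le_sSup hmem
      have : N' = N := by rw [← hsup]; exact sup_eq_left.2 h10
      apply hx
      rw [← this]
      exact (le_sup_right : Submodule.span R C ≤ N') (Submodule.subset_span hxC)
    have hD' : insert P₀ D ∈ 𝒟 := by
      refine ⟨?_, ?_, J ∪ J₁, ?_⟩
      · intro P hP
        rcases Set.mem_insert_iff.1 hP with rfl | hP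
        · rw [Set.insert_sdiff_self_of_notMem hP₀D]
          exact hdisj.symm
        · have hne : P ≠ P₀ := fun h => hP₀D (h ▸ hP)
          have h11 : insert P₀ D \ {P} = insert P₀ (D \ {P}) := by
            rw [Set.insert_sdiff_of_notMem]
            simpa using hne.symm
          rw [h11, sSup_insert]
          have h12 : Disjoint P (sSup (D \ {P})) := hDi hP
          have h13 : sSup (D \ {P}) ≤ N := sSup_le_sSup Set.sdiff_subset
          have h14 : P ≤ N := le_sSup hP
          rw [Submodule.disjoint_def] at h12 hdisj ⊢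
          intro y hy hy'
          obtain ⟨a, ha, b, hb, rfl⟩ := Submodule.mem_sup.1 hy'
          have h15 : a ∈ N := by
            have : a = (a + b) - b := by rw [add_sub_cancel_right]
            rw [this]
            exact Submodule.sub_mem _ (h14 hy) (h13 hb)
          have h16 := hdisj a h15 ha
          rw [h16, zero_add] at hy ⊢
          exact h12 b hy hb
      · intro P hP
        rcases Set.mem_insert_iff.1 hP with rfl | hP
        · exact hP₀
        · exact hDp P hP
      · rw [sSup_insert, sup_comm, hsup, hN']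
    exact hP₀D (hmax hD' (Set.subset_insert _ _) (Set.mem_insert _ _))
  -- conclusion
  have hint : DirectSum.IsInternal (fun P : D => (P : Submodule R M)) := by
    apply DirectSum.isInternal_submodule_of_iSupIndep_of_iSup_eq_top
    · exact (sSupIndep_iff D).1 hDi
    · rw [← sSup_eq_iSup', ← hN, htop]
  haveI : ∀ P : D, Module.Projective R ((P : Submodule R M)) := fun P => hDp P.1 P.2
  exact Module.Projective.of_equiv (LinearEquiv.ofBijective (DirectSum.coeLinearMap (fun P : D => (P : Submodule R M))) hint)

end main

end Groth.Agent.CalgB.DescProj
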