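import Groth.Agent.LoccohA.DzDim
import Groth.Agent.LoccohA.DExtDepth
import Groth.Agent.LoccohA.DExtFin
import Groth.Agent.Ega4B.DimFinite

/-!
# The dimension function of a dualizing complex: packaged data, supports of `H^i(ω)` and of `Hom(M, ω[i])`,
dimension and depth of `M_p`

Built on `LoccohA.DzDim` (existence of `δ`), `LoccohA.DExtDim`, `LoccohA.DExtDepth`.
-/

set_option autoImplicit false
universe u
open CategoryTheory CategoryTheory.Limits
attribute [local instance] HasDerivedCategory.standard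

namespace Groth.Agent.CalgB.DzData

open Groth.Agent.LoccohA Groth.Agent.LoccohA.DExt Groth.Agent.LoccohA.DExtDim

variable {A : Type u} [CommRing A] {ω : Dual.D A}

/-- The data attached to a dualizing complex: the dimension function. -/
structure IsDelta (ω : Dual.D A) (δ : PrimeSpectrum A → ℤ) : Prop where
  fin : ∀ (i : ℤ) (M : Type u) [AddCommGroup M] [Module A M] [Module.Finite A M],
    Module.Finite A (E ω i M)
  mem : ∀ (p : PrimeSpectrum A) (i : ℤ),
    p ∈ Module.support A (E ω i (A ⧸ p.asIdeal)) ↔ i = -δ p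
  cov : ∀ p q : PrimeSpectrum A, p ⋖ q → δ p = δ q + 1

theorem exists_isDelta [IsNoetherianRing A] (hω : Dual.IsDualizing A ω) :
    ∃ δ : PrimeSpectrum A → ℤ, IsDelta ω δ := by
  obtain ⟨δ, h1, h2⟩ := DzDim.exists_delta hω
  refine ⟨δ, fun i M _ _ _ => DExtFin.finite_E hω i M, fun p i => ?_, h2⟩
  rw [← h1 p i, DzDim.not_vanAt_iff_nontrivial]
  exact Iff.rfl

/-- For a normalized dualizing complex the dimension function vanishes at the closed point. -/
theorem IsDelta.closedPoint_eq_zero [IsLocalRing A] {δ : PrimeSpectrum A → ℤ} (h : IsDelta ω δ)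
    (hn : Dual.IsNormalized A ω) : δ (IsLocalRing.closedPoint A) = 0 := by
  by_contra hne
  have h1 : IsLocalRing.closedPoint A ∈ Module.support A (E ω
    (-δ (IsLocalRing.closedPoint A)) (A ⧸ (IsLocalRing.closedPoint A).asIdeal)) :=
    (h.mem _ _).mpr rfl
  have h2 : Subsingleton (E ω
    (-δ (IsLocalRing.closedPoint A)) (A ⧸ (IsLocalRing.closedPoint A).asIdeal)) :=
    hn _ (by omega)
  rw [Module.support_eq_empty] at h1
  exact h1

/-- For a normalized dualizing complex the dimension function is `dim A/p`. -/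
theorem IsDelta.dim_quotient [IsLocalRing A] [IsNoetherianRing A] {δ : PrimeSpectrum A → ℤ}
    (h : IsDelta ω δ) (hn : Dual.IsNormalized A ω) (p : PrimeSpectrum A) (n : ℕ) :
    ringKrullDim (A ⧸ p.asIdeal) = n ↔ δ p = n := by
  rw [DimFun.dim_quotient h.cov, h.closedPoint_eq_zero hn, zero_add]

/-- `Supp H^i(ω) = Supp Hom(A, ω[i])`. -/
theorem support_HD (ω : Dual.D A) (i : ℤ) :
    Module.support A (Dual.HD A ω i) = Module.support A (E ω i A) :=
  LinearEquiv.support_eq (DzHomology.homA ω i)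

variable [IsNoetherianRing A] {δ : PrimeSpectrum A → ℤ}

/-- `E^i(M)_p = 0` for `i > -δ p`. -/
theorem IsDelta.notMem_of_gt (h : IsDelta ω δ) (p : PrimeSpectrum A) (M : Type u) [AddCommGroup M]
    [Module A M] [Module.Finite A M] (i : ℤ) (hi : -δ p < i) : p ∉ Module.support A (E ω i M) :=
  DExtDim.notMem_of_gt ω h.fin h.mem p M i hi

theorem IsDelta.exists_le_of_mem (h : IsDelta ω δ) (p : PrimeSpectrum A) (M : Type u)
    [AddCommGroup M] [Module A M] [Module.Finite A M] (i : ℤ)
    (hp : p ∈ Module.support A (E ω i M)) :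
    ∃ q ∈ Module.support A M, q ≤ p ∧ -δ q ≤ i :=
  DExtDim.exists_le_of_mem ω h.fin h.mem h.cov p M i hp

theorem IsDelta.mem_of_mem_associatedPrimes (h : IsDelta ω δ) (p : PrimeSpectrum A) (M : Type u)
    [AddCommGroup M] [Module A M] [Module.Finite A M] (hp : p.asIdeal ∈ associatedPrimes A M) :
    p ∈ Module.support A (E ω (-δ p) M) :=
  DExtDim.mem_of_mem_associatedPrimes ω h.fin h.mem p M hp

omit [IsNoetherianRing A] in
lemma support_mono {M : Type*} [AddCommGroup M] [Module A M] {p q : PrimeSpectrum A} (hpq : p ≤ q)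
    (hp : p ∈ Module.support A M) : q ∈ Module.support A M := Module.mem_support_mono hpq hp

/-- The dimension of `M_p` is at most `n` if `δ q ≤ δ p + n` for all `q ∈ Supp M`, `q ≤ p`. -/
theorem IsDelta.supportDim_le (h : IsDelta ω δ) (p : PrimeSpectrum A) (M : Type u)
    [AddCommGroup M] [Module A M] (n : ℕ)
    (hq : ∀ q ∈ Module.support A M, q ≤ p → δ q ≤ δ p + n) :
    Module.supportDim (Localization.AtPrime p.asIdeal)
      (LocalizedModule p.asIdeal.primeCompl M) ≤ n := by
  rw [Ega4B.DimFinite.supportDim_atPrime_eq, Order.krullDim]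
  refine iSup_le fun s => ?_
  let s' : LTSeries (PrimeSpectrum A) := s.map (fun x => x.1) (fun x y hxy => hxy)
  have h1 := DimFun.length_le h.cov s'
  have h2 : δ p ≤ δ s'.last := DimFun.le_of_le h.cov s.last.2.2
  have h3 : δ s'.head ≤ δ p + n := hq _ s.head.2.1 s.head.2.2
  have h4 : s'.length = s.length := rfl
  have h5 : s.length ≤ n := by omega
  exact_mod_cast h5

/-- `n ≤ dim M_p` if `δ q = δ p + n` for some `q ∈ Supp M`, `q ≤ p`. -/
theorem IsDelta.le_supportDim (h : IsDelta ω δ) (p : PrimeSpectrum A) (M : Type u)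
    [AddCommGroup M] [Module A M] (n : ℕ) (q : PrimeSpectrum A)
    (hq : q ∈ Module.support A M) (hqp : q ≤ p) (hn : δ q = δ p + n) :
    (n : WithBot ℕ∞) ≤ Module.supportDim (Localization.AtPrime p.asIdeal)
      (LocalizedModule p.asIdeal.primeCompl M) := by
  rw [Ega4B.DimFinite.supportDim_atPrime_eq]
  obtain ⟨s, h1, h2, h3⟩ := DimFun.exists_ltSeries h.cov hqp
  have hlen : s.length = n := by omega
  let s' : LTSeries {r : PrimeSpectrum A // r ∈ Module.support A M ∧ r ≤ p} :=
    { length := s.length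
      toFun := fun i => ⟨s i, support_mono (h1 ▸ LTSeries.head_le s i) hq, h2 ▸ s.monotone (Fin.le_last i)⟩
      step := fun i => s.step i }
  have := Order.LTSeries.length_le_krullDim s'
  rw [← hlen]
  exact this

/-- `n ≤ depth M_p` iff `E^{-δ p - d}(M)_p = 0` for all `d < n`. -/
theorem IsDelta.natCast_le_depth_iff (h : IsDelta ω δ) (p : PrimeSpectrum A) (M : Type u)
    [AddCommGroup M] [Module A M] [Module.Finite A M] (n : ℕ) :
    (n : ℕ∞) ≤ LocCoh.depth (Localization.AtPrime p.asIdeal)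
      (LocalizedModule p.asIdeal.primeCompl M) ↔
    ∀ d : ℕ, d < n → p ∉ Module.support A (E ω (-δ p - d) M) :=
  DExtDepth.natCast_le_depth_iff ω h.fin h.mem p M n

/-- `depth M_p = n` if `n` is the smallest `d` with `E^{-δ p - d}(M)_p ≠ 0`. -/
theorem IsDelta.depth_eq (h : IsDelta ω δ) (p : PrimeSpectrum A) (M : Type u)
    [AddCommGroup M] [Module A M] [Module.Finite A M] (n : ℕ)
    (h1 : ∀ d : ℕ, d < n → p ∉ Module.support A (E ω (-δ p - d) M))
    (h2 : p ∈ Module.support A (E ω (-δ p - n) M)) :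
    LocCoh.depth (Localization.AtPrime p.asIdeal)
      (LocalizedModule p.asIdeal.primeCompl M) = n := by
  refine le_antisymm ?_ ((h.natCast_le_depth_iff p M n).mpr h1)
  by_contra hlt
  rw [not_le] at hlt
  have h3 : ((n + 1 : ℕ) : ℕ∞) ≤ LocCoh.depth (Localization.AtPrime p.asIdeal)
      (LocalizedModule p.asIdeal.primeCompl M) := by
    rw [Nat.cast_add, Nat.cast_one]
    exact Order.add_one_le_of_lt hlt
  exact (h.natCast_le_depth_iff p M (n + 1)).mp h3 n (Nat.lt_succ_self n) h2

/-- `dim M_p = n` if `n` is the largest value of `δ q - δ p`, `q ∈ Supp M`, `q ≤ p`. -/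
theorem IsDelta.supportDim_eq (h : IsDelta ω δ) (p : PrimeSpectrum A) (M : Type u)
    [AddCommGroup M] [Module A M] (n : ℕ)
    (h1 : ∀ q ∈ Module.support A M, q ≤ p → δ q ≤ δ p + n)
    (h2 : ∃ q ∈ Module.support A M, q ≤ p ∧ δ q = δ p + n) :
    Module.supportDim (Localization.AtPrime p.asIdeal)
      (LocalizedModule p.asIdeal.primeCompl M) = n := by
  obtain ⟨q, hq, hqp, hn⟩ := h2
  exact le_antisymm (h.supportDim_le p M n h1) (h.le_supportDim p M n q hq hqp hn)

end Groth.Agent.CalgB.DzData
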