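import Groth.Agent.CalgB.EtaleNbhd
import Mathlib.RingTheory.Polynomial.UniversalFactorizationRing

/-!
Lifting coprime factorizations along étale neighbourhoods.
-/

set_option autoImplicit false
universe u v

namespace Groth.Agent.CalgB.EtaleFactor

open Polynomial

/-- Lifting of coprime monic factorizations, with coprimality of the lifts. -/
theorem exists_etale_lift_monic_factorization {A : Type u} [CommRing A] (I : Ideal A) (f : A[X])
    (hf : f.Monic) (g h : (A ⧸ I)[X]) (hg : g.Monic) (hh : h.Monic) (hcop : IsCoprime g h)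
    (hfgh : f.map (Ideal.Quotient.mk I) = g * h) :
    ∃ (A' : Type u) (_ : CommRing A') (_ : Algebra A A'), Algebra.Etale A A' ∧
      Function.Bijective (algebraMap (A ⧸ I) (A' ⧸ I.map (algebraMap A A'))) ∧
      ∃ g' h' : A'[X], g'.Monic ∧ h'.Monic ∧ IsCoprime g' h' ∧ f.map (algebraMap A A') = g' * h' ∧
        g'.map (Ideal.Quotient.mk (I.map (algebraMap A A'))) =
          g.map (algebraMap (A ⧸ I) (A' ⧸ I.map (algebraMap A A'))) ∧
        h'.map (Ideal.Quotient.mk (I.map (algebraMap A A'))) =
          h.map (algebraMap (A ⧸ I) (A' ⧸ I.map (algebraMap A A'))) := by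
  rcases subsingleton_or_nontrivial (A ⧸ I) with hs | hn
  · have htriv : Subsingleton (Localization.Away (0 : A)) :=
      IsLocalization.subsingleton (M := Submonoid.powers (0 : A)) ⟨1, by simp⟩
    have hI : I = ⊤ := Ideal.Quotient.subsingleton_iff.mp hs
    have : Subsingleton ((Localization.Away (0 : A)) ⧸ I.map (algebraMap A (Localization.Away (0 : A)))) :=
      Function.Surjective.subsingleton Ideal.Quotient.mk_surjective
    refine ⟨Localization.Away (0 : A), inferInstance, inferInstance,
      Algebra.Etale.of_isLocalizationAway (0 : A), ⟨?_, ?_⟩, 1, 1, monic_one, monic_one, isCoprime_one_left, ?_, ?_, ?_⟩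
    · exact Function.injective_of_subsingleton _
    · exact Function.surjective_to_subsingleton _
    · exact Subsingleton.elim _ _
    · exact Subsingleton.elim _ _
    · exact Subsingleton.elim _ _
  · have hdeg : f.natDegree = g.natDegree + h.natDegree := by
      rw [← hf.natDegree_map (Ideal.Quotient.mk I), hfgh, hg.natDegree_mul hh]
    let p : MonicDegreeEq A f.natDegree := .mk f hf rfl
    let R' := UniversalCoprimeFactorizationRing g.natDegree h.natDegree hdeg p
    let σ : R' →ₐ[A] A ⧸ I :=
      (UniversalCoprimeFactorizationRing.homEquiv (A ⧸ I) g.natDegree h.natDegree hdeg p).symm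
        ⟨(.mk g hg rfl, .mk h hh rfl), hfgh.symm, hcop⟩
    obtain ⟨A', _, _, h1, h2, τ, hτ⟩ := EtaleNbhd.exists_etale_nbhd I σ
    let q := UniversalCoprimeFactorizationRing.homEquiv A' g.natDegree h.natDegree hdeg p τ
    have hcomp : (Ideal.Quotient.mkₐ A (I.map (algebraMap A A'))).comp τ =
        (IsScalarTower.toAlgHom A (A ⧸ I) (A' ⧸ I.map (algebraMap A A'))).comp σ :=
      AlgHom.ext hτ
    have e1 := UniversalCoprimeFactorizationRing.homEquiv_comp_fst A' g.natDegree h.natDegree hdeg p τ
      (Ideal.Quotient.mkₐ A (I.map (algebraMap A A')))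
    have e2 := UniversalCoprimeFactorizationRing.homEquiv_comp_snd A' g.natDegree h.natDegree hdeg p τ
      (Ideal.Quotient.mkₐ A (I.map (algebraMap A A')))
    rw [hcomp, UniversalCoprimeFactorizationRing.homEquiv_comp_fst] at e1
    rw [hcomp, UniversalCoprimeFactorizationRing.homEquiv_comp_snd] at e2
    simp only [σ, Equiv.apply_symm_apply] at e1 e2
    refine ⟨A', inferInstance, inferInstance, h1, h2, q.1.1.1, q.1.2.1, q.1.1.monic, q.1.2.monic,
      q.2.2, q.2.1.symm, ?_, ?_⟩
    · exact congr($(e1).1).symm
    · exact congr($(e2).1).symm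

end Groth.Agent.CalgB.EtaleFactor
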