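import Groth.Agent.CalgB.EtaleFactor
import Mathlib.RingTheory.IntegralClosure.Algebra.Ideal

/-!
Lifting idempotents of integral algebras along étale neighbourhoods.
-/

set_option autoImplicit false
universe u v

namespace Groth.Agent.CalgB.EtaleIdem

open Polynomial TensorProduct

/-- Auxiliary computation: if `u g + v h = 1`, `g h = 0`, and modulo an ideal `g ≡ b`-multiple etc. -/
theorem idem_aux {R : Type u} [CommRing R] (J : Ideal R) (b g h u v : R) (n : ℕ)
    (huv : u * g + v * h = 1) (hgh : g * h = 0) (hb : b * (b - 1) ∈ J)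
    (hg : g - b ^ (n + 1) ∈ J) (hh : h - (b - 1) ^ (n + 1) ∈ J) :
    IsIdempotentElem (u * g) ∧ u * g - b ∈ J := by
  constructor
  · have h1 : v * h = 1 - u * g := by rw [← huv]; ring
    have h2 : (u * g) * (v * h) = 0 := by
      calc (u * g) * (v * h) = u * v * (g * h) := by ring
        _ = 0 := by rw [hgh, mul_zero]
    rw [h1] at h2
    have h3 : u * g * (u * g) = u * g := by
      have : u * g * (1 - u * g) = u * g - u * g * (u * g) := by ring
      rw [this, sub_eq_zero] at h2
      exact h2.symm
    exact h3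
  · -- `e (b - 1) ≡ 0`, `(1 - e) b ≡ 0`
    have h1 : u * g * (b - 1) ∈ J := by
      have : u * g * (b - 1) = u * (b - 1) * (g - b ^ (n + 1)) + u * b ^ n * (b * (b - 1)) := by ring
      rw [this]
      exact add_mem (Ideal.mul_mem_left _ _ hg) (Ideal.mul_mem_left _ _ hb)
    have h2 : v * h * b ∈ J := by
      have : v * h * b = v * b * (h - (b - 1) ^ (n + 1)) + v * (b - 1) ^ n * (b * (b - 1)) := by ring
      rw [this]
      exact add_mem (Ideal.mul_mem_left _ _ hh) (Ideal.mul_mem_left _ _ hb)
    have h3 : u * g - b = -(u * g * (b - 1)) - v * h * b + (u * g + v * h - 1) * b := by ring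
    rw [h3, huv, sub_self, zero_mul, add_zero]
    exact sub_mem (neg_mem h1) h2

/-- Stacks 07M4. -/
theorem exists_etale_lift_idempotent_of_integral {A B : Type u} [CommRing A] [CommRing B] [Algebra A B]
    [Algebra.IsIntegral A B] (I : Ideal A) (e : B ⧸ I.map (algebraMap A B)) (he : IsIdempotentElem e) :
    ∃ (A' : Type u) (_ : CommRing A') (_ : Algebra A A'), Algebra.Etale A A' ∧
      Function.Bijective (algebraMap (A ⧸ I) (A' ⧸ I.map (algebraMap A A'))) ∧
      ∃ e' : A' ⊗[A] B, IsIdempotentElem e' ∧
        ∀ b : B, Ideal.Quotient.mk (I.map (algebraMap A B)) b = e →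
          e' - 1 ⊗ₜ b ∈ I.map (algebraMap A (A' ⊗[A] B)) := by
  obtain ⟨b, rfl⟩ := Ideal.Quotient.mk_surjective e
  have hb : b * (b - 1) ∈ I.map (algebraMap A B) := by
    rw [← Ideal.Quotient.eq_zero_iff_mem, mul_sub, mul_one, map_sub, map_mul, he.eq, sub_self]
  obtain ⟨g, hg, hgb, hgI⟩ := Polynomial.exists_monic_aeval_eq_zero_forall_mem_of_mem_map hb
  -- the polynomial `f = (X g) (X (X - 1))`
  let w : A[X] := X * (X - C 1)
  have hw : w.Monic := monic_X.mul (monic_X_sub_C 1)
  let f : A[X] := (X * g).comp w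
  have hf : f.Monic := by
    rcases subsingleton_or_nontrivial A with hA | hA
    · exact monic_of_subsingleton _
    · refine (monic_X.mul hg).comp hw ?_
      rw [monic_X.natDegree_mul (monic_X_sub_C 1), natDegree_X, natDegree_X_sub_C]
      norm_num
  have hfb : aeval b f = 0 := by
    rw [aeval_comp]
    have : aeval b w = b * (b - 1) := by simp [w]
    rw [this, map_mul, hgb, mul_zero]
  have hgmap : g.map (Ideal.Quotient.mk I) = X ^ g.natDegree := by
    ext i
    rw [coeff_map, coeff_X_pow]
    by_cases hi : i = g.natDegree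
    · subst hi
      rw [if_pos rfl, coeff_natDegree, hg.leadingCoeff, map_one]
    · rw [if_neg hi, Ideal.Quotient.eq_zero_iff_mem]
      exact hgI i hi
  have hfmap : f.map (Ideal.Quotient.mk I) = X ^ (g.natDegree + 1) * (X - C 1) ^ (g.natDegree + 1) := by
    rw [Polynomial.map_comp, Polynomial.map_mul, map_X, hgmap, ← pow_succ', X_pow_comp]
    simp only [w, Polynomial.map_mul, map_X, Polynomial.map_sub, map_one, mul_pow, Polynomial.map_one]
  have hcop : IsCoprime (X ^ (g.natDegree + 1) : (A ⧸ I)[X]) ((X - C 1) ^ (g.natDegree + 1)) := by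
    apply IsCoprime.pow
    exact ⟨1, -1, by simp⟩
  obtain ⟨A', _, _, h1, h2, g', h', hg', hh', ⟨u, v, huv⟩, h3, h4, h5⟩ :=
    EtaleFactor.exists_etale_lift_monic_factorization I f hf _ _ (monic_X_pow _)
      ((monic_X_sub_C 1).pow _) hcop hfmap
  let J : Ideal (A' ⊗[A] B) := I.map (algebraMap A (A' ⊗[A] B))
  let β : A' ⊗[A] B := 1 ⊗ₜ b
  -- an element of `A'[X]` with coefficients in `I A'` has value in `J`
  have hval : ∀ p q : A'[X], p.map (Ideal.Quotient.mk (I.map (algebraMap A A'))) =
      q.map (Ideal.Quotient.mk (I.map (algebraMap A A'))) → aeval β p - aeval β q ∈ J := by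
    intro p q hpq
    rw [← map_sub, aeval_eq_sum_range]
    refine sum_mem fun i _ => ?_
    rw [Algebra.smul_def]
    apply Ideal.mul_mem_right
    have h6 : (p - q).coeff i ∈ I.map (algebraMap A A') := by
      rw [← Ideal.Quotient.eq_zero_iff_mem, ← coeff_map, Polynomial.map_sub, hpq, sub_self, coeff_zero]
    have h7 := Ideal.mem_map_of_mem (algebraMap A' (A' ⊗[A] B)) h6
    rwa [Ideal.map_map, ← IsScalarTower.algebraMap_eq] at h7
  have hβ : β * (β - 1) ∈ J := by
    have h6 := Ideal.mem_map_of_mem (Algebra.TensorProduct.includeRight (R := A) (A := A') (B := B)).toRingHom hb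
    rw [Ideal.map_map] at h6
    have h7 : (Algebra.TensorProduct.includeRight (R := A) (A := A') (B := B)).toRingHom.comp (algebraMap A B) =
        algebraMap A (A' ⊗[A] B) := (Algebra.TensorProduct.includeRight (R := A) (A := A') (B := B)).comp_algebraMap
    rw [h7] at h6
    have h8 : (Algebra.TensorProduct.includeRight (R := A) (A := A') (B := B)).toRingHom (b * (b - 1)) =
        β * (β - 1) := by
      simp [β, mul_sub, TensorProduct.tmul_sub]
    rwa [h8] at h6
  have hgβ : aeval β g' - β ^ (g.natDegree + 1) ∈ J := by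
    have := hval g' (X ^ (g.natDegree + 1)) (by rw [h4]; simp)
    simpa using this
  have hhβ : aeval β h' - (β - 1) ^ (g.natDegree + 1) ∈ J := by
    have := hval h' ((X - C 1) ^ (g.natDegree + 1)) (by rw [h5]; simp)
    simpa using this
  have hghβ : aeval β g' * aeval β h' = 0 := by
    rw [← map_mul, ← h3]
    have h6 : aeval β (f.map (algebraMap A A')) = (Algebra.TensorProduct.includeRight (R := A) (A := A') (B := B)) (aeval b f) := by
      rw [aeval_map_algebraMap, ← aeval_algHom_apply]
      rfl
    rw [h6, hfb, map_zero]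
  have huvβ : aeval β u * aeval β g' + aeval β v * aeval β h' = 1 := by
    rw [← map_mul, ← map_mul, ← map_add, huv, map_one]
  obtain ⟨h8, h9⟩ := idem_aux J β (aeval β g') (aeval β h') (aeval β u) (aeval β v) g.natDegree huvβ hghβ hβ hgβ hhβ
  refine ⟨A', inferInstance, inferInstance, h1, h2, aeval β u * aeval β g', h8, ?_⟩
  intro b' hb'
  rw [Ideal.Quotient.eq] at hb'
  have h10 : β - 1 ⊗ₜ b' ∈ J := by
    have h6 := Ideal.mem_map_of_mem (Algebra.TensorProduct.includeRight (R := A) (A := A') (B := B)).toRingHom hb'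
    rw [Ideal.map_map] at h6
    have h7 : (Algebra.TensorProduct.includeRight (R := A) (A := A') (B := B)).toRingHom.comp (algebraMap A B) =
        algebraMap A (A' ⊗[A] B) := (Algebra.TensorProduct.includeRight (R := A) (A := A') (B := B)).comp_algebraMap
    rw [h7] at h6
    have h8 : (Algebra.TensorProduct.includeRight (R := A) (A := A') (B := B)).toRingHom (b' - b) =
        - (β - 1 ⊗ₜ b') := by
      simp [β, TensorProduct.tmul_sub]
    rw [h8] at h6
    exact (neg_mem_iff.mp h6)
  have := add_mem h9 h10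
  rwa [sub_add_sub_cancel] at this

end Groth.Agent.CalgB.EtaleIdem
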