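import Mathlib.RingTheory.Etale.Basic
import Mathlib.RingTheory.Etale.Kaehler
import Mathlib.RingTheory.Ideal.Over
import Mathlib.RingTheory.TensorProduct.Basic
import Mathlib.RingTheory.Smooth.StandardSmoothOfFree

/-!
Étale neighbourhoods of a closed subscheme `V(I)` of `Spec A`.
-/

set_option autoImplicit false
universe u v

namespace Groth.Agent.CalgB.EtaleNbhd

/-- If `C` is a finitely presented, formally unramified `A`-algebra and `σ : C →ₐ[A] A ⧸ I`, the kernel of `σ`
is generated by `I` and an element `e` idempotent modulo `I C`. -/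
theorem exists_idempotent_mod {A : Type u} {C : Type v} [CommRing A] [CommRing C] [Algebra A C]
    [Algebra.FiniteType A C] [Algebra.FormallyUnramified A C] (I : Ideal A) (σ : C →ₐ[A] A ⧸ I) :
    ∃ e : C, σ e = 0 ∧ e - e * e ∈ I.map (algebraMap A C) ∧
      ∀ c : C, σ c = 0 → ∃ d : C, c - d * e ∈ I.map (algebraMap A C) := by
  classical
  have hle : I.map (algebraMap A C) ≤ RingHom.ker σ.toRingHom := by
    rw [Ideal.map_le_iff_le_comap]
    intro x hx
    simp [RingHom.mem_ker, Ideal.Quotient.eq_zero_iff_mem.mpr hx]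
  let τ : (C ⧸ I.map (algebraMap A C)) →ₐ[A] A ⧸ I :=
    Ideal.Quotient.liftₐ (I.map (algebraMap A C)) σ (fun a ha => hle ha)
  have hτ : ∀ c, τ (Ideal.Quotient.mk _ c) = σ c := fun c => rfl
  let τ' : (C ⧸ I.map (algebraMap A C)) →ₐ[A ⧸ I] A ⧸ I :=
    { τ with
      commutes' := by
        intro r
        obtain ⟨r, rfl⟩ := Ideal.Quotient.mk_surjective r
        change τ (Ideal.Quotient.mk _ (algebraMap A C r)) = _
        rw [hτ]
        simp }
  let : Algebra (C ⧸ I.map (algebraMap A C)) (A ⧸ I) := τ'.toRingHom.toAlgebra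
  have : IsScalarTower (A ⧸ I) (C ⧸ I.map (algebraMap A C)) (A ⧸ I) :=
    IsScalarTower.of_algebraMap_eq (fun r => (τ'.commutes r).symm)
  have : Algebra.FormallyEtale (C ⧸ I.map (algebraMap A C)) (A ⧸ I) :=
    Algebra.FormallyEtale.of_restrictScalars (R := A ⧸ I)
  have hsurj : Function.Surjective (algebraMap (C ⧸ I.map (algebraMap A C)) (A ⧸ I)) := by
    intro r
    exact ⟨algebraMap (A ⧸ I) _ r, τ'.commutes r⟩
  have hidem := (Algebra.FormallyEtale.iff_of_surjective hsurj).mp inferInstance
  have : Algebra.FiniteType (A ⧸ I) (C ⧸ I.map (algebraMap A C)) :=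
    Algebra.FiniteType.of_restrictScalars_finiteType A _ _
  have hfg : (RingHom.ker (algebraMap (C ⧸ I.map (algebraMap A C)) (A ⧸ I))).FG := by
    obtain ⟨n, f, hf⟩ := Algebra.FiniteType.iff_quotient_mvPolynomial''.mp
      (inferInstance : Algebra.FiniteType (A ⧸ I) (C ⧸ I.map (algebraMap A C)))
    have hk := Algebra.FinitePresentation.ker_fG_of_surjective (τ'.comp f) (by
      intro r
      obtain ⟨x, hx⟩ := hsurj r
      obtain ⟨y, hy⟩ := hf x
      exact ⟨y, by rw [AlgHom.comp_apply, hy]; exact hx⟩)
    have : RingHom.ker (algebraMap (C ⧸ I.map (algebraMap A C)) (A ⧸ I)) =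
        (RingHom.ker (τ'.comp f).toRingHom).map f.toRingHom := by
      apply le_antisymm
      · intro x hx
        obtain ⟨y, rfl⟩ := hf x
        exact Ideal.mem_map_of_mem _ hx
      · rw [Ideal.map_le_iff_le_comap]
        intro y hy
        exact hy
    rw [this]
    exact hk.map _
  obtain ⟨e, he, hspan⟩ := (Ideal.isIdempotentElem_iff_of_fg _ hfg).mp hidem
  obtain ⟨e, rfl⟩ := Ideal.Quotient.mk_surjective e
  refine ⟨e, ?_, ?_, ?_⟩
  · have : Ideal.Quotient.mk (I.map (algebraMap A C)) e ∈ RingHom.ker (algebraMap (C ⧸ I.map (algebraMap A C)) (A ⧸ I)) := by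
      rw [hspan]; exact Ideal.mem_span_singleton_self _
    exact this
  · rw [← Ideal.Quotient.eq_zero_iff_mem, map_sub, map_mul]
    rw [he.eq, sub_self]
  · intro c hc
    have : Ideal.Quotient.mk (I.map (algebraMap A C)) c ∈ RingHom.ker (algebraMap (C ⧸ I.map (algebraMap A C)) (A ⧸ I)) := hc
    rw [hspan, Ideal.mem_span_singleton'] at this
    obtain ⟨d, hd⟩ := this
    obtain ⟨d, rfl⟩ := Ideal.Quotient.mk_surjective d
    refine ⟨d, ?_⟩
    rw [← Ideal.Quotient.eq_zero_iff_mem, map_sub, map_mul, hd, sub_self]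

/-- Shrinking: let `C` be a formally unramified `A`-algebra of finite type with an `A`-algebra map `σ : C → A/I`.
There is `s : C` with `σ s = 1` such that for the localization `C' = C_s` the map `A/I → C'/IC'` is bijective and
`C → C' → C'/IC'` is `σ`. -/
theorem exists_shrink {A : Type u} {C : Type v} [CommRing A] [CommRing C] [Algebra A C]
    [Algebra.FiniteType A C] [Algebra.FormallyUnramified A C] (I : Ideal A) (σ : C →ₐ[A] A ⧸ I) :
    ∃ s : C, σ s = 1 ∧ ∀ (C' : Type v) [CommRing C'] [Algebra A C'] [Algebra C C'] [IsScalarTower A C C']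
      [IsLocalization.Away s C'],
      Function.Bijective (algebraMap (A ⧸ I) (C' ⧸ I.map (algebraMap A C'))) ∧
      ∀ c : C, Ideal.Quotient.mk (I.map (algebraMap A C')) (algebraMap C C' c) =
        algebraMap (A ⧸ I) (C' ⧸ I.map (algebraMap A C')) (σ c) := by
  obtain ⟨e, he0, hee, he⟩ := exists_idempotent_mod I σ
  refine ⟨1 - e, by simp [he0], ?_⟩
  intro C' _ _ _ _ _
  have hmap : ∀ c ∈ I.map (algebraMap A C), algebraMap C C' c ∈ I.map (algebraMap A C') := by
    intro c hc
    have := Ideal.mem_map_of_mem (algebraMap C C') hc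
    rwa [Ideal.map_map, ← IsScalarTower.algebraMap_eq] at this
  have hunit : IsUnit (algebraMap C C' (1 - e)) := IsLocalization.Away.algebraMap_isUnit _
  have hemem : algebraMap C C' e ∈ I.map (algebraMap A C') := by
    have h1 := hmap _ hee
    have h2 : e - e * e = (1 - e) * e := by ring
    rw [h2, map_mul] at h1
    exact (Ideal.unit_mul_mem_iff_mem _ hunit).mp h1
  have hσ : ∀ c : C, Ideal.Quotient.mk (I.map (algebraMap A C')) (algebraMap C C' c) =
        algebraMap (A ⧸ I) (C' ⧸ I.map (algebraMap A C')) (σ c) := by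
    intro c
    obtain ⟨a, ha⟩ := Ideal.Quotient.mk_surjective (σ c)
    have hc : σ (c - algebraMap A C a) = 0 := by
      rw [map_sub, AlgHom.commutes, ← ha]; simp
    obtain ⟨d, hd⟩ := he _ hc
    rw [← ha, Ideal.Quotient.algebraMap_quotient_map_quotient, Ideal.Quotient.eq]
    have h1 := hmap _ hd
    have h2 : algebraMap C C' c - algebraMap A C' a =
        algebraMap C C' (c - algebraMap A C a - d * e) + algebraMap C C' d * algebraMap C C' e := by
      rw [IsScalarTower.algebraMap_apply A C C']
      simp only [map_sub, map_mul]; ring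
    rw [h2]
    exact add_mem h1 (Ideal.mul_mem_left _ _ hemem)
  refine ⟨⟨?_, ?_⟩, hσ⟩
  · -- injective
    have hu : ∀ y : Submonoid.powers (1 - e), IsUnit (σ y) := by
      rintro ⟨y, n, rfl⟩
      simp [he0]
    let σ' : C' →+* A ⧸ I := IsLocalization.lift (M := Submonoid.powers (1 - e)) (g := σ.toRingHom) hu
    have hσ' : ∀ c : C, σ' (algebraMap C C' c) = σ c := fun c => IsLocalization.lift_eq _ _
    have hker : ∀ x ∈ I.map (algebraMap A C'), σ' x = 0 := by
      intro x hx
      have : I.map (algebraMap A C') ≤ RingHom.ker σ' := by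
        rw [Ideal.map_le_iff_le_comap]
        intro y hy
        rw [Ideal.mem_comap, RingHom.mem_ker, IsScalarTower.algebraMap_apply A C C', hσ', AlgHom.commutes]
        exact Ideal.Quotient.eq_zero_iff_mem.mpr hy
      exact this hx
    rw [injective_iff_map_eq_zero]
    intro x hx
    obtain ⟨x, rfl⟩ := Ideal.Quotient.mk_surjective x
    rw [Ideal.Quotient.algebraMap_quotient_map_quotient, Ideal.Quotient.eq_zero_iff_mem] at hx
    have := hker _ hx
    rw [IsScalarTower.algebraMap_apply A C C', hσ', AlgHom.commutes] at this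
    exact this
  · intro y
    obtain ⟨y, rfl⟩ := Ideal.Quotient.mk_surjective y
    obtain ⟨⟨c, s⟩, hs⟩ := IsLocalization.surj (Submonoid.powers (1 - e)) y
    obtain ⟨s, n, rfl⟩ := s
    refine ⟨σ c, ?_⟩
    rw [← hσ, ← hs]
    have h1 := hσ ((1 - e) ^ n)
    simp only [map_mul] at h1 ⊢
    rw [h1]
    simp [he0]

/-- An étale `A`-algebra `C` with a section over `A/I` maps to an étale `A`-algebra `A'` with `A/I = A'/IA'`,
compatibly with the section. -/
theorem exists_etale_nbhd {A C : Type u} [CommRing A] [CommRing C] [Algebra A C]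
    [Algebra.Etale A C] (I : Ideal A) (σ : C →ₐ[A] A ⧸ I) :
    ∃ (A' : Type u) (_ : CommRing A') (_ : Algebra A A'), Algebra.Etale A A' ∧
      Function.Bijective (algebraMap (A ⧸ I) (A' ⧸ I.map (algebraMap A A'))) ∧
      ∃ τ : C →ₐ[A] A', ∀ c : C,
        Ideal.Quotient.mk (I.map (algebraMap A A')) (τ c) =
          algebraMap (A ⧸ I) (A' ⧸ I.map (algebraMap A A')) (σ c) := by
  obtain ⟨s, hs, h⟩ := exists_shrink I σ
  obtain ⟨h1, h2⟩ := h (Localization.Away s)
  have : Algebra.Etale C (Localization.Away s) := Algebra.Etale.of_isLocalizationAway s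
  exact ⟨Localization.Away s, inferInstance, inferInstance, Algebra.Etale.comp A C _, h1,
    IsScalarTower.toAlgHom A C _, h2⟩

/-- Derivatives of the square of an ideal lie in the ideal. -/
theorem pderiv_mem_of_mem_sq {A : Type u} [CommRing A] {n : ℕ} (J : Ideal (MvPolynomial (Fin n) A))
    (j : Fin n) {g : MvPolynomial (Fin n) A} (hg : g ∈ J ^ 2) : MvPolynomial.pderiv j g ∈ J := by
  rw [pow_two] at hg
  refine Submodule.mul_induction_on hg ?_ ?_
  · intro a ha b hb
    rw [Derivation.leibniz, smul_eq_mul, smul_eq_mul]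
    exact add_mem (Ideal.mul_mem_right _ _ ha) (Ideal.mul_mem_right _ _ hb)
  · intro a b ha hb
    rw [map_add]
    exact add_mem ha hb

/-- First order Taylor expansion for two ring homomorphisms which agree modulo an ideal of square zero. -/
theorem taylor_aux {A : Type u} [CommRing A] {n : ℕ} {Q : Type v} [CommRing Q]
    (q s : MvPolynomial (Fin n) A →+* Q) (hC : ∀ a, s (MvPolynomial.C a) = q (MvPolynomial.C a))
    (r : Fin n → Q) (hr : ∀ i, r i = q (MvPolynomial.X i) - s (MvPolynomial.X i))
    (hrr : ∀ i j, r i * r j = 0) (g : MvPolynomial (Fin n) A) :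
    q g - s g = ∑ i, q (MvPolynomial.pderiv i g) * r i := by
  classical
  induction g using MvPolynomial.induction_on with
  | C a => simp [hC]
  | add p t hp ht =>
    have : q (p + t) - s (p + t) = (q p - s p) + (q t - s t) := by
      simp only [map_add]; ring
    rw [this, hp, ht, ← Finset.sum_add_distrib]
    simp only [map_add, add_mul]
  | mul_X g j hg =>
    have h1 : q (g * MvPolynomial.X j) - s (g * MvPolynomial.X j) =
        (q g - s g) * q (MvPolynomial.X j) +
        (q g - (q g - s g)) * (q (MvPolynomial.X j) - s (MvPolynomial.X j)) := by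
      simp only [map_mul]; ring
    rw [h1, ← hr j, hg, sub_mul, Finset.sum_mul, Finset.sum_mul]
    have h2 : ∑ i, q (MvPolynomial.pderiv i g) * r i * r j = 0 := by
      apply Finset.sum_eq_zero
      intro i _
      rw [mul_assoc, hrr, mul_zero]
    rw [h2, sub_zero]
    have h3 : ∀ i, MvPolynomial.pderiv i (g * MvPolynomial.X j) =
        MvPolynomial.pderiv i g * MvPolynomial.X j + g * (if i = j then 1 else 0) := by
      intro i
      rw [Derivation.leibniz, MvPolynomial.pderiv_X, smul_eq_mul, smul_eq_mul, Pi.single_apply]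
      simp only [eq_comm (a := j)]
      ring
    simp only [h3, map_add, map_mul, add_mul, Finset.sum_add_distrib]
    congr 1
    · apply Finset.sum_congr rfl
      intro i _
      ring
    · rw [Finset.sum_eq_single j]
      · simp
      · intro b _ hb
        simp [hb]
      · simp

/-- For a formally smooth quotient `P/J` of a polynomial ring there are elements `r i` of `J` with
`g ≡ ∑ (∂g/∂x_i) r_i` modulo `J²` for all `g ∈ J`. -/
theorem exists_retraction {A : Type u} {B : Type v} [CommRing A] [CommRing B] [Algebra A B]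
    [Algebra.FormallySmooth A B] {n : ℕ} (f : MvPolynomial (Fin n) A →ₐ[A] B)
    (hf : Function.Surjective f) :
    ∃ r : Fin n → MvPolynomial (Fin n) A, (∀ i, f (r i) = 0) ∧
      ∀ g, f g = 0 → g - ∑ i, MvPolynomial.pderiv i g * r i ∈ (RingHom.ker f.toRingHom) ^ 2 := by
  classical
  obtain ⟨s, hs⟩ := (Algebra.FormallySmooth.iff_split_surjection f hf).mp inferInstance
  have hlift : ∀ x, f.kerSquareLift (Ideal.Quotient.mk _ x) = f x := fun x => rfl
  choose r hr using fun i => Ideal.Quotient.mk_surjective (I := (RingHom.ker f.toRingHom) ^ 2)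
    (Ideal.Quotient.mk _ (MvPolynomial.X i) - s (f (MvPolynomial.X i)))
  have hfr : ∀ i, f (r i) = 0 := by
    intro i
    rw [← hlift, hr, map_sub, hlift]
    have := congr($hs (f (MvPolynomial.X i)))
    simp only [AlgHom.comp_apply, AlgHom.id_apply] at this
    rw [this, sub_self]
  have hJ2 : ∀ x y, f x = 0 → f y = 0 →
      Ideal.Quotient.mk ((RingHom.ker f.toRingHom) ^ 2) x * Ideal.Quotient.mk _ y = 0 := by
    intro x y hx hy
    rw [← map_mul, Ideal.Quotient.eq_zero_iff_mem, pow_two]
    exact Ideal.mul_mem_mul hx hy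
  refine ⟨r, hfr, ?_⟩
  intro g hg
  have key := taylor_aux (Ideal.Quotient.mk ((RingHom.ker f.toRingHom) ^ 2))
    (s.toRingHom.comp f.toRingHom) (fun a => by
      change s (f (MvPolynomial.C a)) = _
      rw [← MvPolynomial.algebraMap_eq, AlgHom.commutes, AlgHom.commutes]
      rfl) (fun i => Ideal.Quotient.mk _ (r i)) (fun i => hr i)
    (fun i j => hJ2 _ _ (hfr i) (hfr j)) g
  have h0 : (s.toRingHom.comp f.toRingHom) g = 0 := by
    change s (f g) = 0
    rw [hg, map_zero]
  rw [← Ideal.Quotient.eq_zero_iff_mem, map_sub, map_sum]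
  simp only [map_mul]
  rw [← key, h0, sub_zero, sub_self]

/-- The universal étale algebra for a square system of polynomial equations. -/
theorem exists_etale_of_system {A : Type u} [CommRing A] {n : ℕ} (F : Fin n → MvPolynomial (Fin n) A) :
    ∃ (C : Type u) (_ : CommRing C) (_ : Algebra A C), Algebra.Etale A C ∧
      ∃ x : Fin n → C, (∀ i, MvPolynomial.aeval x (F i) = 0) ∧
        ∀ (D : Type u) [CommRing D] [Algebra A D] (y : Fin n → D), (∀ i, MvPolynomial.aeval y (F i) = 0) →
          IsUnit (Matrix.det (Matrix.of fun i j => MvPolynomial.aeval y (MvPolynomial.pderiv i (F j)))) →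
          ∃ φ : C →ₐ[A] D, ∀ i, φ (x i) = y i := by
  classical
  let P0 : Algebra.PreSubmersivePresentation A
    (MvPolynomial (Fin n) A ⧸ (Ideal.span <| Set.range F)) (Fin n) (Fin n) :=
    Algebra.PreSubmersivePresentation.naive (v := F) _root_.id Function.injective_id
  let Δ := P0.jacobian
  have hΔ : IsUnit (algebraMap _ (Localization.Away Δ) Δ) :=
    IsLocalization.Away.algebraMap_isUnit _
  let P : Algebra.SubmersivePresentation A (Localization.Away Δ) _ _ :=
    { toPreSubmersivePresentation :=
        .comp (.localizationAway (Localization.Away Δ) Δ) P0,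
      jacobian_isUnit := by simpa [Algebra.smul_def, -isUnit_map_iff] using ⟨hΔ, hΔ⟩ }
  have : Algebra.IsStandardSmoothOfRelativeDimension 0 A (Localization.Away Δ) :=
    ⟨_, _, _, inferInstance, P, by
      simp only [Algebra.PreSubmersivePresentation.dimension_comp_eq_dimension_add_dimension, P]
      simp [Algebra.Presentation.dimension]⟩
  refine ⟨Localization.Away Δ, inferInstance, inferInstance, inferInstance,
    fun i => algebraMap _ _ (Ideal.Quotient.mk (Ideal.span <| Set.range F) (MvPolynomial.X i)), ?_, ?_⟩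
  · intro i
    have h1 : (MvPolynomial.aeval fun i => algebraMap _ (Localization.Away Δ)
      (Ideal.Quotient.mk (Ideal.span <| Set.range F) (MvPolynomial.X i))) =
        (IsScalarTower.toAlgHom A (MvPolynomial (Fin n) A ⧸ (Ideal.span <| Set.range F)) (Localization.Away Δ)).comp
        (Ideal.Quotient.mkₐ A (Ideal.span <| Set.range F)) := by
      ext i
      simp
    rw [h1, AlgHom.comp_apply]
    have : (Ideal.Quotient.mkₐ A (Ideal.span <| Set.range F)) (F i) = 0 :=
      Ideal.Quotient.eq_zero_iff_mem.mpr (Ideal.subset_span ⟨i, rfl⟩)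
    rw [this, map_zero]
  · intro D _ _ y hy hdet
    let ψ : (MvPolynomial (Fin n) A ⧸ (Ideal.span <| Set.range F)) →ₐ[A] D :=
      Ideal.Quotient.liftₐ _ (MvPolynomial.aeval y) (by
        intro a ha
        have : Ideal.span (Set.range F) ≤ RingHom.ker (MvPolynomial.aeval y : MvPolynomial (Fin n) A →ₐ[A] D).toRingHom := by
          rw [Ideal.span_le]
          rintro _ ⟨i, rfl⟩
          exact hy i
        exact this ha)
    have hψ : ∀ p, ψ (Ideal.Quotient.mk _ p) = MvPolynomial.aeval y p := fun p => rfl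
    have hΔ' : ψ Δ = Matrix.det (Matrix.of fun i j => MvPolynomial.aeval y (MvPolynomial.pderiv i (F j))) := by
      have h1 : Δ = Ideal.Quotient.mk _ P0.jacobiMatrix.det := P0.jacobian_eq_jacobiMatrix_det
      rw [h1, hψ, AlgHom.map_det]
      congr 1
      ext i j
      simp [P0]
    refine ⟨IsLocalization.liftAlgHom (M := Submonoid.powers Δ) (f := ψ) ?_, ?_⟩
    · rintro ⟨_, k, rfl⟩
      simp only [map_pow]
      exact (hΔ' ▸ hdet).pow k
    · intro i
      simp only [IsLocalization.liftAlgHom_apply, IsLocalization.lift_eq]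
      change ψ (Ideal.Quotient.mk _ (MvPolynomial.X i)) = _
      rw [hψ, MvPolynomial.aeval_X]

/-- A section over `A/I` of a smooth `A`-algebra `B` factors through a map from `B` to an étale `A`-algebra. -/
theorem exists_etale_of_smooth_section {A B : Type u} [CommRing A] [CommRing B] [Algebra A B]
    [Algebra.Smooth A B] (I : Ideal A) (σ : B →ₐ[A] A ⧸ I) :
    ∃ (C : Type u) (_ : CommRing C) (_ : Algebra A C), Algebra.Etale A C ∧
      ∃ (τ : B →ₐ[A] C) (φ : C →ₐ[A] A ⧸ I), ∀ b, φ (τ b) = σ b := by
  classical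
  obtain ⟨n, f, hf, hfg⟩ := (inferInstance : Algebra.FinitePresentation A B).out
  obtain ⟨r, hr, hr2⟩ := exists_retraction f hf
  choose a ha using fun i => Ideal.Quotient.mk_surjective (I := I) (σ (f (MvPolynomial.X i)))
  -- the equations
  let F : Fin n → MvPolynomial (Fin n) A := fun k =>
    r k + ∑ i, ((if k = i then 1 else 0) - MvPolynomial.pderiv i (r k)) *
      (MvPolynomial.X i - MvPolynomial.C (a i))
  obtain ⟨C, _, _, hC, x, hx, huniv⟩ := exists_etale_of_system F
  let y : Fin n → A ⧸ I := fun i => Ideal.Quotient.mk I (a i)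
  have hy : ∀ g, MvPolynomial.aeval y g = σ (f g) := by
    intro g
    have : (MvPolynomial.aeval y : MvPolynomial (Fin n) A →ₐ[A] A ⧸ I) = σ.comp f := by
      ext i
      simp [y, ha]
    rw [this]; rfl
  have hyX : ∀ i, MvPolynomial.aeval y (MvPolynomial.X i - MvPolynomial.C (a i) : MvPolynomial (Fin n) A) = 0 := by
    intro i
    simp [y]
  have hyr : ∀ i, MvPolynomial.aeval y (r i) = 0 := fun i => by rw [hy, hr, map_zero]
  have hyF : ∀ k, MvPolynomial.aeval y (F k) = 0 := by
    intro k
    simp only [F, map_add, map_sum, map_mul, hyX, mul_zero, Finset.sum_const_zero, hyr, add_zero]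
  have hydet : ∀ i j, MvPolynomial.aeval y (MvPolynomial.pderiv i (F j)) = if i = j then 1 else 0 := by
    intro i j
    simp only [F, map_add, map_sum, Derivation.leibniz, smul_eq_mul, map_mul, hyX, zero_mul, add_zero]
    have h1 : ∀ k, MvPolynomial.aeval y
        (MvPolynomial.pderiv i (MvPolynomial.X k - MvPolynomial.C (a k) : MvPolynomial (Fin n) A)) =
        if i = k then (1 : A ⧸ I) else 0 := by
      intro k
      rw [map_sub, MvPolynomial.pderiv_X, MvPolynomial.pderiv_C, sub_zero, Pi.single_apply]
      by_cases h : i = k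
      · simp [h]
      · simp [h, Ne.symm h]
    simp only [h1, mul_ite, mul_one, mul_zero, Finset.sum_ite_eq, Finset.mem_univ, if_true]
    by_cases h : i = j
    · subst h; simp
    · simp [h, Ne.symm h]
  have hdet : IsUnit (Matrix.det (Matrix.of fun i j =>
      MvPolynomial.aeval y (MvPolynomial.pderiv i (F j)))) := by
    have : (Matrix.of fun i j => MvPolynomial.aeval y (MvPolynomial.pderiv i (F j))) =
        (1 : Matrix (Fin n) (Fin n) (A ⧸ I)) := by
      ext i j
      simp [hydet, Matrix.one_apply]
    rw [this, Matrix.det_one]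
    exact isUnit_one
  obtain ⟨φ, hφ⟩ := huniv (A ⧸ I) y hyF hdet
  have hφx : ∀ g : MvPolynomial (Fin n) A, φ (MvPolynomial.aeval x g) = MvPolynomial.aeval y g := by
    intro g
    have : φ.comp (MvPolynomial.aeval x : MvPolynomial (Fin n) A →ₐ[A] C) = MvPolynomial.aeval y := by
      ext i
      simp [hφ]
    rw [← this]; rfl
  let K : Ideal C := (RingHom.ker f.toRingHom).map (MvPolynomial.aeval x : MvPolynomial (Fin n) A →ₐ[A] C).toRingHom
  let JC : Ideal C := RingHom.ker φ.toRingHom
  have hKfg : K.FG := hfg.map _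
  have hmemK : ∀ g, f g = 0 → MvPolynomial.aeval x g ∈ K := fun g hg => Ideal.mem_map_of_mem _ hg
  have hKJ : K ≤ JC := by
    rw [Ideal.map_le_iff_le_comap]
    intro g hg
    change φ (MvPolynomial.aeval x g) = 0
    rw [hφx, hy, show f g = 0 from hg, map_zero]
  have hK2 : ∀ g ∈ (RingHom.ker f.toRingHom) ^ 2, MvPolynomial.aeval x g ∈ JC * K := by
    intro g hg
    have h1 := Ideal.mem_map_of_mem (MvPolynomial.aeval x : MvPolynomial (Fin n) A →ₐ[A] C).toRingHom hg
    rw [Ideal.map_pow, pow_two] at h1
    exact Ideal.mul_mono_left hKJ h1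
  have hxa : ∀ i, MvPolynomial.aeval x (MvPolynomial.X i - MvPolynomial.C (a i) : MvPolynomial (Fin n) A) ∈ JC := by
    intro i
    change φ (MvPolynomial.aeval x _) = 0
    rw [hφx, hyX]
  have hxF : ∀ k, MvPolynomial.aeval x (r k) = - ∑ i, (MvPolynomial.aeval x
      (((if k = i then 1 else 0) - MvPolynomial.pderiv i (r k) : MvPolynomial (Fin n) A)) *
      MvPolynomial.aeval x (MvPolynomial.X i - MvPolynomial.C (a i) : MvPolynomial (Fin n) A)) := by
    intro k
    have := hx k
    simp only [F] at this
    rw [map_add, map_sum] at this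
    rw [eq_neg_iff_add_eq_zero]
    simpa only [map_mul] using this
  have hxr : ∀ k, MvPolynomial.aeval x (r k) ∈ JC * K := by
    intro k
    have h1 := hK2 _ (hr2 _ (hr k))
    have h2 : ∀ j, MvPolynomial.pderiv j (r k) - ∑ i, MvPolynomial.pderiv i (r k) * MvPolynomial.pderiv j (r i) ∈
        RingHom.ker f.toRingHom := by
      intro j
      have h3 := pderiv_mem_of_mem_sq _ j (hr2 _ (hr k))
      rw [map_sub, map_sum] at h3
      have h4 : ∑ i, MvPolynomial.pderiv j (MvPolynomial.pderiv i (r k) * r i) =
          ∑ i, MvPolynomial.pderiv i (r k) * MvPolynomial.pderiv j (r i) +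
          ∑ i, r i * MvPolynomial.pderiv j (MvPolynomial.pderiv i (r k)) := by
        rw [← Finset.sum_add_distrib]
        apply Finset.sum_congr rfl
        intro i _
        rw [Derivation.leibniz, smul_eq_mul, smul_eq_mul]
      rw [h4, ← sub_sub] at h3
      have h5 : ∑ i, r i * MvPolynomial.pderiv j (MvPolynomial.pderiv i (r k)) ∈ RingHom.ker f.toRingHom :=
        sum_mem fun i _ => Ideal.mul_mem_right _ _ (hr i)
      have := add_mem h3 h5
      rwa [sub_add_cancel] at this
    rw [map_sub, map_sum] at h1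
    have h6 : ∑ i, MvPolynomial.aeval x (MvPolynomial.pderiv i (r k) * r i) ∈ JC * K := by
      have h7 : ∑ i, MvPolynomial.aeval x (MvPolynomial.pderiv i (r k) * r i) =
          - ∑ j, MvPolynomial.aeval x (MvPolynomial.X j - MvPolynomial.C (a j) : MvPolynomial (Fin n) A) *
            MvPolynomial.aeval x (MvPolynomial.pderiv j (r k) - ∑ i, MvPolynomial.pderiv i (r k) * MvPolynomial.pderiv j (r i)) := by
        have h8 : ∀ i, MvPolynomial.aeval x (MvPolynomial.pderiv i (r k) * r i) =
          - ∑ j, MvPolynomial.aeval x (MvPolynomial.pderiv i (r k)) * ((MvPolynomial.aeval x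
            (((if i = j then 1 else 0) - MvPolynomial.pderiv j (r i) : MvPolynomial (Fin n) A)) *
            MvPolynomial.aeval x (MvPolynomial.X j - MvPolynomial.C (a j) : MvPolynomial (Fin n) A))) := by
          intro i
          rw [map_mul, hxF i, mul_neg, Finset.mul_sum]
        simp only [h8]
        rw [Finset.sum_neg_distrib, Finset.sum_comm]
        congr 1
        apply Finset.sum_congr rfl
        intro j _
        have h9 : ∀ i, MvPolynomial.aeval x (MvPolynomial.pderiv i (r k)) * ((MvPolynomial.aeval x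
            (((if i = j then 1 else 0) - MvPolynomial.pderiv j (r i) : MvPolynomial (Fin n) A)) *
            MvPolynomial.aeval x (MvPolynomial.X j - MvPolynomial.C (a j) : MvPolynomial (Fin n) A))) =
            MvPolynomial.aeval x (MvPolynomial.X j - MvPolynomial.C (a j) : MvPolynomial (Fin n) A) *
            (MvPolynomial.aeval x (MvPolynomial.pderiv i (r k) * (if i = j then 1 else 0)) -
              MvPolynomial.aeval x (MvPolynomial.pderiv i (r k) * MvPolynomial.pderiv j (r i))) := by
          intro i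
          simp only [map_sub, map_mul]
          ring
        simp only [h9]
        rw [← Finset.mul_sum, Finset.sum_sub_distrib]
        congr 1
        rw [map_sub, map_sum]
        congr 1
        rw [Finset.sum_eq_single j]
        · simp
        · intro b _ hb
          simp [hb]
        · simp
      rw [h7]
      exact neg_mem (sum_mem fun j _ => Ideal.mul_mem_mul (hxa j) (hmemK _ (h2 j)))
    have := add_mem h1 h6
    rwa [sub_add_cancel] at this
  have hKN : K ≤ JC • K := by
    rw [smul_eq_mul, Ideal.map_le_iff_le_comap]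
    intro g hg
    change MvPolynomial.aeval x g ∈ JC * K
    have h1 := hK2 _ (hr2 g hg)
    rw [map_sub, map_sum] at h1
    have h2 : ∑ i, MvPolynomial.aeval x (MvPolynomial.pderiv i g * r i) ∈ JC * K := by
      refine sum_mem fun i _ => ?_
      rw [map_mul]
      exact Ideal.mul_mem_left _ _ (hxr i)
    have := add_mem h1 h2
    rwa [sub_add_cancel] at this
  obtain ⟨v, hv, hvK⟩ := Submodule.exists_sub_one_mem_and_smul_eq_zero_of_fg_of_le_smul JC K hKfg hKN
  have hφv : φ v = 1 := by
    have : φ (v - 1) = 0 := hv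
    rwa [map_sub, map_one, sub_eq_zero] at this
  have hker : ∀ g : MvPolynomial (Fin n) A, g ∈ RingHom.ker f.toRingHom →
      ((IsScalarTower.toAlgHom A C (Localization.Away v)).comp (MvPolynomial.aeval x)) g = 0 := by
    intro g hg
    change algebraMap C (Localization.Away v) (MvPolynomial.aeval x g) = 0
    rw [IsLocalization.map_eq_zero_iff (Submonoid.powers v)]
    exact ⟨⟨v, 1, by simp⟩, hvK _ (hmemK g hg)⟩
  let τ : B →ₐ[A] Localization.Away v :=
    (Ideal.Quotient.liftₐ (RingHom.ker f.toRingHom) ((IsScalarTower.toAlgHom A C (Localization.Away v)).comp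
      (MvPolynomial.aeval x)) hker).comp (Ideal.quotientKerAlgEquivOfSurjective (f := f) hf).symm.toAlgHom
  have hτ : ∀ g, τ (f g) = algebraMap C (Localization.Away v) (MvPolynomial.aeval x g) := by
    intro g
    have : (Ideal.quotientKerAlgEquivOfSurjective (f := f) hf).symm (f g) = Ideal.Quotient.mk _ g := by
      rw [AlgEquiv.symm_apply_eq]
      rfl
    change (Ideal.Quotient.liftₐ (RingHom.ker f.toRingHom) _ hker) ((Ideal.quotientKerAlgEquivOfSurjective (f := f) hf).symm (f g)) = _
    rw [this]
    rfl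
  have hunit : ∀ z : Submonoid.powers v, IsUnit (φ z) := by
    rintro ⟨_, k, rfl⟩
    simp [hφv]
  have : Algebra.Etale C (Localization.Away v) := Algebra.Etale.of_isLocalizationAway v
  refine ⟨Localization.Away v, inferInstance, inferInstance, Algebra.Etale.comp A C _, τ,
    IsLocalization.liftAlgHom (M := Submonoid.powers v) (f := φ) hunit, ?_⟩
  intro b
  obtain ⟨g, rfl⟩ := hf b
  rw [hτ]
  simp only [IsLocalization.liftAlgHom_apply, IsLocalization.lift_eq]
  change φ (MvPolynomial.aeval x g) = _
  rw [hφx, hy]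

/-- Stacks 07M7. -/
theorem exists_etale_lift_section_of_smooth {A B : Type u} [CommRing A] [CommRing B] [Algebra A B]
    [Algebra.Smooth A B] (I : Ideal A) (σ : B →ₐ[A] A ⧸ I) :
    ∃ (A' : Type u) (_ : CommRing A') (_ : Algebra A A'), Algebra.Etale A A' ∧
      Function.Bijective (algebraMap (A ⧸ I) (A' ⧸ I.map (algebraMap A A'))) ∧
      ∃ τ : B →ₐ[A] A', ∀ b : B,
        Ideal.Quotient.mk (I.map (algebraMap A A')) (τ b) =
          algebraMap (A ⧸ I) (A' ⧸ I.map (algebraMap A A')) (σ b) := by
  obtain ⟨C, _, _, _, τ, φ, hτφ⟩ := exists_etale_of_smooth_section I σ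
  obtain ⟨A', _, _, h1, h2, τ', hτ'⟩ := exists_etale_nbhd I φ
  refine ⟨A', inferInstance, inferInstance, h1, h2, τ'.comp τ, ?_⟩
  intro b
  rw [AlgHom.comp_apply, hτ', hτφ]

end Groth.Agent.CalgB.EtaleNbhd
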