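import Groth.Agent.CalgB.EtaleNbhd
import Mathlib.RingTheory.Finiteness.Projective
import Mathlib.RingTheory.Idempotents
import Mathlib.LinearAlgebra.TensorProduct.Pi
import Mathlib.LinearAlgebra.Matrix.ToLin

/-!
Lifting finite projective modules along étale neighbourhoods.
-/

set_option autoImplicit false
universe u v

namespace Groth.Agent.CalgB.EtaleProj

open TensorProduct

/-- The universal algebra with an idempotent matrix is smooth. -/
theorem exists_universal_idempotent (A : Type u) [CommRing A] (n : ℕ) :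
    ∃ (B : Type u) (_ : CommRing B) (_ : Algebra A B), Algebra.Smooth A B ∧
      ∃ (E : Matrix (Fin n) (Fin n) B), E * E = E ∧
        ∀ (D : Type u) [CommRing D] [Algebra A D] (M : Matrix (Fin n) (Fin n) D), M * M = M →
          ∃ φ : B →ₐ[A] D, E.map φ = M := by
  classical
  let P := MvPolynomial (Fin n × Fin n) A
  let X : Matrix (Fin n) (Fin n) P := Matrix.of fun i j => MvPolynomial.X (i, j)
  let J : Ideal P := Ideal.span (Set.range fun ij : Fin n × Fin n => (X * X - X) ij.1 ij.2)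
  let B := P ⧸ J
  let q : P →ₐ[A] B := Ideal.Quotient.mkₐ A J
  let E : Matrix (Fin n) (Fin n) B := X.map q
  have hE : E * E = E := by
    rw [← sub_eq_zero]
    have h1 : E * E - E = (X * X - X).map q := by
      simp only [E]
      rw [← Matrix.map_mul, Matrix.map_sub]
      intro a b; exact map_sub q a b
    rw [h1]
    ext i j
    change q ((X * X - X) i j) = 0
    exact Ideal.Quotient.eq_zero_iff_mem.mpr (Ideal.subset_span ⟨(i, j), rfl⟩)
  have huniv : ∀ {D : Type u} [CommRing D] [Algebra A D] (M : Matrix (Fin n) (Fin n) D), M * M = M →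
          ∃ φ : B →ₐ[A] D, E.map φ = M := by
    intro D _ _ M hM
    let ψ : P →ₐ[A] D := MvPolynomial.aeval fun ij => M ij.1 ij.2
    have hX : X.map ψ = M := by
      ext i j
      exact MvPolynomial.aeval_X _ _
    have hψ : ∀ a ∈ J, ψ a = 0 := by
      intro a ha
      have : J ≤ RingHom.ker ψ.toRingHom := by
        rw [Ideal.span_le]
        rintro _ ⟨⟨i, j⟩, rfl⟩
        change ψ ((X * X - X) i j) = 0
        have h1 : (X * X - X).map ψ = 0 := by
          rw [Matrix.map_sub _ (fun a b => map_sub ψ a b), Matrix.map_mul, hX, hM, sub_self]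
        exact congr($h1 i j)
      exact this ha
    refine ⟨Ideal.Quotient.liftₐ J ψ hψ, ?_⟩
    ext i j
    change ψ (X i j) = _
    exact congr($hX i j)
  have hext : ∀ {D : Type u} [CommRing D] [Algebra A D] (φ ψ : B →ₐ[A] D), E.map φ = E.map ψ → φ = ψ := by
    intro D _ _ φ ψ h
    apply Ideal.Quotient.algHom_ext
    apply MvPolynomial.algHom_ext
    rintro ⟨i, j⟩
    exact congr($h i j)
  have hfp : Algebra.FinitePresentation A B :=
    Algebra.FinitePresentation.quotient (Submodule.fg_span (Set.finite_range _))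
  have hfs : Algebra.FormallySmooth A B := by
    refine Algebra.FormallySmooth.of_comp_surjective ?_
    intro C _ _ I hI g
    let f : Matrix (Fin n) (Fin n) C →+* Matrix (Fin n) (Fin n) (C ⧸ I) := (Ideal.Quotient.mk I).mapMatrix
    have hf : Function.Surjective f := by
      intro N
      choose M hM using fun i j => Ideal.Quotient.mk_surjective (N i j)
      exact ⟨Matrix.of M, by ext i j; exact hM i j⟩
    have hker : ∀ x ∈ RingHom.ker f, IsNilpotent x := by
      intro x hx
      refine ⟨2, ?_⟩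
      have hx' : ∀ i j, x i j ∈ I := by
        intro i j
        rw [← Ideal.Quotient.eq_zero_iff_mem]
        exact congr($(hx) i j)
      rw [pow_two]
      ext i j
      rw [Matrix.mul_apply, Matrix.zero_apply]
      apply Finset.sum_eq_zero
      intro k _
      have : x i k * x k j ∈ I ^ 2 := by
        rw [pow_two]
        exact Ideal.mul_mem_mul (hx' _ _) (hx' _ _)
      rwa [hI, Ideal.mem_bot] at this
    have hidem : IsIdempotentElem (E.map g) := by
      change E.map g * E.map g = E.map g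
      rw [← Matrix.map_mul, hE]
    obtain ⟨M, hM, hfM⟩ := exists_isIdempotentElem_eq_of_ker_isNilpotent f hker _ (hf _) hidem
    obtain ⟨φ, hφ⟩ := huniv M hM
    refine ⟨φ, hext _ _ ?_⟩
    rw [← hfM, ← hφ]
    rfl
  exact ⟨B, inferInstance, inferInstance, ⟨hfs, hfp⟩, E, hE, fun D _ _ M hM => huniv M hM⟩

/-- Two retracts of `Q^n` with the same idempotent are isomorphic. -/
theorem retract_iso {Q : Type u} [CommRing Q] {V M N : Type u} [AddCommGroup V] [Module Q V]
    [AddCommGroup M] [Module Q M] [AddCommGroup N] [Module Q N]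
    (a₁ : M →ₗ[Q] V) (b₁ : V →ₗ[Q] M) (h₁ : b₁ ∘ₗ a₁ = LinearMap.id)
    (a₂ : N →ₗ[Q] V) (b₂ : V →ₗ[Q] N) (h₂ : b₂ ∘ₗ a₂ = LinearMap.id)
    (h : a₁ ∘ₗ b₁ = a₂ ∘ₗ b₂) : Nonempty (M ≃ₗ[Q] N) := by
  refine ⟨LinearEquiv.ofLinearMap (b₂ ∘ₗ a₁) (b₁ ∘ₗ a₂) ?_ ?_⟩
  · rw [LinearMap.comp_assoc, ← LinearMap.comp_assoc a₂ b₁ a₁, h]
    rw [LinearMap.comp_assoc a₂ b₂ a₂, h₂, LinearMap.comp_id, h₂]
  · rw [LinearMap.comp_assoc, ← LinearMap.comp_assoc a₁ b₂ a₂, ← h]
    rw [LinearMap.comp_assoc a₁ b₁ a₁, h₁, LinearMap.comp_id, h₁]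

/-- Base change of a retract of a free module. -/
theorem baseChange_retract {R : Type u} (Q : Type u) [CommRing R] [CommRing Q] [Algebra R Q] {n : ℕ}
    {M : Type u} [AddCommGroup M] [Module R M] (a : M →ₗ[R] (Fin n → R)) (b : (Fin n → R) →ₗ[R] M)
    (h : b ∘ₗ a = LinearMap.id) :
    ∃ (a' : (Q ⊗[R] M) →ₗ[Q] (Fin n → Q)) (b' : (Fin n → Q) →ₗ[Q] (Q ⊗[R] M)),
      b' ∘ₗ a' = LinearMap.id ∧
        a' ∘ₗ b' = Matrix.toLin' ((LinearMap.toMatrix' (a ∘ₗ b)).map (algebraMap R Q)) := by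
  classical
  let e : Q ⊗[R] (Fin n → R) ≃ₗ[Q] (Fin n → Q) := TensorProduct.piScalarRight R Q Q (Fin n)
  refine ⟨e.toLinearMap ∘ₗ a.baseChange Q, b.baseChange Q ∘ₗ e.symm.toLinearMap, ?_, ?_⟩
  · have : (b.baseChange Q ∘ₗ e.symm.toLinearMap) ∘ₗ (e.toLinearMap ∘ₗ a.baseChange Q) =
        b.baseChange Q ∘ₗ a.baseChange Q := by
      ext x; simp
    rw [this, ← LinearMap.baseChange_comp, h, LinearMap.baseChange_id]
  · apply LinearMap.pi_ext'
    intro i
    ext j
    simp only [LinearMap.comp_apply, LinearMap.single_apply, LinearEquiv.coe_coe, e,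
      TensorProduct.piScalarRight_symm_single, LinearMap.baseChange_tmul,
      TensorProduct.piScalarRight_apply, TensorProduct.piScalarRightHom_tmul]
    rw [Matrix.toLin'_apply, Matrix.mulVec_single_one]
    simp [LinearMap.toMatrix'_apply, Algebra.smul_def]

/-- Stacks 07M5. -/
theorem exists_etale_lift_finite_projective {A : Type u} [CommRing A] (I : Ideal A) (P : Type u)
    [AddCommGroup P] [Module (A ⧸ I) P] [Module.Finite (A ⧸ I) P] [Module.Projective (A ⧸ I) P] :
    ∃ (A' : Type u) (_ : CommRing A') (_ : Algebra A A'), Algebra.Etale A A' ∧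
      Function.Bijective (algebraMap (A ⧸ I) (A' ⧸ I.map (algebraMap A A'))) ∧
      ∃ (P' : Type u) (_ : AddCommGroup P') (_ : Module A' P'), Module.Finite A' P' ∧
        Module.Projective A' P' ∧
        Nonempty (((A' ⧸ I.map (algebraMap A A')) ⊗[A'] P') ≃ₗ[A' ⧸ I.map (algebraMap A A')]
          ((A' ⧸ I.map (algebraMap A A')) ⊗[A ⧸ I] P)) := by
  classical
  obtain ⟨n, b, a, -, -, hba⟩ := Module.Finite.exists_comp_eq_id_of_projective (A ⧸ I) P
  obtain ⟨B, _, _, _, E, hE, huniv⟩ := exists_universal_idempotent A n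
  obtain ⟨σ, hσ⟩ := huniv (A ⧸ I) (LinearMap.toMatrix' (a ∘ₗ b)) (by
    rw [← LinearMap.toMatrix'_mul]
    congr 1
    change (a ∘ₗ b) ∘ₗ (a ∘ₗ b) = a ∘ₗ b
    rw [LinearMap.comp_assoc, ← LinearMap.comp_assoc b a b, hba, LinearMap.id_comp])
  obtain ⟨A', _, _, h1, h2, τ, hτ⟩ := EtaleNbhd.exists_etale_lift_section_of_smooth I σ
  let E' : Matrix (Fin n) (Fin n) A' := E.map τ
  have hE' : E' * E' = E' := by
    simp only [E']
    rw [← Matrix.map_mul, hE]
  let T : (Fin n → A') →ₗ[A'] (Fin n → A') := Matrix.toLin' E'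
  have hT : T ∘ₗ T = T := by
    simp only [T]
    rw [← Matrix.toLin'_mul, hE']
  let P' := LinearMap.range T
  let a' : P' →ₗ[A'] (Fin n → A') := P'.subtype
  let b' : (Fin n → A') →ₗ[A'] P' := T.rangeRestrict
  have hb'a' : b' ∘ₗ a' = LinearMap.id := by
    ext ⟨x, y, rfl⟩ : 2
    change T (T y) = T y
    exact congr($hT y)
  have ha'b' : a' ∘ₗ b' = T := rfl
  have hfin : Module.Finite A' P' := Module.Finite.of_surjective b' T.surjective_rangeRestrict
  have hproj : Module.Projective A' P' := Module.Projective.of_split a' b' hb'a'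
  obtain ⟨a₁, b₁, h₁, h₁'⟩ := baseChange_retract (A' ⧸ I.map (algebraMap A A')) a' b' hb'a'
  obtain ⟨a₂, b₂, h₂, h₂'⟩ := baseChange_retract (A' ⧸ I.map (algebraMap A A')) a b hba
  refine ⟨A', inferInstance, inferInstance, h1, h2, P', inferInstance, inferInstance, hfin, hproj,
    retract_iso a₁ b₁ h₁ a₂ b₂ h₂ ?_⟩
  rw [h₁', h₂']
  congr 1
  rw [ha'b', ← hσ, LinearMap.toMatrix'_toLin']
  ext i j
  exact hτ (E i j)

end Groth.Agent.CalgB.EtaleProj
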