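import Groth.Agent.CalgB.FormalFibre2

/-!
# Generic fibres of algebras to which derivations extend

`isRegularRing_generic`: `A` a complete regular local domain with fraction field `K`, `C` an `A`-algebra such that
`K ⊗ C` is regular and derivations of finite `A`-algebras `B` extend to `C ⊗ B`. Then `L ⊗ C` is regular
for all finite `L / K`.
-/

set_option autoImplicit false

universe u

open TensorProduct IsLocalRing

namespace Groth.Agent.CalgB.FSFibre1

/-- Derivations of finite `A`-algebras `B` extend to `C ⊗ B`. -/
def DerExtends (A C : Type u) [CommRing A] [CommRing C] [Algebra A C] : Prop :=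
  ∀ (B : Type u) [CommRing B] [Algebra A B] [Module.Finite A B] (D : Derivation ℤ B B),
    DerTensor.Extends (Algebra.TensorProduct.includeRight : B →ₐ[A] C ⊗[A] B).toRingHom D

theorem DerExtends.field {A B C : Type u} [CommRing A] [CommRing C] [Algebra A C]
    [CommRing B] [Algebra A B] [Module.Finite A B] (h : DerExtends A C) (D : Derivation ℤ B B)
    (L : Type u) [CommRing L] [Algebra A L] [Algebra B L] [IsScalarTower A B L]
    (N : Submonoid B) [IsLocalization N L] :
    ∃ D' : Derivation ℤ (C ⊗[A] L) (C ⊗[A] L),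
      ∀ b : B, D' (1 ⊗ₜ algebraMap B L b) = 1 ⊗ₜ algebraMap B L (D b) := by
  have h1 := h B D
  have h2 : DerTensor.Extends (algebraMap B (B ⊗[A] C)) D := by
    refine h1.equiv' (Algebra.TensorProduct.comm A C B).toRingEquiv _ ?_
    intro b
    simp [Algebra.TensorProduct.algebraMap_apply]
  have hfe : Algebra.FormallyEtale B L := .of_isLocalization N
  have h3 : DerTensor.Extends (algebraMap B ((B ⊗[A] C) ⊗[B] L)) D := by
    have h3 := h2.comp_formallyEtale (T' := (B ⊗[A] C) ⊗[B] L)
    rwa [← IsScalarTower.algebraMap_eq] at h3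
  let e1 := (Algebra.TensorProduct.comm B (B ⊗[A] C) L).toRingEquiv
  let e2 := (Algebra.TensorProduct.cancelBaseChange A B B L C).toRingEquiv
  let e3 := (Algebra.TensorProduct.comm A L C).toRingEquiv
  have h4 := h3.equiv' ((e1.trans e2).trans e3)
    ((Algebra.TensorProduct.includeRight : L →ₐ[A] C ⊗[A] L).toRingHom.comp
      (algebraMap B L)) (by
    intro b
    have hb : algebraMap B ((B ⊗[A] C) ⊗[B] L) b = 1 ⊗ₜ[B] (algebraMap B L b) :=
      Algebra.TensorProduct.algebraMap_apply' b
    rw [hb]
    simp [e1, e2, e3, Algebra.TensorProduct.one_def])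
  exact h4

/-- One degree `p` step along `L' ⊆ L`. -/
theorem isRegularRing_step {A : Type u} [CommRing A] [IsDomain A] [IsLocalRing A]
    [IsNoetherianRing A] [IsAdicComplete (maximalIdeal A) A] (p : ℕ) [Fact p.Prime] [CharP A p]
    (C : Type u) [CommRing C] [Algebra A C] (hC : DerExtends A C)
    (K : Type u) [Field K] [Algebra A K] [IsFractionRing A K] (L' L : Type u) [Field L'] [Field L]
    [Algebra K L'] [Algebra A L'] [IsScalarTower A K L'] [FiniteDimensional K L'] [Algebra L' L]
    [Algebra A L] [IsScalarTower A L' L] (z : L) (hz : z ^ p ∈ Set.range (algebraMap L' L))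
    (hz' : z ∉ Set.range (algebraMap L' L)) (hgen : Algebra.adjoin L' {z} = ⊤)
    (h : IsRegularRing (L' ⊗[A] C)) :
    IsRegularRing (L ⊗[A] C) := by
  obtain ⟨f₀, hf₀⟩ := hz
  obtain ⟨a, ha⟩ := IsIntegral.exists_multiple_integral_of_isLocalization (R := A) (Rₘ := K)
    (nonZeroDivisors A) f₀ (Algebra.IsIntegral.isIntegral (R := K) f₀)
  have hp : p.Prime := Fact.out
  have hAK : Function.Injective (algebraMap A K) := IsFractionRing.injective A K
  have hAL' : Function.Injective (algebraMap A L') := by
    rw [IsScalarTower.algebraMap_eq A K L']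
    exact (algebraMap K L').injective.comp hAK
  have haL' : algebraMap A L' (a : A) ≠ 0 := by
    rw [Ne, map_eq_zero_iff _ hAL']
    exact nonZeroDivisors.ne_zero a.2
  -- replace `z` by an integral multiple
  let f : L' := algebraMap A L' (a : A) ^ p * f₀
  let z₁ : L := algebraMap L' L (algebraMap A L' (a : A)) * z
  have hz₁ : z₁ ^ p = algebraMap L' L f := by
    simp only [z₁, f, mul_pow, map_mul, map_pow, hf₀]
  have hfint : IsIntegral A f := by
    have h1 : f = algebraMap A L' (a : A) ^ (p - 1) * (a • f₀) := by
      rw [Submonoid.smul_def, Algebra.smul_def, ← mul_assoc, ← pow_succ,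
        Nat.sub_add_cancel hp.pos]
    rw [h1]
    exact ((isIntegral_algebraMap).pow _).mul ha
  have haL : algebraMap L' L (algebraMap A L' (a : A)) ≠ 0 := by
    rw [Ne, map_eq_zero_iff _ (algebraMap L' L).injective]
    exact haL'
  have hz₁' : z₁ ∉ Set.range (algebraMap L' L) := by
    rintro ⟨w, hw⟩
    apply hz'
    refine ⟨w * (algebraMap A L' (a : A))⁻¹, ?_⟩
    rw [map_mul, hw, map_inv₀]
    simp only [z₁]
    rw [mul_comm, inv_mul_cancel_left₀ haL]
  have hgen₁ : Algebra.adjoin L' {z₁} = ⊤ := by
    rw [eq_top_iff, ← hgen, Algebra.adjoin_le_iff, Set.singleton_subset_iff]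
    have h1 : z = algebraMap L' L (algebraMap A L' (a : A))⁻¹ * z₁ := by
      simp only [z₁]
      rw [map_inv₀, inv_mul_cancel_left₀ haL]
    rw [h1]
    exact Subalgebra.mul_mem _ (Subalgebra.algebraMap_mem _ _)
      (Algebra.subset_adjoin (Set.mem_singleton _))
  have hcL' : CharP L' p := charP_of_injective_algebraMap hAL' p
  have hcL : CharP L p := charP_of_injective_algebraMap (algebraMap L' L).injective p
  -- the finite subalgebra
  obtain ⟨B, hBfin, hfB, hBfrac⟩ := FormalFibre1.exists_finite_subalgebra (K := K) f hfint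
  have hAB : Function.Injective (algebraMap A B) := by
    have h1 : Function.Injective ((algebraMap B L').comp (algebraMap A B)) := hAL'
    rw [RingHom.coe_comp] at h1
    exact h1.of_comp
  have hcB : CharP B p := charP_of_injective_algebraMap hAB p
  obtain ⟨D, hD⟩ := Groth.Agent.S2048.result (R := A) (B := B) p ⟨f, hfB⟩ (by
    intro x hx
    let e : FractionRing B ≃ₐ[B] L' := IsLocalization.algEquiv (nonZeroDivisors B) _ _
    have h1 := congrArg e hx
    rw [map_pow, e.commutes] at h1
    have h2 : (e x) ^ p = f := h1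
    have h3 : (algebraMap L' L (e x) - z₁) ^ p = 0 := by
      rw [sub_pow_char, ← map_pow, h2, hz₁, sub_self]
    have h4 := pow_eq_zero_iff (hp.ne_zero) |>.mp h3
    exact hz₁' ⟨e x, sub_eq_zero.mp h4⟩)
  obtain ⟨D₁, hD₁⟩ := hC.field D L' (nonZeroDivisors B)
  have h5 : DerTensor.Extends ((Algebra.TensorProduct.includeRight :
      L' →ₐ[A] C ⊗[A] L').toRingHom.comp (algebraMap B L')) D := ⟨D₁, hD₁⟩
  obtain ⟨D₂, hD₂⟩ := h5.equiv' (Algebra.TensorProduct.comm A C L').toRingEquiv
    ((algebraMap L' (L' ⊗[A] C)).comp (algebraMap B L')) (by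
      intro b
      simp [Algebra.TensorProduct.algebraMap_apply])
  have h6 : IsUnit (D₂ (algebraMap L' (L' ⊗[A] C) f)) := by
    have h7 := hD₂ ⟨f, hfB⟩
    have h8 : D₂ (algebraMap L' (L' ⊗[A] C) f) =
      algebraMap L' (L' ⊗[A] C) (algebraMap B L' (D ⟨f, hfB⟩)) := h7
    rw [h8]
    apply IsUnit.map
    rw [isUnit_iff_ne_zero, Ne, map_eq_zero_iff _ (IsFractionRing.injective B L')]
    exact hD
  have h9 := FormalFibre1.isRegularRing_tensor_of_derivation (S := L' ⊗[A] C) p f z₁ hz₁
    hgen₁ D₂ h6
  exact IsRegularRing.of_ringEquiv (R := (L' ⊗[A] C) ⊗[L'] L)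
    ((Algebra.TensorProduct.comm L' (L' ⊗[A] C) L).toRingEquiv.trans
      (Algebra.TensorProduct.cancelBaseChange A L' L' L C).toRingEquiv)

/-- The generic fibre is geometrically regular, if derivations extend. -/
theorem isRegularRing_generic {A : Type u} [CommRing A] [IsDomain A] [IsLocalRing A]
    [IsNoetherianRing A] [IsAdicComplete (maximalIdeal A) A] (C : Type u) [CommRing C] [Algebra A C]
    (hC : DerExtends A C) (K : Type u) [Field K] [Algebra A K] [IsFractionRing A K]
    (hK : IsRegularRing (K ⊗[A] C))
    (L : Type u) [Field L] [Algebra K L] [Algebra A L] [IsScalarTower A K L]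
    [FiniteDimensional K L] :
    IsRegularRing (L ⊗[A] C) := by
  have hAK : Function.Injective (algebraMap A K) := IsFractionRing.injective A K
  obtain ⟨p, hp⟩ := CharP.exists K
  by_cases hp0 : p = 0
  · subst hp0
    have : CharZero K := CharP.charP_to_charZero K
    exact FormalFibre2.isRegularRing_of_separable (F := K) (E := L) hK
  have hpp : Fact p.Prime := ⟨(CharP.char_is_prime_or_zero K p).resolve_right hp0⟩
  have hpA : CharP A p := (RingHom.charP_iff (algebraMap A K) hAK p).mpr hp
  have key := FormalFibre2.field_induction (K := K) (L := L) p (fun E => IsRegularRing (E ⊗[A] C))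
    (FormalFibre2.isRegularRing_of_separable (F := K) (E := separableClosure K L) hK) (by
      intro E z hE hz hzp
      have : IsScalarTower A E L := .of_algebraMap_eq (fun a => rfl)
      let E' := IntermediateField.adjoin E {z}
      have hzi : IsIntegral E z := Algebra.IsIntegral.isIntegral z
      let z' : E' := IntermediateField.AdjoinSimple.gen E z
      have hgen : Algebra.adjoin E {z'} = ⊤ := by
        have := (IntermediateField.adjoin.powerBasis hzi).adjoin_gen_eq_top
        rwa [IntermediateField.adjoin.powerBasis_gen] at this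
      have : IsRegularRing (E' ⊗[A] C) :=
        isRegularRing_step p C hC K E E' z'
          ⟨⟨z ^ p, hzp⟩, by
            apply Subtype.val_injective
            rfl⟩ (by
            rintro ⟨w, hw⟩
            apply hz
            have := congrArg Subtype.val hw
            have h3 : (w : L) = z := this
            exact h3 ▸ w.2) hgen hE
      exact this)
  have e : (⊤ : IntermediateField K L) ≃ₐ[A] L :=
    (IntermediateField.topEquiv (F := K) (E := L)).restrictScalars A
  exact IsRegularRing.of_ringEquiv (R := (⊤ : IntermediateField K L) ⊗[A] C)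
    (Algebra.TensorProduct.congr e AlgEquiv.refl).toRingEquiv

end Groth.Agent.CalgB.FSFibre1
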