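import Mathlib.RingTheory.RegularLocalRing.Defs
import Mathlib.RingTheory.KrullDimension.Regular
import Mathlib.RingTheory.Derivation.Basic
import Mathlib.LinearAlgebra.Dimension.FreeAndStrongRankCondition

/-!
# Quotients of regular local rings by part of a regular system of parameters
-/

set_option autoImplicit false

open IsLocalRing

namespace Groth.Agent.CalgB.RegQuot

variable {P : Type*} [CommRing P]

/-- Krull: dividing by `c` elements of the maximal ideal drops the dimension by at most `c`. -/
theorem ringKrullDim_le_quotient_add_card [IsLocalRing P] [IsNoetherianRing P]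
    {ι : Type*} [Finite ι] (f : ι → P) (hf : ∀ i, f i ∈ maximalIdeal P) :
    ringKrullDim P ≤ ringKrullDim (P ⧸ Ideal.span (Set.range f)) + (Nat.card ι : ℕ) := by
  have hI : Ideal.span (Set.range f) ≤ maximalIdeal P := by
    rw [Ideal.span_le]; rintro _ ⟨i, rfl⟩; exact hf i
  refine (ringKrullDim_le_ringKrullDim_quotient_add_spanFinrank (Ideal.span (Set.range f))
    (by rw [ringJacobson_eq_maximalIdeal]; exact hI)).trans ?_
  refine add_le_add le_rfl ?_
  norm_cast
  refine (Submodule.spanFinrank_span_le_ncard_of_finite (Set.finite_range f)).trans ?_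
  rw [← Set.image_univ, ← Set.ncard_univ]
  exact Set.ncard_image_le Set.finite_univ

/-- Elements `f i` of the maximal ideal of a regular local ring which are linearly independent in `𝔪/𝔪²`
(stated elementwise) cut out a regular local ring whose dimension drops by exactly their number. -/
theorem isRegularLocalRing_quotient [IsRegularLocalRing P] {ι : Type*} [Finite ι] (f : ι → P)
    (hf : ∀ i, f i ∈ maximalIdeal P)
    (hind : ∀ c : ι → P, (∑ᶠ i, c i * f i) ∈ maximalIdeal P ^ 2 → ∀ i, c i ∈ maximalIdeal P) :
    IsRegularLocalRing (P ⧸ Ideal.span (Set.range f)) ∧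
      ringKrullDim (P ⧸ Ideal.span (Set.range f)) + (Nat.card ι : ℕ) = ringKrullDim P := by
  classical
  have := Fintype.ofFinite ι
  simp_rw [finsum_eq_sum_of_fintype] at hind
  set I := Ideal.span (Set.range f) with hI
  have hIm : I ≤ maximalIdeal P := by
    rw [hI, Ideal.span_le]; rintro _ ⟨i, rfl⟩; exact hf i
  have hne : I ≠ ⊤ := fun h =>
    (maximalIdeal.isMaximal P).ne_top (top_le_iff.1 (h ▸ hIm))
  have : Nontrivial (P ⧸ I) := Ideal.Quotient.nontrivial_iff.2 hne
  have : IsLocalRing (P ⧸ I) := .of_surjective' (Ideal.Quotient.mk I) Ideal.Quotient.mk_surjective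
  have hlocal : IsLocalHom (Ideal.Quotient.mk I) :=
      IsLocalHom.of_surjective _ Ideal.Quotient.mk_surjective
  have hdim := ringKrullDim_le_quotient_add_card f hf
  rw [← hI] at hdim
  -- the cotangent space
  let κ := ResidueField P
  let V := CotangentSpace P
  let v : ι → V := fun i => (maximalIdeal P).toCotangent ⟨f i, hf i⟩
  have hsmul : ∀ (a : P) (x : V), (residue P a) • x = a • x := fun a x => rfl
  have hv : LinearIndependent κ v := by
    rw [Fintype.linearIndependent_iff]
    intro g hg i
    choose c hc using fun i => residue_surjective (g i)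
    have h1 : (maximalIdeal P).toCotangent (∑ i, c i • ⟨f i, hf i⟩) = 0 := by
      rw [map_sum, ← hg]
      refine Finset.sum_congr rfl fun i _ => ?_
      rw [map_smul, ← hc i, hsmul]
    rw [Ideal.toCotangent_eq_zero] at h1
    have h2 : (∑ i, c i * f i) ∈ maximalIdeal P ^ 2 := by
      convert h1 using 1
      simp
    rw [← hc i, residue_eq_zero_iff]
    exact hind c h2 i
  let W : Submodule κ V := Submodule.span κ (Set.range v)
  have hW : Module.finrank κ W = Nat.card ι := by
    rw [finrank_span_eq_card hv, Nat.card_eq_fintype_card]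
  have hVW : Module.finrank κ (V ⧸ W) + Nat.card ι = Module.finrank κ V := by
    rw [← hW]; exact Submodule.finrank_quotient_add_finrank W
  set e := Module.finrank κ (V ⧸ W) with he
  let b : Module.Basis (Fin e) κ (V ⧸ W) := Module.finBasisOfFinrankEq _ _ rfl
  have hlift : ∀ y : V ⧸ W, ∃ g : maximalIdeal P, W.mkQ ((maximalIdeal P).toCotangent g) = y := by
    intro y
    obtain ⟨y, rfl⟩ := W.mkQ_surjective y
    obtain ⟨g, rfl⟩ := (maximalIdeal P).toCotangent_surjective y
    exact ⟨g, rfl⟩
  choose g hg using fun j => hlift (b j)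
  let J : Ideal P := I ⊔ Ideal.span (Set.range fun j => (g j : P))
  have hJ : maximalIdeal P ≤ J := by
    refine Submodule.le_of_le_smul_of_le_jacobson_bot (I := maximalIdeal P)
      (IsNoetherian.noetherian _) (by rw [jacobson_eq_maximalIdeal]; exact bot_ne_top) ?_
    intro x hx
    choose c hc using fun j => residue_surjective (b.repr (W.mkQ ((maximalIdeal P).toCotangent ⟨x, hx⟩)) j)
    have h1 : W.mkQ ((maximalIdeal P).toCotangent (⟨x, hx⟩ - ∑ j, c j • g j)) = 0 := by
      rw [map_sub, map_sub, map_sum, map_sum, sub_eq_zero]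
      conv_lhs => rw [← b.sum_repr (W.mkQ ((maximalIdeal P).toCotangent ⟨x, hx⟩))]
      refine Finset.sum_congr rfl fun j _ => ?_
      rw [← hc j, map_smul, ← hg j, ← hsmul, map_smul]
    rw [Submodule.mkQ_apply, Submodule.Quotient.mk_eq_zero, Submodule.mem_span_range_iff_exists_fun] at h1
    obtain ⟨d, hd⟩ := h1
    choose d' hd' using fun i => residue_surjective (d i)
    have h2 : (maximalIdeal P).toCotangent (⟨x, hx⟩ - ∑ j, c j • g j - ∑ i, d' i • ⟨f i, hf i⟩) = 0 := by
      rw [map_sub, ← hd, map_sum, sub_eq_zero]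
      refine Finset.sum_congr rfl fun i _ => ?_
      rw [map_smul, ← hd' i, hsmul]
    rw [Ideal.toCotangent_eq_zero] at h2
    have h3 : x = (∑ i, d' i * f i + ∑ j, c j * g j) +
        ((⟨x, hx⟩ - ∑ j, c j • g j - ∑ i, d' i • ⟨f i, hf i⟩ : maximalIdeal P) : P) := by
      simp only [Submodule.coe_sub, Submodule.coe_sum, Submodule.coe_smul, smul_eq_mul]
      ring
    rw [h3]
    refine Submodule.add_mem_sup ?_ ?_
    · refine Submodule.add_mem_sup ?_ ?_
      · exact Ideal.sum_mem _ fun i _ => Ideal.mul_mem_left _ _ (Ideal.subset_span ⟨i, rfl⟩)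
      · exact Ideal.sum_mem _ fun i _ => Ideal.mul_mem_left _ _ (Ideal.subset_span ⟨i, rfl⟩)
    · rw [smul_eq_mul, ← pow_two]; exact h2
  have hmax : maximalIdeal (P ⧸ I) = Ideal.span (Set.range fun j => Ideal.Quotient.mk I (g j)) := by
    rw [← map_maximalIdeal_of_surjective _ (Ideal.Quotient.mk_surjective (I := I))]
    apply le_antisymm
    · rw [Ideal.map_le_iff_le_comap]
      refine hJ.trans ?_
      refine sup_le ?_ ?_
      · intro x hx
        rw [Ideal.mem_comap, Ideal.Quotient.eq_zero_iff_mem.2 hx]
        exact zero_mem _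
      · rw [Ideal.span_le]
        rintro _ ⟨j, rfl⟩
        exact Ideal.subset_span ⟨j, rfl⟩
    · rw [Ideal.span_le]
      rintro _ ⟨j, rfl⟩
      exact Ideal.mem_map_of_mem _ (g j).2
  have hspan : (maximalIdeal (P ⧸ I)).spanFinrank ≤ e := by
    rw [hmax]
    refine (Submodule.spanFinrank_span_le_ncard_of_finite (Set.finite_range _)).trans ?_
    rw [← Set.image_univ]
    refine (Set.ncard_image_le Set.finite_univ).trans ?_
    simp
  have hP : ((e + Nat.card ι : ℕ) : WithBot ℕ∞) = ringKrullDim P := by
    rw [hVW]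
    exact (IsRegularLocalRing.iff_finrank_cotangentSpace P).1 inferInstance
  have hle : (e : WithBot ℕ∞) ≤ ringKrullDim (P ⧸ I) := by
    rw [← hP] at hdim
    push_cast at hdim
    exact ENat.WithBot.add_le_add_natCast_right_iff.1 hdim
  have hreg : IsRegularLocalRing (P ⧸ I) :=
    IsRegularLocalRing.of_spanFinrank_maximalIdeal_le _ ((by exact_mod_cast hspan : 
      (((maximalIdeal (P ⧸ I)).spanFinrank : ℕ) : WithBot ℕ∞) ≤ (e : WithBot ℕ∞)).trans hle)
  refine ⟨hreg, ?_⟩
  rw [← hP]
  push_cast
  congr 1
  refine le_antisymm ?_ hle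
  rw [← hreg.spanFinrank_maximalIdeal]
  exact_mod_cast hspan

/-- Linear independence of the values of a derivation implies linear independence in `𝔪/𝔪²`. -/
theorem mem_maximalIdeal_of_linearIndependent_derivation {k K V : Type*} [CommRing k] [Field K]
    [IsLocalRing P] [Algebra k P] [Algebra P K] [AddCommGroup V] [Module K V] [Module P V] [Module k V]
    [IsScalarTower P K V] (hK : ∀ a ∈ maximalIdeal P, algebraMap P K a = 0)
    (D : Derivation k P V) {ι : Type*} [Finite ι] (f : ι → P) (hf : ∀ i, f i ∈ maximalIdeal P)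
    (hD : LinearIndependent K (fun i => D (f i)))
    (c : ι → P) (hc : (∑ᶠ i, c i * f i) ∈ maximalIdeal P ^ 2) (i : ι) : c i ∈ maximalIdeal P := by
  classical
  have := Fintype.ofFinite ι
  rw [finsum_eq_sum_of_fintype] at hc
  have hz : ∀ a ∈ maximalIdeal P, ∀ w : V, a • w = 0 := by
    intro a ha w
    rw [← algebraMap_smul K a w, hK a ha, zero_smul]
  have h1 : D (∑ i, c i * f i) = 0 := by
    rw [pow_two] at hc
    refine Submodule.smul_induction_on (p := fun x => D x = 0) hc ?_ ?_
    · intro a ha b hb
      rw [smul_eq_mul, D.leibniz, hz a ha, hz b hb, add_zero]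
    · intro a b ha hb
      rw [map_add, ha, hb, add_zero]
  rw [map_sum] at h1
  rw [Fintype.linearIndependent_iff] at hD
  have h2 := hD (fun i => algebraMap P K (c i)) (by
    rw [← h1]
    refine Finset.sum_congr rfl fun i _ => ?_
    rw [D.leibniz, hz _ (hf i), add_zero, algebraMap_smul]) i
  by_contra hu
  have hu' : IsUnit (c i) := by simpa using hu
  have := hu'.map (algebraMap P K)
  rw [h2] at this
  exact not_isUnit_zero this

end Groth.Agent.CalgB.RegQuot
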