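import Groth.Agent.CalgB.CohenSq2
import Groth.Agent.CalgB.RegQuot
import Groth.Agent.CalgB.RegPar
import Groth.Agent.Ega41.DimFlat
import Mathlib.RingTheory.LocalRing.ResidueField.Fiber

/-!
# Flat lifts of regular algebras over the residue field (Stacks 07NR)

`A` complete Noetherian local with residue field `k`, `B` a complete Noetherian local `k`-algebra which is
a regular local ring. Then there is a complete Noetherian local ring `C`, local and flat over `A`,
with a surjection `C → B` of `A`-algebras whose kernel is `m_A C`.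
-/

set_option autoImplicit false

open IsLocalRing TensorProduct

namespace Groth.Agent.CalgB.FlatLift

universe u

/-- Quotient of a regular local ring by part of a regular system of parameters. -/
theorem isRegularLocalRing_quotient {S : Type u} [CommRing S] [IsRegularLocalRing S]
    {ι κ : Type*} [Finite ι] [Finite κ]
    (hd : ringKrullDim S = ((Nat.card ι + Nat.card κ : ℕ) : WithBot ℕ∞)) (t : ι → S) (y : κ → S)
    (h : Ideal.span (Set.range t) ⊔ Ideal.span (Set.range y) = maximalIdeal S) :
    IsRegularLocalRing (S ⧸ Ideal.span (Set.range t)) ∧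
      ringKrullDim (S ⧸ Ideal.span (Set.range t)) = (Nat.card κ : ℕ) := by
  set I := Ideal.span (Set.range t) with hI
  have hIm : I ≤ maximalIdeal S := by rw [← h]; exact le_sup_left
  have hne : I ≠ ⊤ := fun h =>
    (maximalIdeal.isMaximal S).ne_top (top_le_iff.1 (h ▸ hIm))
  have hloc : IsLocalRing (S ⧸ I) := Groth.Agent.CalgA.RegBasic.isLocalRing_quotient _ hne
  have hdim := Groth.Agent.CalgB.RegQuot.ringKrullDim_le_quotient_add_card t
    (fun i => hIm (Ideal.subset_span ⟨i, rfl⟩))
  rw [← hI, hd] at hdim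
  have hspan : maximalIdeal (S ⧸ I) = Ideal.span (Set.range fun i => Ideal.Quotient.mk I (y i)) := by
    rw [← Groth.Agent.CalgA.RegBasic.map_maximalIdeal_quotient, ← h, Ideal.map_sup,
      Ideal.map_quotient_self, bot_sup_eq, Ideal.map_span, ← Set.range_comp]
    rfl
  have hle : (maximalIdeal (S ⧸ I)).spanFinrank ≤ Nat.card κ := by
    rw [hspan]
    refine (Submodule.spanFinrank_span_le_ncard_of_finite (Set.finite_range _)).trans ?_
    rw [← Set.image_univ, ← Set.ncard_univ]
    exact Set.ncard_image_le Set.finite_univ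
  have hge : (Nat.card κ : WithBot ℕ∞) ≤ ringKrullDim (S ⧸ I) := by
    obtain ⟨e, he⟩ := Groth.Agent.CalgA.RegBasic.ringKrullDim_eq_natCast (S ⧸ I)
    rw [he] at hdim ⊢
    have h5 : Nat.card ι + Nat.card κ ≤ e + Nat.card ι := by exact_mod_cast hdim
    have h6 : Nat.card κ ≤ e := by omega
    exact_mod_cast h6
  have hreg2 : IsRegularLocalRing (S ⧸ I) := by
    apply IsRegularLocalRing.of_spanFinrank_maximalIdeal_le
    refine le_trans ?_ hge
    exact_mod_cast hle
  refine ⟨hreg2, le_antisymm ?_ hge⟩
  rw [← IsRegularLocalRing.spanFinrank_maximalIdeal]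
  exact_mod_cast hle

/-- A quotient of a complete Noetherian local ring is complete. -/
theorem isAdicComplete_of_surjective {S C : Type u} [CommRing S] [CommRing C] [IsLocalRing S]
    [IsLocalRing C] [IsNoetherianRing S] [IsAdicComplete (maximalIdeal S) S] (f : S →+* C)
    (hf : Function.Surjective f) : IsAdicComplete (maximalIdeal C) C := by
  let _ : Algebra S C := f.toAlgebra
  have hs0 : Function.Surjective (Algebra.linearMap S C) := hf
  have : Module.Finite S C := Module.Finite.of_surjective (Algebra.linearMap S C) hs0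
  have h1 : IsAdicComplete (maximalIdeal S) C := by
    rw [← AdicCompletion.of_bijective_iff]
    constructor
    · exact AdicCompletion.of_injective_iff.mpr inferInstance
    · have hs : Function.Surjective (AdicCompletion.map (maximalIdeal S)
          (Algebra.linearMap S C)) :=
        AdicCompletion.map_surjective _ hs0
      intro y
      obtain ⟨x, rfl⟩ := hs y
      obtain ⟨z, rfl⟩ := (AdicCompletion.of_bijective (maximalIdeal S) S).2 x
      refine ⟨Algebra.linearMap S C z, ?_⟩
      rw [AdicCompletion.map_of]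
  have h2 : (maximalIdeal S).map (algebraMap S C) = maximalIdeal C :=
    IsLocalRing.map_maximalIdeal_of_surjective _ hf
  rw [← h2, IsAdicComplete.map_algebraMap_iff]
  exact h1

theorem glue_aux {R A S B C : Type u} [CommRing R] [CommRing A] [CommRing S] [CommRing B] [CommRing C]
    [IsLocalRing R] [IsLocalRing A] [IsLocalRing S] [Nontrivial B] [IsNoetherianRing S]
    [IsAdicComplete (maximalIdeal S) S] [Algebra R A] [Algebra R S] [Algebra A B] [Algebra A C]
    [IsLocalHom (algebraMap R S)]
    (hρ : Function.Surjective (algebraMap R A)) (f : S →+* C) (hf : Function.Surjective f)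
    (hfA : ∀ r, f (algebraMap R S r) = algebraMap A C (algebraMap R A r)) (π : C →ₐ[A] B)
    (hπ : Function.Surjective π)
    (hker : ∀ z, π (f z) = 0 → z ∈ (maximalIdeal R).map (algebraMap R S))
    (hAB : (maximalIdeal A).map (algebraMap A B) = ⊥) :
    ∃ (_ : IsLocalRing C), IsNoetherianRing C ∧ IsAdicComplete (maximalIdeal C) C ∧
      IsLocalHom (algebraMap A C) ∧ Function.Surjective π ∧
      RingHom.ker π = (maximalIdeal A).map (algebraMap A C) := by
  have hCnt : Nontrivial C := π.toRingHom.domain_nontrivial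
  have hCloc : IsLocalRing C := IsLocalRing.of_surjective' f hf
  have hCn : IsNoetherianRing C := isNoetherianRing_of_surjective _ _ f hf
  have hCc : IsAdicComplete (maximalIdeal C) C := isAdicComplete_of_surjective f hf
  have hfm : (maximalIdeal S).map f = maximalIdeal C :=
    IsLocalRing.map_maximalIdeal_of_surjective _ hf
  have hρm : (maximalIdeal R).map (algebraMap R A) = maximalIdeal A :=
    IsLocalRing.map_maximalIdeal_of_surjective _ hρ
  have hmapC : ((maximalIdeal R).map (algebraMap R S)).map f =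
      (maximalIdeal A).map (algebraMap A C) := by
    rw [← hρm, Ideal.map_map, Ideal.map_map]
    congr 1
    ext r
    exact hfA r
  have hlocC : IsLocalHom (algebraMap A C) := by
    refine ((IsLocalRing.local_hom_TFAE (algebraMap A C)).out 0 2).2 ?_
    rw [← hmapC, ← hfm]
    exact Ideal.map_mono (IsLocalRing.map_maximalIdeal_le _)
  refine ⟨hCloc, hCn, hCc, hlocC, hπ, ?_⟩
  apply le_antisymm
  · intro z hz
    obtain ⟨w, rfl⟩ := hf z
    have h1 : π (f w) = 0 := hz
    rw [← hmapC]
    exact Ideal.mem_map_of_mem _ (hker _ h1)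
  · rw [Ideal.map_le_iff_le_comap]
    intro a ha
    have h1 : algebraMap A B a ∈ (maximalIdeal A).map (algebraMap A B) :=
      Ideal.mem_map_of_mem _ ha
    rw [hAB, Ideal.mem_bot] at h1
    change π (algebraMap A C a) = 0
    rw [AlgHom.commutes, h1]

theorem glue {R A S B : Type u} [CommRing R] [CommRing A] [CommRing S] [CommRing B]
    [IsLocalRing R] [IsLocalRing A] [IsLocalRing S] [Nontrivial B] [IsNoetherianRing S]
    [IsAdicComplete (maximalIdeal S) S] [Algebra R A] [Algebra R S] [Algebra R B] [Algebra A B]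
    [IsScalarTower R A B] [IsLocalHom (algebraMap R S)] [Module.Flat R S]
    (hρ : Function.Surjective (algebraMap R A)) (σ : S →ₐ[R] B)
    (hσ : Function.Surjective σ)
    (hker : ∀ z, σ z = 0 → z ∈ (maximalIdeal R).map (algebraMap R S))
    (hAB : (maximalIdeal A).map (algebraMap A B) = ⊥) :
    ∃ (C : Type u) (_ : CommRing C) (_ : IsLocalRing C) (_ : Algebra A C) (π : C →ₐ[A] B),
      IsNoetherianRing C ∧ IsAdicComplete (maximalIdeal C) C ∧ IsLocalHom (algebraMap A C) ∧
      Module.Flat A C ∧ Function.Surjective π ∧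
      RingHom.ker π = (maximalIdeal A).map (algebraMap A C) := by
  let f : S →ₐ[R] (A ⊗[R] S) := Algebra.TensorProduct.includeRight
  have hf : Function.Surjective f := Algebra.TensorProduct.includeRight_surjective S hρ
  let π : (A ⊗[R] S) →ₐ[A] B :=
    Algebra.TensorProduct.lift (Algebra.ofId A B) σ (fun _ _ => Commute.all _ _)
  have hπf : ∀ z, π (f z) = σ z := by
    intro z
    change Algebra.ofId A B 1 * σ z = σ z
    rw [map_one, one_mul]
  obtain ⟨h1, h2, h3, h4, h5, h6⟩ := glue_aux (C := A ⊗[R] S) hρ (f : S →+* A ⊗[R] S) hf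
    (fun r => by
      change f (algebraMap R S r) = _
      rw [AlgHom.commutes, IsScalarTower.algebraMap_apply R A (A ⊗[R] S)]) π
    (fun b => by
      obtain ⟨z, rfl⟩ := hσ b
      exact ⟨f z, hπf z⟩)
    (fun z hz => hker z (by rw [← hπf]; exact hz)) hAB
  have hfl : Module.Flat A (A ⊗[R] S) := inferInstance
  exact ⟨A ⊗[R] S, inferInstance, h1, inferInstance, π, h2, h3, h4, hfl, h5, h6⟩

/-- Stacks 07NR, flat part: `A` complete Noetherian local, `A → B` a map to a complete Noetherian local
ring killing `m_A` with `B` regular. Then there is a complete Noetherian local ring `C`, local and flat over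
`A`, with a surjection `C → B` of `A`-algebras with kernel `m_A C`. -/
theorem exists_flat_lift {A B : Type u} [CommRing A] [CommRing B]
    [IsLocalRing A] [IsNoetherianRing A] [IsRegularLocalRing B]
    [IsAdicComplete (maximalIdeal A) A] [IsAdicComplete (maximalIdeal B) B]
    [Algebra A B] (hAB : (maximalIdeal A).map (algebraMap A B) = ⊥) :
    ∃ (C : Type u) (_ : CommRing C) (_ : IsLocalRing C) (_ : Algebra A C) (π : C →ₐ[A] B),
      IsNoetherianRing C ∧ IsAdicComplete (maximalIdeal C) C ∧ IsLocalHom (algebraMap A C) ∧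
      Module.Flat A C ∧ Function.Surjective π ∧
      RingHom.ker π = (maximalIdeal A).map (algebraMap A C) := by
  have hlAB : IsLocalHom (algebraMap A B) :=
    ((IsLocalRing.local_hom_TFAE (algebraMap A B)).out 0 2).2 (by rw [hAB]; exact bot_le)
  obtain ⟨Λ, Λ', _, _, _, _, n, m, ρ, σ, τ, -, hΛc, hΛc', hρ, hσ, hcomm, hτloc, hτflat, hFreg, hFdim⟩ :=
    Groth.Agent.CalgB.CohenSq2.exists_square (A := A) (B := B)
  let R := MvPowerSeries (Fin n) Λ
  let S := MvPowerSeries (Fin (n + m)) Λ'
  change R →+* A at ρ
  change S →+* B at σ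
  change R →+* S at τ
  have hR : IsRegularLocalRing R := Groth.Agent.Ega4A.PowReg.isRegularLocalRing_mvPowerSeries Λ n
  have hS : IsRegularLocalRing S := Groth.Agent.Ega4A.PowReg.isRegularLocalRing_mvPowerSeries Λ' (n + m)
  have hSc : IsAdicComplete (maximalIdeal S) S := Groth.Agent.CalgB.PowSer.isAdicComplete_mvPowerSeries _
  let _ : Algebra R S := τ.toAlgebra
  have hτ : ∀ r, algebraMap R S r = τ r := fun _ => rfl
  have hSflat : Module.Flat R S := hτflat
  have hlocRS : IsLocalHom (algebraMap R S) := hτloc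
  set mRS : Ideal S := (maximalIdeal R).map (algebraMap R S) with hmRS
  have hFreg' : IsRegularLocalRing (S ⧸ mRS) := hFreg
  have hFdim' : ringKrullDim (S ⧸ mRS) = m := hFdim
  have hmRS_le : mRS ≤ maximalIdeal S := IsLocalRing.map_maximalIdeal_le _
  have hρm : (maximalIdeal R).map ρ = maximalIdeal A :=
    IsLocalRing.map_maximalIdeal_of_surjective _ hρ
  have hσm : ∀ x ∈ mRS, σ x = 0 := by
    have : mRS ≤ RingHom.ker σ := by
      rw [hmRS, Ideal.map_le_iff_le_comap]
      intro r hr
      have h1 : σ (τ r) = algebraMap A B (ρ r) := DFunLike.congr_fun hcomm r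
      have h2 : algebraMap A B (ρ r) ∈ (maximalIdeal A).map (algebraMap A B) :=
        Ideal.mem_map_of_mem _ (hρm ▸ Ideal.mem_map_of_mem ρ hr)
      rw [hAB, Ideal.mem_bot] at h2
      change σ (τ r) = 0
      rw [h1, h2]
    exact fun x hx => this hx
  let σb : S ⧸ mRS →+* B := Ideal.Quotient.lift mRS σ hσm
  have hσb : Function.Surjective σb := Ideal.Quotient.lift_surjective_of_surjective _ _ hσ
  have hσb_mk : ∀ x, σb (Ideal.Quotient.mk mRS x) = σ x := fun x => Ideal.Quotient.lift_mk _ _ _
  have hreg1 : IsRegularLocalRing ((S ⧸ mRS) ⧸ RingHom.ker σb) :=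
    IsRegularLocalRing.of_ringEquiv (RingHom.quotientKerEquivOfSurjective hσb).symm
  obtain ⟨xb, c, hc, hxb, hker⟩ :=
    Groth.Agent.CalgA.RegBasic.exists_generators_of_quotient m hFdim' (RingHom.ker σb)
  choose x hx using fun i => Ideal.Quotient.mk_surjective (I := mRS) (xb i)
  -- the elements
  let t : Fin c → S := fun i => x (Fin.castLE hc i)
  let y : Fin (m - c) → S := fun i => x ⟨c + i, by omega⟩
  have hxty : Set.range x = Set.range t ∪ Set.range y := by
    apply Set.Subset.antisymm
    · rintro _ ⟨i, rfl⟩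
      by_cases hi : (i : ℕ) < c
      · exact Or.inl ⟨⟨i, hi⟩, rfl⟩
      · refine Or.inr ⟨⟨i - c, by omega⟩, ?_⟩
        change x _ = x _
        congr 1
        ext
        simp only
        omega
    · rintro _ (⟨i, rfl⟩ | ⟨i, rfl⟩)
      · exact ⟨_, rfl⟩
      · exact ⟨_, rfl⟩
  have hmS : mRS ⊔ Ideal.span (Set.range x) = maximalIdeal S := by
    apply le_antisymm
    · refine sup_le hmRS_le ?_
      rw [Ideal.span_le]
      rintro _ ⟨i, rfl⟩
      have h1 : xb i ∈ maximalIdeal (S ⧸ mRS) := by
        rw [← hxb]; exact Ideal.subset_span ⟨i, rfl⟩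
      have h2 : (maximalIdeal (S ⧸ mRS)).comap (Ideal.Quotient.mk mRS) = maximalIdeal S :=
        IsLocalRing.eq_maximalIdeal (Ideal.comap_isMaximal_of_surjective _ Ideal.Quotient.mk_surjective)
      rw [SetLike.mem_coe, ← h2, Ideal.mem_comap, hx]
      exact h1
    · intro s hs
      have h1 : Ideal.Quotient.mk mRS s ∈ maximalIdeal (S ⧸ mRS) := by
        rw [← IsLocalRing.map_maximalIdeal_of_surjective (Ideal.Quotient.mk mRS)
          Ideal.Quotient.mk_surjective]
        exact Ideal.mem_map_of_mem _ hs
      have h2 : maximalIdeal (S ⧸ mRS) = (Ideal.span (Set.range x)).map (Ideal.Quotient.mk mRS) := by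
        rw [Ideal.map_span, ← Set.range_comp, ← hxb]
        congr 2
        ext i
        exact (hx i).symm
      rw [h2] at h1
      have h3 : s ∈ ((Ideal.span (Set.range x)).map (Ideal.Quotient.mk mRS)).comap
          (Ideal.Quotient.mk mRS) := h1
      rw [Ideal.comap_map_of_surjective' _ Ideal.Quotient.mk_surjective, Ideal.mk_ker] at h3
      rw [sup_comm]
      exact h3
  obtain ⟨d, hd⟩ := Groth.Agent.CalgA.RegBasic.ringKrullDim_eq_natCast R
  obtain ⟨rs, hlen, hrs⟩ := Groth.Agent.CalgB.RegPar.exists_list R hd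
  have hSdim : ringKrullDim S = ((c + (d + (m - c)) : ℕ) : WithBot ℕ∞) := by
    have h1 := Groth.Agent.Ega41.DimFlat.ringKrullDim_eq_add_of_flat (A := R) (B := S)
    rw [hd] at h1
    rw [h1]
    have h2 : c + (d + (m - c)) = d + m := by omega
    rw [h2, Nat.cast_add]
    congr 1
  have hrange : Ideal.span (Set.range fun i : Fin d => algebraMap R S (rs.get (i.cast hlen.symm))) =
      mRS := by
    rw [hmRS, ← hrs, Ideal.ofList, Ideal.map_span]
    congr 1
    ext z
    constructor
    · rintro ⟨i, rfl⟩
      exact ⟨_, List.get_mem _ _, rfl⟩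
    · rintro ⟨w, hw, rfl⟩
      obtain ⟨i, rfl⟩ := List.get_of_mem hw
      exact ⟨i.cast hlen, rfl⟩
  have hS' := isRegularLocalRing_quotient (ι := Fin c) (κ := Fin d ⊕ Fin (m - c)) (by
      rw [hSdim]; simp) t (Sum.elim (fun i => algebraMap R S (rs.get (i.cast hlen.symm))) y) (by
      rw [Set.Sum.elim_range, Ideal.span_union, hrange, ← hmS, hxty, Ideal.span_union,
        ← sup_assoc, ← sup_assoc, sup_comm mRS])
  let S' := S ⧸ Ideal.span (Set.range t)
  have hS'reg : IsRegularLocalRing S' := hS'.1
  have hS'dim : ringKrullDim S' = ((d + (m - c) : ℕ) : WithBot ℕ∞) := by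
    have h := hS'.2
    simp only [Nat.card_eq_fintype_card, Fintype.card_sum, Fintype.card_fin] at h
    exact h
  have hmap' : (maximalIdeal R).map (algebraMap R S') = mRS.map (Ideal.Quotient.mk _) := by
    rw [hmRS, Ideal.map_map]
    rfl
  have hmS' : (maximalIdeal R).map (algebraMap R S') ⊔
      Ideal.span (Set.range fun i => Ideal.Quotient.mk (Ideal.span (Set.range t)) (y i)) =
        maximalIdeal S' := by
    rw [hmap', ← Groth.Agent.CalgA.RegBasic.map_maximalIdeal_quotient, ← hmS, hxty,
      Ideal.span_union, Ideal.map_sup, Ideal.map_sup, Ideal.map_quotient_self, bot_sup_eq,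
      Ideal.map_span _ (Set.range y), ← Set.range_comp]
    rfl
  have hlocRS' : IsLocalHom (algebraMap R S') := by
    refine ((IsLocalRing.local_hom_TFAE (algebraMap R S')).out 0 2).2 ?_
    rw [← hmS']
    exact le_sup_left
  have hflat : Module.Flat R S' :=
    (Groth.Agent.CalgB.RegPar.flat_and_regular_fibre (R := R) (S := S') (m - c) _ hmS'
      (by rw [hS'dim, hd]; push_cast; rfl)).1
  -- the map `S' → B`
  have htσ : ∀ z ∈ Ideal.span (Set.range t), σ z = 0 := by
    have : Ideal.span (Set.range t) ≤ RingHom.ker σ := by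
      rw [Ideal.span_le]
      rintro _ ⟨i, rfl⟩
      have h1 : xb (Fin.castLE hc i) ∈ RingHom.ker σb := by
        rw [hker]; exact Ideal.subset_span ⟨i, rfl⟩
      rw [← hx, RingHom.mem_ker, hσb_mk] at h1
      exact h1
    exact fun z hz => this hz
  let _ : Algebra R A := ρ.toAlgebra
  let _ : Algebra R B := ((algebraMap A B).comp ρ).toAlgebra
  have htower : IsScalarTower R A B := IsScalarTower.of_algebraMap_eq fun _ => rfl
  let σ' : S' →ₐ[R] B :=
    { Ideal.Quotient.lift (Ideal.span (Set.range t)) σ htσ with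
      commutes' := fun r => DFunLike.congr_fun hcomm r }
  have hσ'mk : ∀ z, σ' (Ideal.Quotient.mk _ z) = σ z := fun _ => rfl
  have hσ' : Function.Surjective σ' := by
    intro b
    obtain ⟨s, rfl⟩ := hσ b
    exact ⟨Ideal.Quotient.mk _ s, rfl⟩
  have hkerσ' : ∀ z, σ' z = 0 → z ∈ (maximalIdeal R).map (algebraMap R S') := by
    intro z hz
    obtain ⟨s, rfl⟩ := Ideal.Quotient.mk_surjective z
    rw [hσ'mk] at hz
    have h1 : Ideal.Quotient.mk mRS s ∈ RingHom.ker σb := by
      rw [RingHom.mem_ker, hσb_mk, hz]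
    have h2 : RingHom.ker σb = (Ideal.span (Set.range t)).map (Ideal.Quotient.mk mRS) := by
      rw [hker, Ideal.map_span, ← Set.range_comp]
      congr 2
      ext i
      exact (hx _).symm
    rw [h2] at h1
    have h3 : s ∈ ((Ideal.span (Set.range t)).map (Ideal.Quotient.mk mRS)).comap
        (Ideal.Quotient.mk mRS) := h1
    rw [Ideal.comap_map_of_surjective' _ Ideal.Quotient.mk_surjective, Ideal.mk_ker] at h3
    rw [hmap']
    have h4 : Ideal.Quotient.mk (Ideal.span (Set.range t)) s ∈
        (Ideal.span (Set.range t) ⊔ mRS).map (Ideal.Quotient.mk (Ideal.span (Set.range t))) :=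
      Ideal.mem_map_of_mem _ h3
    rw [Ideal.map_sup, Ideal.map_quotient_self, bot_sup_eq] at h4
    exact h4
  have hS'c : IsAdicComplete (maximalIdeal S') S' :=
    isAdicComplete_of_surjective (Ideal.Quotient.mk (Ideal.span (Set.range t)))
      Ideal.Quotient.mk_surjective
  exact glue hρ σ' hσ' hkerσ' hAB

end Groth.Agent.CalgB.FlatLift
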