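import Groth.Agent.CalgB.FlatLift
import Groth.Agent.CalgB.AdicFSExt
import Groth.Agent.CalgB.AdicRegField

/-!
# Adically formally smooth lifts (Stacks 07NR)
-/

set_option autoImplicit false

open IsLocalRing TensorProduct

namespace Groth.Agent.CalgB.FlatLiftFS

universe u v w

open Groth.Agent.CalgB.AdicFSExt in
/-- Transport of adic formal smoothness along an isomorphism of the target and a surjection of
base rings. -/
theorem adicFS_transport {R : Type v} {R' : Type w} {S S' : Type u} [CommRing R] [CommRing R']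
    [CommRing S] [CommRing S'] [Algebra R S] [Algebra R' S'] {n : Ideal S} {n' : Ideal S'}
    (h : AdicFS R S n) (φ : R →+* R') (hφ : Function.Surjective φ) (e : S ≃+* S')
    (he : ∀ r, e (algebraMap R S r) = algebraMap R' S' (φ r)) (hn : n.map (e : S →+* S') ≤ n') :
    AdicFS R' S' n' := by
  intro D _ _ J hJ ψ ⟨k, hk⟩
  let _ : Algebra R D := Algebra.compHom D φ
  have hD : ∀ r, algebraMap R D r = algebraMap R' D (φ r) := fun _ => rfl
  let ψ₀ : S →ₐ[R] D ⧸ J :=
    { (ψ : S' →+* D ⧸ J).comp (e : S →+* S') with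
      commutes' := fun r => by
        change ψ (e (algebraMap R S r)) = Ideal.Quotient.mk J (algebraMap R D r)
        rw [he, AlgHom.commutes, hD]
        rfl }
  obtain ⟨χ, hχ⟩ := h D J hJ ψ₀ ⟨k, fun x hx => by
    refine hk _ (Ideal.pow_right_mono hn k ?_)
    rw [← Ideal.map_pow]
    exact Ideal.mem_map_of_mem (e : S →+* S') hx⟩
  refine ⟨{ (χ : S →+* D).comp (e.symm : S' →+* S) with
      commutes' := fun r' => ?_ }, ?_⟩
  · obtain ⟨r, rfl⟩ := hφ r'
    change χ (e.symm (algebraMap R' S' (φ r))) = _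
    rw [← he, RingEquiv.symm_apply_apply, AlgHom.commutes, hD]
  · ext s
    change Ideal.Quotient.mk J (χ (e.symm s)) = ψ s
    have h1 : Ideal.Quotient.mk J (χ (e.symm s)) = ψ₀ (e.symm s) := DFunLike.congr_fun hχ _
    rw [h1]
    change ψ (e (e.symm s)) = ψ s
    rw [RingEquiv.apply_symm_apply]

/-- Stacks 07NR. `A` complete Noetherian local, `k = A/m_A` (surjection `A → k` with kernel `m_A`), `B` complete
Noetherian local `k`-algebra, adically formally smooth over `k`. -/
theorem exists_lift {A B : Type u} [CommRing A] [IsLocalRing A]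
    [IsNoetherianRing A] [IsAdicComplete (maximalIdeal A) A] [CommRing B] [IsLocalRing B]
    [IsNoetherianRing B] [IsAdicComplete (maximalIdeal B) B]
    {k : Type u} [Field k] [Algebra A k] (hk : Function.Surjective (algebraMap A k))
    [Algebra k B] [Algebra A B] [IsScalarTower A k B]
    (hB : CAlgX.IsAdicFormallySmooth k B (maximalIdeal B)) :
    ∃ (C : Type u) (_ : CommRing C) (_ : IsLocalRing C) (_ : Algebra A C) (π : C →ₐ[A] B),
      IsNoetherianRing C ∧ IsAdicComplete (maximalIdeal C) C ∧ IsLocalHom (algebraMap A C) ∧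
      Module.Flat A C ∧ CAlgX.IsAdicFormallySmooth A C (maximalIdeal C) ∧ Function.Surjective π ∧
      RingHom.ker π = (maximalIdeal A).map (algebraMap A C) := by
  have hreg : IsRegularLocalRing B :=
    Groth.Agent.CalgB.AdicRegField.isRegularLocalRing_of_isAdicFormallySmooth hB
  have hkm : RingHom.ker (algebraMap A k) = maximalIdeal A :=
    IsLocalRing.eq_maximalIdeal (RingHom.ker_isMaximal_of_surjective _ hk)
  have hAB : (maximalIdeal A).map (algebraMap A B) = ⊥ := by
    rw [eq_bot_iff, Ideal.map_le_iff_le_comap]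
    intro a ha
    rw [← hkm, RingHom.mem_ker] at ha
    change algebraMap A B a ∈ (⊥ : Ideal B)
    rw [IsScalarTower.algebraMap_apply A k B, ha, map_zero]
    exact zero_mem _
  obtain ⟨C, _, _, _, π, hCn, hCc, hloc, hflat, hπ, hker⟩ :=
    Groth.Agent.CalgB.FlatLift.exists_flat_lift (A := A) (B := B) hAB
  refine ⟨C, _, inferInstance, _, π, hCn, hCc, hloc, hflat, ?_, hπ, hker⟩
  have hle : (maximalIdeal A).map (algebraMap A C) ≤ maximalIdeal C :=
    IsLocalRing.map_maximalIdeal_le _
  refine Groth.Agent.CalgB.AdicFSExt.adicFS_of_flat_of_quotient (maximalIdeal A) (maximalIdeal C) hle ?_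
  -- the base
  let φ : k →+* A ⧸ maximalIdeal A :=
    ((Ideal.quotEquivOfEq hkm).toRingHom.comp
      (RingHom.quotientKerEquivOfSurjective hk).symm.toRingHom)
  have hφ' : ∀ a, φ (algebraMap A k a) = Ideal.Quotient.mk _ a := by
    intro a
    change Ideal.quotEquivOfEq hkm ((RingHom.quotientKerEquivOfSurjective hk).symm
      (algebraMap A k a)) = _
    have h1 : (RingHom.quotientKerEquivOfSurjective hk).symm (algebraMap A k a) =
        Ideal.Quotient.mk _ a := by
      rw [RingEquiv.symm_apply_eq]
      rfl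
    rw [h1]
    rfl
  have hφ : Function.Surjective φ := by
    intro x
    obtain ⟨a, rfl⟩ := Ideal.Quotient.mk_surjective x
    exact ⟨algebraMap A k a, hφ' a⟩
  let e : B ≃+* C ⧸ (maximalIdeal A).map (algebraMap A C) :=
    ((RingHom.quotientKerEquivOfSurjective (f := (π : C →+* B)) hπ).symm).trans
      (Ideal.quotEquivOfEq hker)
  have he : ∀ c, e (π c) = Ideal.Quotient.mk _ c := by
    intro c
    change Ideal.quotEquivOfEq hker ((RingHom.quotientKerEquivOfSurjective
      (f := (π : C →+* B)) hπ).symm (π c)) = _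
    have h1 : (RingHom.quotientKerEquivOfSurjective (f := (π : C →+* B)) hπ).symm (π c) =
        Ideal.Quotient.mk _ c := by
      rw [RingEquiv.symm_apply_eq]
      rfl
    rw [h1]
    rfl
  refine adicFS_transport (n := maximalIdeal B) hB φ hφ e ?_ ?_
  · intro r
    obtain ⟨a, rfl⟩ := hk r
    rw [← IsScalarTower.algebraMap_apply, hφ', ← π.commutes, he]
    rfl
  · rw [Ideal.map_le_iff_le_comap]
    intro b hb
    obtain ⟨c, rfl⟩ := hπ b
    have hc : c ∈ maximalIdeal C := by
      by_contra hcon
      have h2 : IsUnit c := by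
        rw [mem_maximalIdeal, mem_nonunits_iff, not_not] at hcon
        exact hcon
      have h3 : IsUnit (π c) := h2.map π
      rw [mem_maximalIdeal, mem_nonunits_iff] at hb
      exact hb h3
    rw [Ideal.mem_comap]
    have h4 : (e : B →+* C ⧸ (maximalIdeal A).map (algebraMap A C)) (π c) =
        Ideal.Quotient.mk _ c := he c
    rw [h4]
    exact Ideal.mem_map_of_mem _ hc

/-- The closed fibre as a tensor product. -/
theorem exists_fiber_equiv {A B C k : Type*} [CommRing A] [CommRing B] [CommRing C] [CommRing k]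
    [Algebra A k] (hk : Function.Surjective (algebraMap A k)) [Algebra k B] [Algebra A B]
    [IsScalarTower A k B] [Algebra A C] (I : Ideal A) (hI : I ≤ RingHom.ker (algebraMap A k))
    (π : C →ₐ[A] B) (hπ : Function.Surjective π)
    (hker : RingHom.ker π ≤ I.map (algebraMap A C)) :
    Nonempty (k ⊗[A] C ≃ₐ[k] B) := by
  let F : k ⊗[A] C →ₐ[k] B :=
    Algebra.TensorProduct.lift (Algebra.ofId k B) π (fun _ _ => Commute.all _ _)
  have hF : ∀ c : C, F (1 ⊗ₜ c) = π c := by
    intro c
    change Algebra.ofId k B 1 * π c = π c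
    rw [map_one, one_mul]
  refine ⟨AlgEquiv.ofBijective F ⟨?_, ?_⟩⟩
  · rw [injective_iff_map_eq_zero]
    intro z hz
    obtain ⟨c, rfl⟩ := Algebra.TensorProduct.includeRight_surjective C hk z
    change F (1 ⊗ₜ c) = 0 at hz
    rw [hF] at hz
    have h1 : c ∈ I.map (algebraMap A C) := hker hz
    have h2 : I.map (algebraMap A C) ≤
        RingHom.ker (Algebra.TensorProduct.includeRight : C →ₐ[A] k ⊗[A] C) := by
      rw [Ideal.map_le_iff_le_comap]
      intro a ha
      have h3 : algebraMap A k a = 0 := hI ha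
      change (Algebra.TensorProduct.includeRight : C →ₐ[A] k ⊗[A] C) (algebraMap A C a) = 0
      rw [AlgHom.commutes, IsScalarTower.algebraMap_apply A k (k ⊗[A] C), h3, map_zero]
    exact h2 h1
  · intro b
    obtain ⟨c, rfl⟩ := hπ b
    exact ⟨1 ⊗ₜ c, hF c⟩

end Groth.Agent.CalgB.FlatLiftFS
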