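import Groth.Agent.CalgB.MatModel
import Groth.Agent.CalgB.EssFP
import Groth.Prelude.Def_CAlgX
import Mathlib.RingTheory.Ideal.Quotient.Operations

/-!
# Syzygies of finitely presented modules flat over the base

`exists_finset_syz`: if the module presented by a matrix over `R[x]` is flat over `R` at a prime `q` of `R[x]`, its
module of relations is finitely generated at `q`.
`fg_ker`: for a local ring `S` essentially of finite presentation over `R` and a linear map `Φ : S^m → S^r` with
`R`-flat cokernel, the kernel of `Φ` is finitely generated.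
-/

set_option autoImplicit false
universe u

open TensorProduct Function

namespace Groth.Agent.CalgB.FlatSyz

open Groth.Agent.Flat2E.QFlat Groth.Agent.Flat2E.PolyModel Groth.Agent.Flat2E.FlatApprox
open Groth.Agent.CalgB.LocalCritFP

section Matrix

variable {A R : Type u} [CommRing A] [CommRing R] [Algebra A R] [IsNoetherianRing A]
  {σ ι κ : Type*} [Finite σ] [Fintype ι] [Finite κ] (v : ι → κ → MvPolynomial σ A)
  (q : Ideal (MvPolynomial σ R)) [q.IsPrime]

theorem exists_finset_syz (hflat : Module.Flat R (LocalizedModule q.primeCompl (Mod (vmap R v)))) :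
    ∃ Z : Finset (ι → MvPolynomial σ R), (∀ z ∈ Z, phi (vmap R v) z = 0) ∧
      ∀ z, phi (vmap R v) z = 0 → ∃ s ∉ q, s • z ∈ Submodule.span (MvPolynomial σ R) (Z : Set (ι → MvPolynomial σ R)) := by
  classical
  obtain ⟨R₁, hfg, hR₁⟩ := exists_fg_subalgebra_flat_of_flat v q hflat
  have hN : IsNoetherianRing R₁ := Flat2E.FlatApprox.isNoetherianRing_of_fg hfg
  let v₁ := vmap R₁ v
  have hv : vmap R v₁ = vmap R v := vmap_vmap v
  have h1 := Groth.Agent.Flat2E.FlatCrit.qflat_of_flat_bot (cq q R₁).primeCompl (Mod v₁)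
    (LocalizedModule.mkLinearMap (cq q R₁).primeCompl (Mod v₁)) hR₁ ⊥
  obtain ⟨Z₁, hZ₁⟩ := (IsNoetherian.noetherian (LinearMap.ker (phi v₁)) :
    (LinearMap.ker (phi v₁)).FG)
  refine ⟨Z₁.image (ext σ R₁ R ι), ?_, ?_⟩
  · intro z hz
    obtain ⟨z₁, hz₁, rfl⟩ := Finset.mem_image.1 hz
    have h2 : z₁ ∈ LinearMap.ker (phi v₁) := by rw [← hZ₁]; exact Submodule.subset_span hz₁
    rw [← hv, phi_ext, LinearMap.mem_ker.1 h2, map_zero]
  · intro z hz
    obtain ⟨t, ht, htz⟩ := exists_act_mem (A := R₁) (C := R) (⊥ : Ideal R₁) (⊥ : Ideal R)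
      (fun r hr => by rw [(Submodule.mem_bot R₁).1 hr, map_zero]; exact zero_mem _)
      (cq q R₁).primeCompl (isBaseChange_ext (σ := σ) (A := R₁) (C := R) (ι := ι))
      (isBaseChange_ext (σ := σ) (A := R₁) (C := R) (ι := κ)) (phi v₁)
      ((phi (vmap R v₁)).restrictScalars R) (phi_ext v₁) h1 z
      (by rw [hv]; change phi (vmap R v) z ∈ _; rw [hz]; exact zero_mem _)
    refine ⟨MvPolynomial.map (algebraMap R₁ R) t, ht, ?_⟩
    rw [act_ext, Submodule.bot_smul, bot_sup_eq] at htz
    have hle : Submodule.span R (ext σ R₁ R ι '' (preker (⊥ : Ideal R₁) (phi v₁) : Set (ι → MvPolynomial σ R₁))) ≤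
        (Submodule.span (MvPolynomial σ R)
          ((Z₁.image (ext σ R₁ R ι) : Finset _) : Set (ι → MvPolynomial σ R))).restrictScalars R := by
      rw [Submodule.span_le]
      rintro _ ⟨l, hl, rfl⟩
      have hl' : phi v₁ l = 0 := by
        have h3 : phi v₁ l ∈ ((⊥ : Ideal R₁).map (algebraMap R₁ (MvPolynomial σ R₁)) •
          (⊤ : Submodule (MvPolynomial σ R₁) (κ → MvPolynomial σ R₁))) := hl
        rw [Ideal.map_bot, Submodule.bot_smul] at h3
        exact (Submodule.mem_bot _).1 h3
      have hl2 : l ∈ Submodule.span (MvPolynomial σ R₁) (Z₁ : Set (ι → MvPolynomial σ R₁)) := by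
        rw [hZ₁]; exact hl'
      refine Submodule.span_induction (p := fun x _ => ext σ R₁ R ι x ∈ Submodule.span (MvPolynomial σ R)
          ((Z₁.image (ext σ R₁ R ι) : Finset _) : Set (ι → MvPolynomial σ R))) ?_ ?_ ?_ ?_ hl2
      · intro g hg
        exact Submodule.subset_span (Finset.mem_coe.2 (Finset.mem_image_of_mem _ hg))
      · rw [map_zero]; exact zero_mem _
      · intro x y _ _ hx hy
        rw [map_add]; exact add_mem hx hy
      · intro p x _ hx
        rw [ext_smul]; exact Submodule.smul_mem _ _ hx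
    exact hle htz

end Matrix

/-- Every matrix over `R[x]` comes from a Noetherian subring of `R`. -/
theorem exists_vmap {R : Type u} [CommRing R] {σ ι κ : Type*} [Finite σ] [Fintype ι] [Fintype κ]
    (w : ι → κ → MvPolynomial σ R) :
    ∃ (A : Subalgebra ℤ R) (_ : IsNoetherianRing A) (v : ι → κ → MvPolynomial σ A), vmap R v = w := by
  classical
  let s : Finset R := Finset.univ.biUnion fun j : ι => Finset.univ.biUnion fun i : κ => (w j i).coeffs
  let A : Subalgebra ℤ R := Algebra.adjoin ℤ (s : Set R)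
  have : Algebra.FiniteType ℤ A := (Subalgebra.fg_iff_finiteType _).mp (Subalgebra.fg_adjoin_finset s)
  have hA : IsNoetherianRing A := Algebra.FiniteType.isNoetherianRing ℤ A
  have hcoeff : ∀ j, ∃ x : κ → MvPolynomial σ A, ext σ A R κ x = w j := by
    intro j
    refine exists_ext_eq _ fun i a ha => ⟨⟨a, Algebra.subset_adjoin ?_⟩, rfl⟩
    rw [Finset.mem_coe, Finset.mem_biUnion]
    refine ⟨j, Finset.mem_univ _, ?_⟩
    rw [Finset.mem_biUnion]
    exact ⟨i, Finset.mem_univ _, ha⟩
  choose v hv using hcoeff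
  exact ⟨A, hA, v, funext hv⟩

/-- Data of a local ring essentially of finite presentation, in terms of a polynomial ring. -/
theorem exists_poly {R S : Type u} [CommRing R] [CommRing S] [IsLocalRing S] [Algebra R S]
    (hS : CAlgX.IsEssFinitePresentation R S) :
    ∃ (n l : ℕ) (π : MvPolynomial (Fin n) R →ₐ[R] S) (j : Fin l → MvPolynomial (Fin n) R),
      (∀ a, π (j a) = 0) ∧
      (∀ (ι : Type) [Finite ι] (y : ι → S), ∃ t, IsUnit (π t) ∧ ∃ y' : ι → MvPolynomial (Fin n) R,
        ∀ i, π t * y i = π (y' i)) ∧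
      (∀ p, π p = 0 → ∃ t, IsUnit (π t) ∧ ∃ c : Fin l → MvPolynomial (Fin n) R, t * p = ∑ a, c a * j a) := by
  classical
  obtain ⟨S₀, _, _, _, _, T, _, _⟩ := hS
  obtain ⟨n, f, hf, hker⟩ := Algebra.FinitePresentation.out (R := R) (A := S₀)
  obtain ⟨l, j, hj⟩ := Submodule.fg_iff_exists_fin_generating_family.1 hker
  let π : MvPolynomial (Fin n) R →ₐ[R] S := (IsScalarTower.toAlgHom R S₀ S).comp f
  refine ⟨n, l, π, j, ?_, ?_, ?_⟩
  · intro a
    have h1 : j a ∈ RingHom.ker f.toRingHom := by rw [← hj]; exact Submodule.subset_span ⟨a, rfl⟩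
    have h2 : f (j a) = 0 := h1
    change algebraMap S₀ S (f (j a)) = 0
    rw [h2, map_zero]
  · intro ι _ y
    obtain ⟨b, hb⟩ := IsLocalization.exist_integer_multiples_of_finite T y
    choose c hc using hb
    obtain ⟨t, ht⟩ := hf b
    choose y' hy' using fun i => hf (c i)
    refine ⟨t, ?_, y', fun i => ?_⟩
    · change IsUnit (algebraMap S₀ S (f t))
      rw [ht]
      exact IsLocalization.map_units S b
    · change algebraMap S₀ S (f t) * y i = algebraMap S₀ S (f (y' i))
      rw [ht, hy', hc, Algebra.smul_def]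
  · intro p hp
    have h1 : algebraMap S₀ S (f p) = 0 := hp
    obtain ⟨b, hb⟩ := (IsLocalization.map_eq_zero_iff T S (f p)).1 h1
    obtain ⟨t, ht⟩ := hf b
    refine ⟨t, ?_, ?_⟩
    · change IsUnit (algebraMap S₀ S (f t))
      rw [ht]
      exact IsLocalization.map_units S b
    · have h2 : t * p ∈ RingHom.ker f.toRingHom := by
        change f (t * p) = 0
        rw [map_mul, ht, hb]
      rw [← hj, Submodule.mem_span_range_iff_exists_fun] at h2
      obtain ⟨c, hc⟩ := h2
      exact ⟨c, by rw [← hc]; rfl⟩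

/-- For a local ring `S` essentially of finite presentation over `R`, the kernel of a linear map of finite free
modules whose cokernel is flat over `R` is finitely generated. -/
theorem fg_ker {R S : Type u} [CommRing R] [CommRing S] [IsLocalRing S] [Algebra R S]
    (hS : CAlgX.IsEssFinitePresentation R S) {m r : ℕ} (Φ : (Fin m → S) →ₗ[S] (Fin r → S))
    [Module.Flat R ((Fin r → S) ⧸ LinearMap.range Φ)] : (LinearMap.ker Φ).FG := by
  classical
  obtain ⟨n, l, π, j, hj, hden, hker⟩ := exists_poly hS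
  let P := MvPolynomial (Fin n) R
  let _ : Algebra P S := π.toAlgebra
  have hP : IsScalarTower R P S := IsScalarTower.of_algebraMap_eq (fun a => (π.commutes a).symm)
  have hsm : ∀ (p : P) (x : S), p • x = π p * x := fun p x => rfl
  let q : Ideal P := (IsLocalRing.maximalIdeal S).comap π.toRingHom
  have hq : ∀ p : P, p ∈ q.primeCompl ↔ IsUnit (π p) := by
    intro x
    change x ∉ q ↔ _
    rw [← not_iff_not, not_not]
    exact IsLocalRing.mem_maximalIdeal _
  -- the matrix of `Φ`
  obtain ⟨t₀, ht₀, c, hc⟩ := hden (Fin m × Fin r) (fun x => Φ (Pi.single x.1 1) x.2)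
  let w : (Fin m ⊕ (Fin l × Fin r)) → Fin r → P :=
    Sum.elim (fun a i => c (a, i)) (fun x => Pi.single x.2 (j x.1))
  obtain ⟨A, hA, v, hv⟩ := exists_vmap w
  let πr : (Fin r → P) →ₗ[P] (Fin r → S) := (Algebra.linearMap P S).compLeft (Fin r)
  let πm : ((Fin m ⊕ (Fin l × Fin r)) → P) → (Fin m → S) := fun z a => π (z (Sum.inl a))
  have hΦ : ∀ y : Fin m → S, Φ y = ∑ a, y a • Φ (Pi.single a 1) := by
    intro y
    conv_lhs => rw [← Finset.univ_sum_single y, map_sum]
    refine Finset.sum_congr rfl fun a _ => ?_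
    rw [← map_smul]
    congr 1
    funext b
    by_cases h : b = a
    · subst h; simp
    · simp [h]
  have hA1 : ∀ z, πr (phi w z) = π t₀ • Φ (πm z) := by
    intro z
    funext i
    rw [hΦ, Pi.smul_apply, Finset.sum_apply, smul_eq_mul, Finset.mul_sum]
    change π (phi w z i) = _
    rw [phi, Fintype.linearCombination_apply, Finset.sum_apply, map_sum, Fintype.sum_sum_type]
    have h1 : ∀ x : Fin l × Fin r, π ((z (Sum.inr x) • w (Sum.inr x)) i) = 0 := by
      intro x
      change π (z (Sum.inr x) * (Pi.single x.2 (j x.1) : Fin r → P) i) = 0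
      rw [map_mul]
      by_cases h : i = x.2
      · subst h; rw [Pi.single_eq_same, hj, mul_zero]
      · rw [Pi.single_eq_of_ne h, map_zero, mul_zero]
    rw [Finset.sum_eq_zero (s := Finset.univ) (f := fun x => π ((z (Sum.inr x) • w (Sum.inr x)) i))
      (fun x _ => h1 x), add_zero]
    refine Finset.sum_congr rfl fun a _ => ?_
    change π (z (Sum.inl a) * c (a, i)) = π t₀ * (π (z (Sum.inl a)) * Φ (Pi.single a 1) i)
    rw [map_mul, ← hc (a, i)]
    ring
  have hB : ∀ x : Fin r → P, πr x = 0 → ∃ t, IsUnit (π t) ∧ ∃ y : Fin l × Fin r → P,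
      t • x = ∑ a, y a • w (Sum.inr a) := by
    intro x hx
    have hx' : ∀ i, π (x i) = 0 := fun i => congrFun hx i
    choose t ht c' hc' using fun i => hker (x i) (hx' i)
    refine ⟨∏ i, t i, ?_, fun a => (∏ k ∈ Finset.univ.erase a.2, t k) * c' a.2 a.1, ?_⟩
    · rw [map_prod]
      exact IsUnit.prod_univ_iff.2 ht
    · funext i
      rw [Finset.sum_apply, Fintype.sum_prod_type]
      have h1 : ∀ a : Fin l, ∑ k : Fin r, (((∏ k ∈ Finset.univ.erase k, t k) * c' k a) • w (Sum.inr (a, k))) i =
          (∏ k ∈ Finset.univ.erase i, t k) * (c' i a * j a) := by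
        intro a
        rw [Finset.sum_eq_single i]
        · change (_ * _) * (Pi.single i (j a) : Fin r → P) i = _
          rw [Pi.single_eq_same, mul_assoc]
        · intro k _ hk
          change (_ * _) * (Pi.single k (j a) : Fin r → P) i = 0
          rw [Pi.single_eq_of_ne (Ne.symm hk), mul_zero]
        · intro h; exact absurd (Finset.mem_univ i) h
      rw [Finset.sum_congr rfl fun a _ => h1 a, ← Finset.mul_sum, ← hc' i, Pi.smul_apply, smul_eq_mul,
        ← Finset.mul_prod_erase _ _ (Finset.mem_univ i)]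
      ring
  -- the cokernel
  have hle : LinearMap.range (phi w) ≤
      LinearMap.ker (((LinearMap.range Φ).mkQ.restrictScalars P).comp πr) := by
    rintro _ ⟨z, rfl⟩
    rw [LinearMap.mem_ker, LinearMap.comp_apply, hA1]
    change (LinearMap.range Φ).mkQ (π t₀ • Φ (πm z)) = 0
    rw [map_smul, Submodule.mkQ_apply, (Submodule.Quotient.mk_eq_zero _).2 (LinearMap.mem_range_self Φ _),
      smul_zero]
  let g : Mod w →ₗ[P] ((Fin r → S) ⧸ LinearMap.range Φ) :=
    (LinearMap.range (phi w)).liftQ (((LinearMap.range Φ).mkQ.restrictScalars P).comp πr) hle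
  have hg : IsLocalizedModule q.primeCompl g := by
    refine ⟨?_, ?_, ?_⟩
    · rintro ⟨x, hx⟩
      have h1 : IsUnit (algebraMap S (Module.End S ((Fin r → S) ⧸ LinearMap.range Φ)) (π x)) :=
        ((hq x).1 hx).map _
      rw [Module.End.isUnit_iff] at h1 ⊢
      exact h1
    · intro y
      obtain ⟨y, rfl⟩ := Submodule.mkQ_surjective _ y
      obtain ⟨t, ht, y', hy'⟩ := hden (Fin r) y
      refine ⟨⟨(LinearMap.range (phi w)).mkQ y', ⟨t, (hq t).2 ht⟩⟩, ?_⟩
      change π t • (LinearMap.range Φ).mkQ y = (LinearMap.range Φ).mkQ (πr y')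
      rw [← map_smul]
      congr 1
      funext i
      exact hy' i
    · intro x y hxy
      obtain ⟨x, rfl⟩ := Submodule.mkQ_surjective _ x
      obtain ⟨y, rfl⟩ := Submodule.mkQ_surjective _ y
      have h1 : (LinearMap.range Φ).mkQ (πr x) = (LinearMap.range Φ).mkQ (πr y) := hxy
      rw [← sub_eq_zero, ← map_sub, ← map_sub, Submodule.mkQ_apply, Submodule.Quotient.mk_eq_zero] at h1
      obtain ⟨z, hz⟩ := h1
      obtain ⟨t, ht, z', hz'⟩ := hden (Fin m) z
      -- `t t₀ (x - y) - Σ z' c` is killed by `πr`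
      let Z : (Fin m ⊕ (Fin l × Fin r)) → P := Sum.elim z' 0
      have h2 : πr ((t * t₀) • (x - y) - phi w Z) = 0 := by
        rw [map_sub, hA1, map_smul]
        have h3 : πm Z = π t • z := by
          funext a
          exact (hz' a).symm
        rw [h3, map_smul, hz]
        change π (t * t₀) • πr (x - y) - _ = 0
        rw [map_mul, mul_smul, smul_comm, sub_self]
      obtain ⟨t', ht', y', hy'⟩ := hB _ h2
      have h4 : (t' * (t * t₀)) • (x - y) ∈ LinearMap.range (phi w) := by
        refine ⟨t' • Z + Sum.elim (fun _ => 0) y', ?_⟩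
        have h5 : phi w (Sum.elim (fun _ => 0) y') = ∑ a, y' a • w (Sum.inr a) := by
          rw [phi, Fintype.linearCombination_apply, Fintype.sum_sum_type]
          simp
        rw [map_add, h5, ← hy', map_smul, smul_sub, ← mul_smul]
        abel
      refine ⟨⟨t' * (t * t₀), (hq _).2 ?_⟩, ?_⟩
      · rw [map_mul, map_mul]
        exact ht'.mul (ht.mul ht₀)
      · rw [Submonoid.smul_def, Submonoid.smul_def, ← sub_eq_zero, ← smul_sub, ← map_sub, ← map_smul, Submodule.mkQ_apply,
          Submodule.Quotient.mk_eq_zero]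
        exact h4
  have hflat : Module.Flat R (LocalizedModule q.primeCompl (Mod w)) := by
    let e : LocalizedModule q.primeCompl (Mod w) ≃ₗ[P] ((Fin r → S) ⧸ LinearMap.range Φ) :=
      IsLocalizedModule.iso q.primeCompl g
    exact Module.Flat.of_linearEquiv (e.restrictScalars R)
  have hflat' : Module.Flat R (LocalizedModule q.primeCompl (Mod (vmap R v))) := by
    rw [hv]; exact hflat
  obtain ⟨Z, hZ0, hZ⟩ := exists_finset_syz v q hflat'
  rw [hv] at hZ0 hZ
  refine ⟨Z.image πm, le_antisymm ?_ ?_⟩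
  · rw [Submodule.span_le]
    intro y hy
    obtain ⟨z, hz, rfl⟩ := Finset.mem_image.1 (Finset.mem_coe.1 hy)
    have h1 := hA1 z
    rw [hZ0 z hz, map_zero] at h1
    exact (ht₀.smul_eq_zero).1 h1.symm
  · intro y hy
    obtain ⟨t, ht, y', hy'⟩ := hden (Fin m) y
    let Y : (Fin m ⊕ (Fin l × Fin r)) → P := Sum.elim y' 0
    have h3 : πm Y = π t • y := by
      funext a
      exact (hy' a).symm
    have h2 : πr (phi w Y) = 0 := by
      rw [hA1, h3, map_smul, LinearMap.mem_ker.1 hy, smul_zero, smul_zero]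
    obtain ⟨t', ht', y'', hy''⟩ := hB _ h2
    have h4 : phi w (t' • Y - Sum.elim (fun _ => 0) y'') = 0 := by
      have h5 : phi w (Sum.elim (fun _ => 0) y'') = ∑ a, y'' a • w (Sum.inr a) := by
        rw [phi, Fintype.linearCombination_apply, Fintype.sum_sum_type]
        simp
      rw [map_sub, map_smul, h5, hy'', sub_self]
    obtain ⟨s, hs, hsz⟩ := hZ _ h4
    have h6 : ∀ z ∈ Submodule.span P (Z : Set ((Fin m ⊕ (Fin l × Fin r)) → P)),
        πm z ∈ Submodule.span S ((Z.image πm : Finset _) : Set (Fin m → S)) := by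
      intro z hz
      refine Submodule.span_induction (p := fun z _ => πm z ∈ Submodule.span S
        ((Z.image πm : Finset _) : Set (Fin m → S))) ?_ ?_ ?_ ?_ hz
      · intro g hg
        exact Submodule.subset_span (Finset.mem_coe.2 (Finset.mem_image_of_mem _ hg))
      · have : πm 0 = 0 := by funext a; exact map_zero π
        rw [this]; exact zero_mem _
      · intro a b _ _ ha hb
        have : πm (a + b) = πm a + πm b := by funext x; exact map_add π _ _
        rw [this]; exact add_mem ha hb
      · intro p a _ ha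
        have : πm (p • a) = π p • πm a := by funext x; exact map_mul π _ _
        rw [this]; exact Submodule.smul_mem _ _ ha
    have h7 := h6 _ hsz
    have h8 : πm (s • (t' • Y - Sum.elim (fun _ => 0) y'')) = (π s * π t' * π t) • y := by
      funext a
      change π (s * (t' * y' a - 0)) = (π s * π t' * π t) * y a
      rw [sub_zero, map_mul, map_mul, ← hy' a]
      ring
    rw [h8] at h7
    have hu : IsUnit (π s * π t' * π t) := (((hq s).1 hs).mul ht').mul ht
    obtain ⟨u, hu⟩ := hu
    rw [← hu] at h7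
    have h9 := Submodule.smul_mem _ (↑u⁻¹ : S) h7
    rwa [smul_smul, Units.inv_mul, one_smul] at h9

end Groth.Agent.CalgB.FlatSyz
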