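import Groth.Agent.S2047

/-!
# G-rings: the local case of Stacks Tag 07PT

`isGRing_iff_of_isLocalRing`: a Noetherian local ring `R` is a G-ring iff `R → R^` is a regular homomorphism.
-/

set_option autoImplicit false
universe u

namespace Groth.Agent.CalgB.GRing2

open IsLocalRing TensorProduct
open Groth.Agent.CalgB.RegHom6 Groth.Agent.CalgB.RegHom7 Groth.Agent.CalgB.RegHom8
open Groth.Agent.CurvesB

/-- Regular homomorphisms are invariant under isomorphisms of the target. -/
theorem isRegularHom_congr_right {R S T : Type u} [CommRing R] [CommRing S] [CommRing T]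
    [Algebra R S] [Algebra R T] (e : S ≃ₐ[R] T) (h : CAlg.IsRegularHom R S) :
    CAlg.IsRegularHom R T := by
  rw [isRegularHom_iff] at *
  have := h.1
  refine ⟨Module.Flat.of_linearEquiv e.symm.toLinearEquiv, fun K _ _ hK ↦ ?_⟩
  have := h.2 K hK
  exact IsRegularRing.of_ringEquiv (Algebra.TensorProduct.congr AlgEquiv.refl e :
    K ⊗[R] S ≃ₐ[R] K ⊗[R] T).toRingEquiv

/-- For a local ring `R`, the completion maps of `R` and of `R_m` are regular simultaneously. -/
theorem isRegularHom_cpl_iff_atPrime (R : Type u) [CommRing R] [IsLocalRing R] :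
    CAlg.IsRegularHom (Localization.AtPrime (maximalIdeal R))
      (AdicCompletion (maximalIdeal (Localization.AtPrime (maximalIdeal R)))
        (Localization.AtPrime (maximalIdeal R))) ↔
    CAlg.IsRegularHom R (AdicCompletion (maximalIdeal R) R) := by
  let R' := Localization.AtPrime (maximalIdeal R)
  let e : R ≃ₐ[R] R' := IsLocalization.atUnits R (maximalIdeal R).primeCompl
    (fun x hx ↦ by simpa using! hx)
  have he : (maximalIdeal R).map (e.toRingEquiv : R →+* R') = maximalIdeal R' :=
    CplMap.maximalIdeal_map_equiv e.toRingEquiv
  let E : AdicCompletion (maximalIdeal R) R ≃ₐ[R] AdicCompletion (maximalIdeal R') R' :=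
    AlgEquiv.ofRingEquiv (f := CplMap.congr _ _ e.toRingEquiv he) (fun a ↦ by
      rw [CplMap.congr_algebraMap]
      have h1 : e.toRingEquiv a = algebraMap R R' a := e.commutes a
      rw [h1]
      rfl)
  constructor
  · intro h
    have h1 : CAlg.IsRegularHom R (AdicCompletion (maximalIdeal R') R') := by
      rw [isRegularHom_iff] at *
      have := h.1
      exact ⟨Module.Flat.trans R R' _,
        fieldFib_of_localization_left R' (maximalIdeal R).primeCompl h.2⟩
    exact isRegularHom_congr_right E.symm h1
  · intro h
    exact isRegularHom_localization_left R' (maximalIdeal R).primeCompl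
      (isRegularHom_congr_right E h)

/-- A Noetherian local ring is a G-ring iff its completion map is a regular homomorphism. -/
theorem isGRing_iff_of_isLocalRing (R : Type u) [CommRing R] [IsLocalRing R] [IsNoetherianRing R] :
    CAlg.IsGRing R ↔ CAlg.IsRegularHom R (AdicCompletion (maximalIdeal R) R) := by
  rw [← isRegularHom_cpl_iff_atPrime, Groth.Agent.S2047.result]
  constructor
  · intro h
    exact h (maximalIdeal R)
  · intro h m hm
    have hmm := IsLocalRing.eq_maximalIdeal hm
    subst hmm
    exact h

end Groth.Agent.CalgB.GRing2
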