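import Groth.Agent.Localalg.GorDepth
import Groth.Agent.Localalg.GorSocle
import Groth.Agent.Localalg.FibreReg
import Groth.Agent.CalgA.RegBasic
import Groth.Agent.S0343
import Mathlib.RingTheory.Flat.EquationalCriterion
import Mathlib.RingTheory.Length

/-!
# Gorenstein local rings and flat local homomorphisms

Base case: dimension zero, via cyclic socles.
-/

set_option autoImplicit false
universe u v

open IsLocalRing

namespace Groth.Agent.CalgB.GorFlat

section socle

variable (R : Type u) [CommRing R] [IsLocalRing R]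

/-- The socle of the local ring is non-zero and cyclic. -/
def SocCond : Prop :=
  ∃ s : R, s ≠ 0 ∧ (∀ a ∈ maximalIdeal R, a * s = 0) ∧
    ∀ t : R, (∀ a ∈ maximalIdeal R, a * t = 0) → ∃ c, t = c * s

variable {R}

omit [IsLocalRing R] in
theorem exact_length_le {M N P : Type*} [AddCommGroup M] [Module R M] [AddCommGroup N] [Module R N]
    [AddCommGroup P] [Module R P] (f : M →ₗ[R] N) (g : N →ₗ[R] P)
    (h : LinearMap.ker g ≤ LinearMap.range f) :
    Module.length R N ≤ Module.length R M + Module.length R (LinearMap.range g) := by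
  rw [Module.length_eq_add_of_exact (LinearMap.ker g).subtype g.rangeRestrict
    (Submodule.injective_subtype _) g.surjective_rangeRestrict (by
      rw [LinearMap.exact_iff]
      simp)]
  gcongr
  calc Module.length R (LinearMap.ker g) ≤ Module.length R (LinearMap.range f) :=
        Module.length_le_of_injective (Submodule.inclusion h) (Submodule.inclusion_injective h)
    _ ≤ Module.length R M :=
        Module.length_le_of_surjective f.rangeRestrict f.surjective_rangeRestrict

theorem length_hom_le [IsArtinianRing R] (s : R) (hs0 : ∀ a ∈ maximalIdeal R, a * s = 0)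
    (hs : ∀ t : R, (∀ a ∈ maximalIdeal R, a * t = 0) → ∃ c, t = c * s)
    (N : Type u) [AddCommGroup N] [Module R N] [hN : Module.Finite R N] :
    Module.length R (N →ₗ[R] R) ≤ Module.length R N := by
  induction hN using IsNoetherianRing.induction_on_isQuotientEquivQuotientPrime R with
  | subsingleton N => 
    have : Subsingleton (N →ₗ[R] R) := ⟨fun f g ↦ by ext x; rw [Subsingleton.elim x 0]; simp⟩
    rw [Module.length_eq_zero]
    exact zero_le
  | quotient N p e =>
    have hp : p.asIdeal = maximalIdeal R := IsLocalRing.eq_maximalIdeal inferInstance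
    let σ : (R ⧸ p.asIdeal) →ₗ[R] R := Submodule.liftQ p.asIdeal (LinearMap.toSpanSingleton R R s)
      (fun a ha ↦ by
        rw [LinearMap.mem_ker, LinearMap.toSpanSingleton_apply, smul_eq_mul]
        exact hs0 a (hp ▸ ha))
    let w : (R ⧸ p.asIdeal) →ₗ[R] ((R ⧸ p.asIdeal) →ₗ[R] R) :=
      (LinearMap.llcomp R _ _ _ σ) ∘ₗ (LinearMap.mul R (R ⧸ p.asIdeal))
    have hw : Function.Surjective w := by
      intro h
      obtain ⟨c, hc⟩ := hs (h 1) (fun a ha ↦ by
        rw [← smul_eq_mul, ← map_smul, ← hp] at *
        have : a • (1 : R ⧸ p.asIdeal) = 0 := by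
          rw [Algebra.smul_def, mul_one]
          exact Ideal.Quotient.eq_zero_iff_mem.2 ha
        rw [this, map_zero])
      refine ⟨Ideal.Quotient.mk _ c, ?_⟩
      ext
      change σ (Ideal.Quotient.mk p.asIdeal c * 1) = h 1
      rw [mul_one, hc]
      change c • s = _
      rfl
    calc Module.length R (N →ₗ[R] R) = Module.length R ((R ⧸ p.asIdeal) →ₗ[R] R) :=
          (LinearEquiv.arrowCongr e (LinearEquiv.refl R R)).length_eq
      _ ≤ Module.length R (R ⧸ p.asIdeal) := Module.length_le_of_surjective w hw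
      _ = Module.length R N := e.symm.length_eq
  | exact N₁ N₂ N₃ f g hf hg hfg ih₁ ih₃ =>
    have h1 := exact_length_le (LinearMap.lcomp R R g) (LinearMap.lcomp R R f) (by
      intro h hh
      have h2 : LinearMap.ker g ≤ LinearMap.ker h := by
        intro x hx
        obtain ⟨y, rfl⟩ := (hfg x).1 hx
        exact congr($hh y)
      refine ⟨(LinearMap.ker g).liftQ h h2 ∘ₗ (g.quotKerEquivOfSurjective hg).symm.toLinearMap, ?_⟩
      ext x
      change (LinearMap.ker g).liftQ h h2 ((g.quotKerEquivOfSurjective hg).symm (g x)) = h x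
      have : (g.quotKerEquivOfSurjective hg).symm (g x) = Submodule.Quotient.mk x := by
        rw [LinearEquiv.symm_apply_eq]
        rfl
      rw [this]
      rfl)
    have h2 : Module.length R (LinearMap.range (LinearMap.lcomp R R f)) ≤
        Module.length R (N₁ →ₗ[R] R) :=
      Module.length_le_of_injective _ (Submodule.injective_subtype _)
    calc Module.length R (N₂ →ₗ[R] R) ≤ _ := h1
      _ ≤ Module.length R N₃ + Module.length R N₁ := by gcongr; exact h2.trans ih₁
      _ = Module.length R N₂ := by
        rw [Module.length_eq_add_of_exact f g hf hg hfg, add_comm]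

theorem baer_of_socle [IsArtinianRing R] (s : R) (hs0 : ∀ a ∈ maximalIdeal R, a * s = 0)
    (hs : ∀ t : R, (∀ a ∈ maximalIdeal R, a * t = 0) → ∃ c, t = c * s) : Module.Baer R R := by
  intro I g
  let ψ : (R →ₗ[R] R) →ₗ[R] (I →ₗ[R] R) := LinearMap.lcomp R R I.subtype
  have hlI := length_hom_le s hs0 hs I
  have hfin : Module.length R I ≠ ⊤ := Module.length_ne_top
  have hfin' : IsFiniteLength R (I →ₗ[R] R) := by
    rw [← Module.length_ne_top_iff]
    exact ne_top_of_le_ne_top hfin hlI
  obtain ⟨_, _⟩ := isFiniteLength_iff_isNoetherian_isArtinian.1 hfin'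
  have htop : LinearMap.range ψ = ⊤ := by
    by_contra hne
    have h1 := Submodule.length_lt hne
    have h2 := exact_length_le (LinearMap.lcomp R R I.mkQ) ψ (by
      intro h hh
      refine ⟨Submodule.liftQ I h (fun x hx ↦ congr($hh ⟨x, hx⟩)), ?_⟩
      ext
      rfl)
    have h3 := length_hom_le s hs0 hs (R ⧸ I)
    have h4 : Module.length R (R →ₗ[R] R) = Module.length R R :=
      (LinearMap.ringLmapEquivSelf R R R).length_eq
    have h5 : Module.length R R = Module.length R I + Module.length R (R ⧸ I) :=
      Module.length_eq_add_of_exact I.subtype I.mkQ (Submodule.injective_subtype _)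
        (Submodule.mkQ_surjective _) (LinearMap.exact_subtype_mkQ I)
    have h6 : Module.length R (R ⧸ I) ≠ ⊤ := Module.length_ne_top
    have : Module.length R R < Module.length R R := by
      calc Module.length R R = Module.length R (R →ₗ[R] R) := h4.symm
        _ ≤ _ := h2
        _ ≤ Module.length R (R ⧸ I) + Module.length R (LinearMap.range ψ) := by gcongr
        _ < Module.length R (R ⧸ I) + Module.length R I := by
          exact (ENat.add_lt_add_iff_left h6).2 (h1.trans_le hlI)
        _ = Module.length R R := by rw [h5, add_comm]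
    exact lt_irrefl _ this
  obtain ⟨g', hg'⟩ : g ∈ LinearMap.range ψ := htop ▸ Submodule.mem_top
  exact ⟨g', fun x hx ↦ congr($hg' ⟨x, hx⟩)⟩

/-- A zero-dimensional Noetherian local ring with cyclic socle is Gorenstein. -/
theorem isGorenstein_of_socle [IsArtinianRing R] (s : R) (hs0 : ∀ a ∈ maximalIdeal R, a * s = 0)
    (hs : ∀ t : R, (∀ a ∈ maximalIdeal R, a * t = 0) → ∃ c, t = c * s) :
    LocCoh.IsGorensteinLocalRing R := by
  have h1 : Module.Injective R R := Module.Baer.iff_injective.1 (baer_of_socle s hs0 hs)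
  have h2 : CategoryTheory.Injective (ModuleCat.of R R) :=
    (Module.injective_iff_injective_object R R).1 h1
  exact ⟨1, inferInstance⟩

end socle

section flat

variable {A B : Type*} [CommRing A] [CommRing B] [Algebra A B] [Module.Flat A B]

/-- colon ideals and flatness. -/
theorem mem_map_colon (a t : A) (b c : B) (h : algebraMap A B t * c = algebraMap A B a * b)
    (J : Ideal A) (hJ : ∀ x : A, t * x ∈ Ideal.span {a} → x ∈ J) :
    c ∈ J.map (algebraMap A B) := by
  have h1 : ∑ i, (![t, -a] : Fin 2 → A) i • (![c, b] : Fin 2 → B) i = 0 := by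
    simp [Fin.sum_univ_two, Algebra.smul_def, h]
  obtain ⟨k, x, y, hxy, hx⟩ := Module.Flat.isTrivialRelation_of_sum_smul_eq_zero h1
  have h2 := hxy 0
  simp only [Matrix.cons_val_zero] at h2
  rw [h2]
  refine Ideal.sum_mem _ fun j _ ↦ ?_
  rw [Algebra.smul_def]
  refine Ideal.mul_mem_right _ _ (Ideal.mem_map_of_mem _ (hJ _ ?_))
  have h3 := hx j
  simp only [Fin.sum_univ_two, Matrix.cons_val_zero, Matrix.cons_val_one] at h3
  rw [Ideal.mem_span_singleton]
  exact ⟨x 1 j, by linear_combination h3⟩

/-- socles and flatness. -/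
theorem mem_span_of_socle [IsNoetherianRing A] (I : Ideal A) (a : A)
    (ha : ∀ t : A, (∀ x ∈ I, x * t = 0) → ∃ c, t = c * a) (b : B)
    (hb : ∀ x ∈ I, algebraMap A B x * b = 0) : ∃ c : B, b = algebraMap A B a * c := by
  obtain ⟨k, α, y, hαy, hα⟩ := Module.Flat.exists_factorization_of_comp_eq_zero_of_free
    (R := A) (M := B) (f := (I.subtype : I →ₗ[A] A)) (x := LinearMap.toSpanSingleton A B b) (by
      ext x
      simpa [Algebra.smul_def] using hb x x.2)
  have h1 : ∀ j, ∃ c, α 1 j = c * a := by
    intro j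
    refine ha _ fun x hx ↦ ?_
    have h2 := congr($hα ⟨x, hx⟩ j)
    have h3 : α x = x • α 1 := by rw [← map_smul, smul_eq_mul, mul_one]
    simp only [LinearMap.comp_apply, Submodule.subtype_apply, LinearMap.zero_apply,
      Finsupp.coe_zero, Pi.zero_apply] at h2
    rw [h3] at h2
    simpa using h2
  choose c hc using h1
  refine ⟨y (Finsupp.equivFunOnFinite.symm c), ?_⟩
  rw [← Algebra.smul_def, ← map_smul]
  have h4 : b = LinearMap.toSpanSingleton A B b 1 := by simp
  rw [h4, hαy, LinearMap.comp_apply]
  congr 1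
  ext j
  rw [hc j, mul_comm]
  simp

end flat

section base

variable (A B F : Type u) [CommRing A] [IsLocalRing A] [IsNoetherianRing A] [CommRing B]
  [IsLocalRing B] [IsNoetherianRing B] [CommRing F] [IsLocalRing F] [IsNoetherianRing F]
  [Algebra A B] [Algebra B F] [IsLocalHom (algebraMap A B)] [Module.Flat A B]

theorem base (hF : Function.Surjective (algebraMap B F))
    (hk : RingHom.ker (algebraMap B F) = (maximalIdeal A).map (algebraMap A B))
    (hA : ∀ x ∈ maximalIdeal A, ¬ IsSMulRegular A x)
    (hFr : ∀ x ∈ maximalIdeal F, ¬ IsSMulRegular F x) :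
    LocCoh.IsGorensteinLocalRing B ↔
      LocCoh.IsGorensteinLocalRing A ∧ LocCoh.IsGorensteinLocalRing F := by
  have hlocF : IsLocalHom (algebraMap B F) := IsLocalHom.of_surjective _ hF
  -- socle elements
  obtain ⟨gA, hgA⟩ := Localalg.GorDepth.exists_injective_residueField (A := A) A hA
  obtain ⟨gF, hgF⟩ := Localalg.GorDepth.exists_injective_residueField (A := F) F hFr
  have socle_of : ∀ {R : Type u} [CommRing R] [IsLocalRing R]
      (g : (R ⧸ maximalIdeal R) →ₗ[R] R), Function.Injective g →
      g 1 ≠ 0 ∧ ∀ x ∈ maximalIdeal R, x * g 1 = 0 := by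
    intro R _ _ g hg
    constructor
    · intro h
      rw [← map_zero g] at h
      exact one_ne_zero (hg h)
    · intro x hx
      rw [← smul_eq_mul, ← map_smul]
      have : x • (1 : R ⧸ maximalIdeal R) = 0 := by
        rw [Algebra.smul_def, mul_one]
        exact Ideal.Quotient.eq_zero_iff_mem.2 hx
      rw [this, map_zero]
  obtain ⟨ha0, hma⟩ := socle_of gA hgA
  obtain ⟨hf0, hmf⟩ := socle_of gF hgF
  set a0 := gA 1 with ha0def
  set f0 := gF 1 with hf0def
  obtain ⟨f, hf⟩ := hF f0
  -- annihilator of `a0`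
  have hann : ∀ b : B, algebraMap A B a0 * b = 0 → algebraMap B F b = 0 := by
    intro b hb
    have h1 := mem_map_colon (A := A) (0 : A) a0 (0 : B) b (by rw [hb, mul_zero])
      (maximalIdeal A) (fun x hx ↦ by
        rw [Ideal.span_singleton_zero, Ideal.mem_bot] at hx
        rw [mem_maximalIdeal]
        intro hu
        exact ha0 (by simpa using (hu.mul_left_eq_zero).1 hx))
    rw [← hk] at h1
    exact h1
  have hker : ∀ b : B, algebraMap B F b = 0 → algebraMap A B a0 * b = 0 := by
    intro b hb
    have h1 : b ∈ (maximalIdeal A).map (algebraMap A B) := hk ▸ hb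
    have h2 : (maximalIdeal A).map (algebraMap A B) ≤
        (Ideal.span {algebraMap A B a0}).annihilator := by
      rw [Ideal.map_le_iff_le_comap]
      intro x hx
      rw [Ideal.mem_comap, Submodule.mem_annihilator_span_singleton, smul_eq_mul, ← map_mul,
        hma x hx, map_zero]
    have h3 := h2 h1
    rw [Submodule.mem_annihilator_span_singleton, smul_eq_mul] at h3
    rw [mul_comm, h3]
  have hmB : ∀ y ∈ maximalIdeal B, algebraMap B F y ∈ maximalIdeal F := by
    intro y hy
    rw [mem_maximalIdeal, mem_nonunits_iff] at hy ⊢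
    exact fun h ↦ hy (isUnit_of_map_unit _ _ h)
  have hmF : ∀ z ∈ maximalIdeal F, ∃ y ∈ maximalIdeal B, algebraMap B F y = z := by
    intro z hz
    obtain ⟨y, rfl⟩ := hF z
    refine ⟨y, ?_, rfl⟩
    rw [mem_maximalIdeal, mem_nonunits_iff] at hz ⊢
    exact fun h ↦ hz (h.map _)
  set sB := algebraMap A B a0 * f with hsB
  have hsB0 : sB ≠ 0 := by
    intro h
    exact hf0 (hf ▸ hann f h)
  -- `a0 • (soc F) ⊆ soc B`
  have hsoc : ∀ f1 : B, (∀ z ∈ maximalIdeal F, z * algebraMap B F f1 = 0) →
      ∀ y ∈ maximalIdeal B, y * (algebraMap A B a0 * f1) = 0 := by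
    intro f1 hf1 y hy
    have h1 := hker (y * f1) (by rw [map_mul]; exact hf1 _ (hmB y hy))
    rw [← h1]; ring
  have hsBm : ∀ y ∈ maximalIdeal B, y * sB = 0 :=
    hsoc f (by rw [hf]; exact hmf)
  constructor
  · intro hB
    obtain ⟨n, hn⟩ := hB.exists_hasInjectiveDimensionLT
    have hB1 := Localalg.GorDepth.hasInjectiveDimensionLT_one _ n hn (fun x hx hreg ↦
      hsB0 (hreg (by
        change x • sB = x • 0
        rw [smul_zero, smul_eq_mul, hsBm x hx])))
    have hB0 := Localalg.GorDepth.krullDimLE_zero hB1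
    have hBart : IsArtinianRing B :=
      isArtinianRing_iff_isNoetherianRing_krullDimLE_zero.2 ⟨inferInstance, hB0⟩
    obtain ⟨σ, hσ, hσ'⟩ := Localalg.GorSocle.exists_socle_generator hB1
    have hgen : ∀ t : B, (∀ y ∈ maximalIdeal B, y * t = 0) → ∃ c, t = c * sB := by
      intro t ht
      obtain ⟨c, hc⟩ := hσ' t ht
      obtain ⟨c0, hc0⟩ := hσ' sB hsBm
      have hu : IsUnit c0 := by
        by_contra hu
        apply hsB0
        rw [hc0]
        exact (socle_of σ hσ).2 c0 ((mem_maximalIdeal _).2 hu)
      obtain ⟨v, rfl⟩ := hu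
      refine ⟨c * ↑v⁻¹, ?_⟩
      rw [hc, hc0, mul_assoc, ← mul_assoc (↑v⁻¹ : B), Units.inv_mul, one_mul]
    constructor
    · -- `A`
      have hinj : Function.Injective (algebraMap A B) := by
        have : Module.FaithfullyFlat A B := Module.FaithfullyFlat.of_flat_of_isLocalHom
        exact FaithfulSMul.algebraMap_injective A B
      have hA0 : Ring.KrullDimLE 0 A := by
        refine (((Ring.krullDimLE_zero_and_isLocalRing_tfae A).out 0 2 rfl rfl).2 ?_).1
        intro x
        constructor
        · intro h hu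
          obtain ⟨n, hn⟩ := h
          exact not_isUnit_zero (hn ▸ hu.pow n)
        · intro h
          have h1 : algebraMap A B x ∈ maximalIdeal B := by
            rw [mem_maximalIdeal, mem_nonunits_iff]
            exact fun h' ↦ h (isUnit_of_map_unit _ _ h')
          obtain ⟨n, hn⟩ := Ring.KrullDimLE.isNilpotent_iff_mem_maximalIdeal.2 h1
          exact ⟨n, hinj (by rw [map_pow, hn, map_zero])⟩
      have hAart : IsArtinianRing A :=
        isArtinianRing_iff_isNoetherianRing_krullDimLE_zero.2 ⟨inferInstance, hA0⟩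
      refine isGorenstein_of_socle a0 hma fun t ht ↦ ?_
      by_contra hcon
      obtain ⟨β, hβ⟩ := hgen (algebraMap A B t * f) (by
        intro y hy
        have h1 : y * f ∈ (maximalIdeal A).map (algebraMap A B) := by
          rw [← hk]
          change algebraMap B F (y * f) = 0
          rw [map_mul, hf]
          exact hmf _ (hmB y hy)
        have h2 : (maximalIdeal A).map (algebraMap A B) ≤
            (Ideal.span {algebraMap A B t}).annihilator := by
          rw [Ideal.map_le_iff_le_comap]
          intro x hx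
          rw [Ideal.mem_comap, Submodule.mem_annihilator_span_singleton, smul_eq_mul, ← map_mul,
            ht x hx, map_zero]
        have h3 := h2 h1
        rw [Submodule.mem_annihilator_span_singleton, smul_eq_mul] at h3
        rw [← h3]; ring)
      have h4 := mem_map_colon a0 t (f * β) f (by rw [hβ, hsB]; ring) (maximalIdeal A) (by
        intro x hx
        rw [mem_maximalIdeal]
        intro hu
        obtain ⟨v, rfl⟩ := hu
        obtain ⟨c, hc⟩ := Ideal.mem_span_singleton.1 hx
        refine hcon ⟨c * ↑v⁻¹, ?_⟩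
        calc t = (t * ↑v) * ↑v⁻¹ := by rw [mul_assoc, Units.mul_inv, mul_one]
          _ = _ := by rw [hc]; ring)
      rw [← hk] at h4
      exact hf0 (hf ▸ h4)
    · -- `F`
      have hFart : IsArtinianRing F := hF.isArtinianRing
      refine isGorenstein_of_socle f0 hmf fun t ht ↦ ?_
      obtain ⟨f1, rfl⟩ := hF t
      obtain ⟨β, hβ⟩ := hgen (algebraMap A B a0 * f1) (hsoc f1 ht)
      refine ⟨algebraMap B F β, ?_⟩
      have h1 := hann (f1 - β * f) (by rw [mul_sub, hβ, hsB]; ring)
      rw [map_sub, map_mul, hf, sub_eq_zero] at h1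
      exact h1
  · rintro ⟨hAG, hFG⟩
    obtain ⟨n, hn⟩ := hAG.exists_hasInjectiveDimensionLT
    have hA1 := Localalg.GorDepth.hasInjectiveDimensionLT_one _ n hn hA
    have hA0 := Localalg.GorDepth.krullDimLE_zero hA1
    obtain ⟨m, hm⟩ := hFG.exists_hasInjectiveDimensionLT
    have hF1 := Localalg.GorDepth.hasInjectiveDimensionLT_one _ m hm hFr
    have hF0 := Localalg.GorDepth.krullDimLE_zero hF1
    have hgenR : ∀ {R : Type u} [CommRing R] [IsLocalRing R] [IsNoetherianRing R]
        (_ : CategoryTheory.HasInjectiveDimensionLT (ModuleCat.of R R) 1) (s : R), s ≠ 0 →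
        (∀ x ∈ maximalIdeal R, x * s = 0) → ∀ t : R, (∀ y ∈ maximalIdeal R, y * t = 0) →
        ∃ c, t = c * s := by
      intro R _ _ _ h1 s hs hsm t ht
      obtain ⟨σ, hσ, hσ'⟩ := Localalg.GorSocle.exists_socle_generator h1
      obtain ⟨c, hc⟩ := hσ' t ht
      obtain ⟨c0, hc0⟩ := hσ' s hsm
      have hu : IsUnit c0 := by
        by_contra hu
        apply hs
        rw [hc0]
        exact (socle_of σ hσ).2 c0 ((mem_maximalIdeal _).2 hu)
      obtain ⟨v, rfl⟩ := hu
      refine ⟨c * ↑v⁻¹, ?_⟩
      rw [hc, hc0, mul_assoc, ← mul_assoc (↑v⁻¹ : R), Units.inv_mul, one_mul]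
    have hB0 : Ring.KrullDimLE 0 B := by
      refine (((Ring.krullDimLE_zero_and_isLocalRing_tfae B).out 0 2 rfl rfl).2 ?_).1
      intro y
      constructor
      · intro h hu
        obtain ⟨n, hn⟩ := h
        exact not_isUnit_zero (hn ▸ hu.pow n)
      · intro h
        have h1 : algebraMap B F y ∈ maximalIdeal F := hmB y ((mem_maximalIdeal _).2 h)
        obtain ⟨N, hN⟩ := Ring.KrullDimLE.isNilpotent_iff_mem_maximalIdeal.2 h1
        rw [← map_pow] at hN
        have h2 : y ^ N ∈ (maximalIdeal A).map (algebraMap A B) := hk ▸ hN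
        have h3 : (maximalIdeal A).map (algebraMap A B) ≤ nilradical B := by
          rw [Ideal.map_le_iff_le_comap]
          intro x hx
          exact (Ring.KrullDimLE.isNilpotent_iff_mem_maximalIdeal.2 hx).map _
        obtain ⟨M, hM⟩ := h3 h2
        exact ⟨N * M, by rw [pow_mul, hM]⟩
    have hBart : IsArtinianRing B :=
      isArtinianRing_iff_isNoetherianRing_krullDimLE_zero.2 ⟨inferInstance, hB0⟩
    refine isGorenstein_of_socle sB hsBm fun t ht ↦ ?_
    obtain ⟨b, hb⟩ := mem_span_of_socle (maximalIdeal A) a0 (hgenR hA1 a0 ha0 hma) t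
      (fun x hx ↦ ht _ (by
        rw [mem_maximalIdeal, mem_nonunits_iff]
        exact fun h' ↦ (mem_maximalIdeal x).1 hx (isUnit_of_map_unit _ _ h')))
    obtain ⟨c, hc⟩ := hgenR hF1 f0 hf0 hmf (algebraMap B F b) (by
      intro z hz
      obtain ⟨y, hy, rfl⟩ := hmF z hz
      rw [← map_mul]
      refine hann _ ?_
      have := ht y hy
      rw [hb] at this
      rw [← this]; ring)
    obtain ⟨c', rfl⟩ := hF c
    refine ⟨c', ?_⟩
    have h5 := hker (b - c' * f) (by rw [map_sub, map_mul, hf, hc, sub_self])
    rw [hb, hsB]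
    linear_combination h5

end base

end Groth.Agent.CalgB.GorFlat
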