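import Mathlib.RingTheory.Henselian
import Mathlib.Algebra.Polynomial.Identities
import Mathlib.Algebra.Algebra.Shrink
import Mathlib.Algebra.Algebra.Subalgebra.Lattice
import Mathlib.Algebra.Algebra.Pi
import Mathlib.RingTheory.Polynomial.Subring
import Mathlib.Algebra.Polynomial.Lifts
import Mathlib.Algebra.Group.Pi.Units
import Mathlib.Algebra.Polynomial.Div
import Mathlib.RingTheory.Ideal.Maps

/-!
# Elementary facts on henselian pairs and the henselization of a pair

Henselian pair = Mathlib's `HenselianRing R I`.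

* `isUnit_add`: unit + element of an ideal inside the Jacobson radical is a unit.
* `root_unique`: uniqueness of simple roots congruent to a given element.
* `henselian_of_le`: `(R, J)` henselian and `J' ≤ J` gives `(R, J')` henselian.
* `henselian_of_ringEquiv`: transfer along a ring isomorphism.
* `henselian_pi`: products.
* `exists_henselization`: the existence of a henselization of a pair `(A, I)`, constructed as the
  smallest "henselian-closed" subalgebra of the product of all henselian pairs over `(A, I)`.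
-/

set_option autoImplicit false

universe u v w

open Polynomial

namespace Groth.Agent.CalgB.HensPair

section Basic

variable {R : Type u} [CommRing R]

lemma isUnit_add {J : Ideal R} (hJ : J ≤ Ideal.jacobson ⊥) {x y : R} (hx : IsUnit x) (hy : y ∈ J) :
    IsUnit (x + y) := by
  obtain ⟨u, rfl⟩ := hx
  have h := Ideal.mem_jacobson_bot.mp (hJ hy) (↑u⁻¹ : R)
  have h2 : (u : R) + y = u * (y * (↑u⁻¹ : R) + 1) := by
    rw [mul_add, mul_one, mul_comm y, ← mul_assoc, Units.mul_inv, one_mul, add_comm]
  rw [h2]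
  exact u.isUnit.mul h

lemma isUnit_of_mk {J : Ideal R} (hJ : J ≤ Ideal.jacobson ⊥) {x : R}
    (hx : IsUnit (Ideal.Quotient.mk J x)) : IsUnit x := by
  have := isLocalHom_of_le_jacobson_bot J hJ
  exact isUnit_of_map_unit (Ideal.Quotient.mk J) x hx

lemma eval_sub_mem {J : Ideal R} (f : R[X]) {x y : R} (h : x - y ∈ J) :
    f.eval x - f.eval y ∈ J :=
  J.mem_of_dvd (_root_.Polynomial.sub_dvd_eval_sub x y f) h

/-- Uniqueness of the root of a polynomial congruent to `a₀` modulo `J` when `f'(a₀)` is a unit. -/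
lemma root_unique {J : Ideal R} (hJ : J ≤ Ideal.jacobson ⊥) (f : R[X]) {a₀ a b : R}
    (hu : IsUnit (f.derivative.eval a₀)) (ha : f.IsRoot a) (hb : f.IsRoot b)
    (haJ : a - a₀ ∈ J) (hbJ : b - a₀ ∈ J) : a = b := by
  have hab : b - a ∈ J := by
    have := J.sub_mem hbJ haJ
    simpa using this
  obtain ⟨k, hk⟩ := binomExpansion f a (b - a)
  rw [add_sub_cancel, ha.eq_zero, hb.eq_zero, zero_add] at hk
  have hu' : IsUnit (f.derivative.eval a) := by
    have h1 := isUnit_add hJ hu (eval_sub_mem f.derivative haJ)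
    simpa using h1
  have hu'' : IsUnit (f.derivative.eval a + (b - a) * k) :=
    isUnit_add hJ hu' (J.mul_mem_right _ hab)
  have h0 : (b - a) * (f.derivative.eval a + (b - a) * k) = 0 := by
    rw [hk]; ring
  have := (hu''.mul_left_eq_zero).mp h0
  exact (sub_eq_zero.mp this).symm

/-- If `f(a) = 0`, `a ≡ a₀` modulo `J` (inside the Jacobson radical) and `f'(a₀)` is a unit then
`a - a₀` is a multiple of `f(a₀)`: precisely `f(a₀) = (a - a₀) * u` with `u` a unit. -/
lemma exists_unit_mul {J : Ideal R} (hJ : J ≤ Ideal.jacobson ⊥) (f : R[X]) {a₀ a : R}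
    (hu : IsUnit (f.derivative.eval a₀)) (ha : f.IsRoot a) (haJ : a - a₀ ∈ J) :
    ∃ u : R, IsUnit u ∧ f.eval a₀ = (a - a₀) * u := by
  obtain ⟨k, hk⟩ := binomExpansion f a₀ (a - a₀)
  rw [add_sub_cancel, ha.eq_zero] at hk
  refine ⟨-(f.derivative.eval a₀ + (a - a₀) * k), ?_, ?_⟩
  · exact (isUnit_add hJ hu (J.mul_mem_right _ haJ)).neg
  · linear_combination -hk

/-- A henselian pair stays henselian for a smaller ideal. -/
lemma henselian_of_le {J J' : Ideal R} (h : HenselianRing R J) (hle : J' ≤ J) :
    HenselianRing R J' where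
  jac := hle.trans h.jac
  is_henselian := by
    intro f hf a₀ h0 hu
    have hu' : IsUnit (f.derivative.eval a₀) := isUnit_of_mk (hle.trans h.jac) hu
    obtain ⟨a, ha, haJ⟩ := h.is_henselian f hf a₀ (hle h0) (hu'.map _)
    refine ⟨a, ha, ?_⟩
    obtain ⟨u, hu, he⟩ := exists_unit_mul h.jac f hu' ha haJ
    obtain ⟨v, rfl⟩ := hu
    have : a - a₀ = f.eval a₀ * (↑v⁻¹ : R) := by
      rw [he, mul_assoc, Units.mul_inv, mul_one]
    rw [this]
    exact J'.mul_mem_right _ h0

/-- Alternative form of the henselian property, with honest units. -/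
lemma exists_root {J : Ideal R} (h : HenselianRing R J) (f : R[X]) (hf : f.Monic) (a₀ : R)
    (h0 : f.eval a₀ ∈ J) (hu : IsUnit (f.derivative.eval a₀)) :
    ∃ a : R, f.IsRoot a ∧ a - a₀ ∈ J :=
  h.is_henselian f hf a₀ h0 (hu.map _)

lemma henselian_mk {J : Ideal R} (hJ : J ≤ Ideal.jacobson ⊥)
    (h : ∀ (f : R[X]), f.Monic → ∀ a₀ : R, f.eval a₀ ∈ J → IsUnit (f.derivative.eval a₀) →
      ∃ a : R, f.IsRoot a ∧ a - a₀ ∈ J) : HenselianRing R J where
  jac := hJ
  is_henselian f hf a₀ h0 hu := h f hf a₀ h0 (isUnit_of_mk hJ hu)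

/-- Transfer of the henselian property along a ring isomorphism. -/
lemma henselian_of_ringEquiv {S : Type v} [CommRing S] (e : R ≃+* S) {J : Ideal R} {J' : Ideal S}
    (h : HenselianRing R J) (hJ : ∀ x, x ∈ J' ↔ e.symm x ∈ J) : HenselianRing S J' := by
  refine henselian_mk ?_ ?_
  · intro x hx
    rw [Ideal.mem_jacobson_bot]
    intro y
    have h1 := Ideal.mem_jacobson_bot.mp (h.jac ((hJ x).mp hx)) (e.symm y)
    have h2 := h1.map e
    simpa using h2
  · intro f hf a₀ h0 hu
    obtain ⟨a, ha, haJ⟩ := exists_root h (f.map e.symm.toRingHom) (hf.map _) (e.symm a₀) (by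
        have : (f.map e.symm.toRingHom).eval (e.symm a₀) = e.symm (f.eval a₀) := by
          have := Polynomial.eval_map_apply e.symm.toRingHom (p := f) a₀
          simpa using this
        rw [this]
        exact (hJ _).mp h0) (by
        have : (f.map e.symm.toRingHom).derivative.eval (e.symm a₀) =
            e.symm (f.derivative.eval a₀) := by
          rw [Polynomial.derivative_map]
          have := Polynomial.eval_map_apply e.symm.toRingHom (p := f.derivative) a₀
          simpa using this
        rw [this]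
        exact hu.map e.symm)
    refine ⟨e a, ?_, ?_⟩
    · have h1 := Polynomial.eval_map_apply e.toRingHom (p := f.map e.symm.toRingHom) a
      rw [Polynomial.map_map] at h1
      have h2 : e.toRingHom.comp e.symm.toRingHom = RingHom.id S := by ext; simp
      rw [h2, Polynomial.map_id] at h1
      rw [Polynomial.IsRoot.def]
      have h3 : e.toRingHom a = e a := rfl
      rw [h3] at h1
      rw [h1, ha.eq_zero, map_zero]
    · rw [hJ]; simpa using haJ

/-- Products of henselian pairs. -/
lemma henselian_pi {ι : Type v} (C : ι → Type w) [∀ i, CommRing (C i)] (J : ∀ i, Ideal (C i))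
    (h : ∀ i, HenselianRing (C i) (J i)) :
    HenselianRing (∀ i, C i) (⨅ i, (J i).comap (Pi.evalRingHom C i)) := by
  have hmem : ∀ x : (∀ i, C i), x ∈ (⨅ i, (J i).comap (Pi.evalRingHom C i)) ↔ ∀ i, x i ∈ J i := by
    intro x
    simp
  refine henselian_mk ?_ ?_
  · intro x hx
    rw [hmem] at hx
    rw [Ideal.mem_jacobson_bot]
    intro y
    rw [Pi.isUnit_iff]
    intro i
    exact Ideal.mem_jacobson_bot.mp ((h i).jac (hx i)) (y i)
  · intro f hf a₀ h0 hu
    rw [hmem] at h0
    have hev : ∀ (g : (∀ i, C i)[X]) (a : ∀ i, C i) (i : ι),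
        (g.map (Pi.evalRingHom C i)).eval (a i) = g.eval a i := fun g a i =>
      Polynomial.eval_map_apply (Pi.evalRingHom C i) (p := g) a
    have key : ∀ i, ∃ a : C i, (f.map (Pi.evalRingHom C i)).IsRoot a ∧ a - a₀ i ∈ J i := by
      intro i
      refine exists_root (h i) _ (hf.map _) (a₀ i) ?_ ?_
      · rw [hev]; exact h0 i
      · rw [Polynomial.derivative_map, hev]
        exact (Pi.isUnit_iff.mp hu) i
    choose a ha haJ using key
    refine ⟨a, ?_, (hmem _).mpr haJ⟩
    rw [Polynomial.IsRoot.def]
    funext i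
    rw [← hev]
    exact ha i

end Basic

section Closed

variable {A : Type u} [CommRing A] (I : Ideal A) {R : Type v} [CommRing R] [Algebra A R]

/-- A subalgebra of a henselian pair over `(A, I)` closed under inverses and under henselian roots. -/
structure IsClosedSub (E : Subalgebra A R) : Prop where
  inv : ∀ x ∈ E, ∀ y : R, x * y = 1 → y ∈ E
  root : ∀ f : R[X], f.Monic → (∀ n, f.coeff n ∈ E) → ∀ a₀ ∈ E,
    f.eval a₀ ∈ I • Subalgebra.toSubmodule E → IsUnit (f.derivative.eval a₀) →
    ∀ a : R, f.IsRoot a → a - a₀ ∈ I.map (algebraMap A R) → a ∈ E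

lemma isClosedSub_sInf (S : Set (Subalgebra A R)) (h : ∀ E ∈ S, IsClosedSub I E) :
    IsClosedSub I (sInf S) where
  inv x hx y hxy := by
    rw [Algebra.mem_sInf] at hx ⊢
    exact fun E hE => (h E hE).inv x (hx E hE) y hxy
  root f hf hc a₀ ha₀ h0 hu a ha haJ := by
    simp only [Algebra.mem_sInf] at hc ha₀ ⊢
    refine fun E hE => (h E hE).root f hf (fun n => hc n E hE) a₀ (ha₀ E hE) ?_ hu a ha haJ
    have hle : sInf S ≤ E := sInf_le hE
    exact smul_mono_right I (show Subalgebra.toSubmodule (sInf S) ≤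
      Subalgebra.toSubmodule E from hle) h0

variable {I}

lemma mem_smul_iff (E : Subalgebra A R) (x : E) :
    (x : R) ∈ I • Subalgebra.toSubmodule E ↔ x ∈ I.map (algebraMap A E) := by
  have h1 : I • Subalgebra.toSubmodule E = (I • (⊤ : Submodule A E)).map E.val.toLinearMap := by
    rw [Submodule.map_smul'']
    congr 1
    ext y
    simp
  have h2 : x ∈ I.map (algebraMap A E) ↔ x ∈ I • (⊤ : Submodule A E) := by
    rw [Ideal.smul_top_eq_map]; rfl
  rw [h1, h2]
  constructor
  · rintro ⟨y, hy, hxy⟩
    have : y = x := Subtype.ext hxy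
    exact this ▸ hy
  · intro h
    exact ⟨x, h, rfl⟩

lemma map_mem {S : Type w} [CommRing S] [Algebra A S] (g : R →ₐ[A] S) {x : R}
    (hx : x ∈ I.map (algebraMap A R)) : g x ∈ I.map (algebraMap A S) := by
  have : (I.map (algebraMap A R)).map g.toRingHom = I.map (algebraMap A S) := by
    rw [Ideal.map_map]
    congr 1
    exact g.comp_algebraMap
  rw [← this]
  exact Ideal.mem_map_of_mem g.toRingHom hx

/-- A unit of `R` lying in a closed subalgebra is a unit there. -/
lemma isUnit_of_closed {E : Subalgebra A R} (hE : IsClosedSub I E) (x : E)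
    (hx : IsUnit (x : R)) : IsUnit x := by
  obtain ⟨y, hy⟩ := isUnit_iff_exists_inv.mp hx
  exact isUnit_iff_exists_inv.mpr ⟨⟨y, hE.inv x x.2 y hy⟩, Subtype.ext hy⟩

lemma jac_of_closed (hR : I.map (algebraMap A R) ≤ Ideal.jacobson ⊥)
    {E : Subalgebra A R} (hE : IsClosedSub I E) :
    I.map (algebraMap A E) ≤ Ideal.jacobson ⊥ := by
  intro x hx
  rw [Ideal.mem_jacobson_bot]
  intro y
  refine isUnit_of_closed hE _ ?_
  have hx' : (x : R) ∈ I.map (algebraMap A R) := map_mem E.val hx
  have := Ideal.mem_jacobson_bot.mp (hR hx') (y : R)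
  simpa using this

/-- A closed subalgebra of a henselian pair is a henselian pair. -/
lemma henselian_of_closed (hR : HenselianRing R (I.map (algebraMap A R)))
    {E : Subalgebra A R} (hE : IsClosedSub I E) : HenselianRing E (I.map (algebraMap A E)) := by
  have hjac := jac_of_closed hR.jac hE
  refine henselian_mk hjac ?_
  intro f hf a₀ h0 hu
  have hev : ∀ (g : E[X]) (a : E), (g.map (algebraMap E R)).eval (a : R) = ((g.eval a : E) : R) :=
    fun g a => Polynomial.eval_map_apply (algebraMap E R) (p := g) a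
  have hu' : IsUnit ((f.map (algebraMap E R)).derivative.eval (a₀ : R)) := by
    rw [Polynomial.derivative_map, hev]
    exact hu.map (algebraMap E R)
  obtain ⟨a, ha, haJ⟩ := exists_root hR (f.map (algebraMap E R)) (hf.map _) (a₀ : R)
    (by rw [hev]; exact map_mem E.val h0) hu'
  have haE : a ∈ E := by
    refine hE.root _ (hf.map _) ?_ (a₀ : R) a₀.2 ?_ hu' a ha haJ
    · intro n
      rw [Polynomial.coeff_map]
      exact (f.coeff n).2
    · rw [hev]
      exact (mem_smul_iff E _).mpr h0
  refine ⟨⟨a, haE⟩, ?_, ?_⟩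
  · rw [Polynomial.IsRoot.def]
    apply Subtype.ext
    rw [← hev]
    exact ha
  · obtain ⟨k, hk⟩ := binomExpansion f a₀ (⟨a, haE⟩ - a₀)
    have hroot : f.eval ⟨a, haE⟩ = 0 := by
      apply Subtype.ext
      rw [← hev]
      exact ha
    rw [add_sub_cancel, hroot] at hk
    -- the unit `f'(a₀) + (a - a₀) k` of `R`
    have hunit : IsUnit (f.derivative.eval a₀ + (⟨a, haE⟩ - a₀) * k) := by
      refine isUnit_of_closed hE _ ?_
      have h1 : IsUnit ((f.derivative.eval a₀ : E) : R) := hu.map (algebraMap E R)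
      have h2 : ((⟨a, haE⟩ - a₀ : E) : R) * (k : R) ∈ I.map (algebraMap A R) :=
        Ideal.mul_mem_right _ _ haJ
      exact isUnit_add hR.jac h1 h2
    obtain ⟨v, hv⟩ := hunit
    have h3 : (⟨a, haE⟩ - a₀ : E) * v = - f.eval a₀ := by
      rw [hv]
      linear_combination -hk
    have h4 : (⟨a, haE⟩ - a₀ : E) = - f.eval a₀ * (↑v⁻¹ : E) := by
      rw [← h3, mul_assoc, Units.mul_inv, mul_one]
    rw [h4]
    exact Ideal.mul_mem_right _ _ (neg_mem h0)

end Closed

section Terms

/-- Terms used to bound the size of the smallest closed subalgebra. -/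
inductive Tm (A : Type u) : Type u
  | of : A → Tm A
  | add : Tm A → Tm A → Tm A
  | mul : Tm A → Tm A → Tm A
  | inv : Tm A → Tm A
  | root : (n : ℕ) → (Fin n → Tm A) → Tm A → Tm A

variable {A : Type u} [CommRing A] (I : Ideal A) (R : Type v) [CommRing R] [Algebra A R]

open scoped Classical in
/-- Evaluation of terms. -/
noncomputable def ev : Tm A → R
  | .of a => algebraMap A R a
  | .add s t => ev s + ev t
  | .mul s t => ev s * ev t
  | .inv s => if h : ∃ y : R, ev s * y = 1 then h.choose else 0
  | .root n c s => if h : ∃ a : R, ((X : R[X]) ^ n + ∑ i : Fin n, C (ev (c i)) * X ^ (i : ℕ)).IsRoot a ∧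
      a - ev s ∈ I.map (algebraMap A R) then h.choose else 0

/-- The subalgebra of values of terms. -/
noncomputable def evSub : Subalgebra A R where
  carrier := Set.range (ev I R)
  mul_mem' := by
    rintro _ _ ⟨s, rfl⟩ ⟨t, rfl⟩
    exact ⟨.mul s t, by rw [ev]⟩
  add_mem' := by
    rintro _ _ ⟨s, rfl⟩ ⟨t, rfl⟩
    exact ⟨.add s t, by rw [ev]⟩
  algebraMap_mem' a := ⟨.of a, by rw [ev]⟩

lemma evSub_closed (hR : I.map (algebraMap A R) ≤ Ideal.jacobson ⊥) :
    IsClosedSub I (evSub I R) where
  inv := by
    rintro _ ⟨s, rfl⟩ y hy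
    have hex : ∃ y : R, ev I R s * y = 1 := ⟨y, hy⟩
    refine ⟨.inv s, ?_⟩
    rw [ev, dif_pos hex]
    have h1 := hex.choose_spec
    calc hex.choose = hex.choose * (ev I R s * y) := by rw [hy, mul_one]
      _ = (ev I R s * hex.choose) * y := by ring
      _ = y := by rw [h1, one_mul]
  root := by
    rintro f hf hc _ ⟨s, rfl⟩ h0 hu a ha haJ
    choose c hc using hc
    have hfe : (X : R[X]) ^ f.natDegree +
        ∑ i : Fin f.natDegree, C (ev I R (c i)) * X ^ (i : ℕ) = f := by
      conv_rhs => rw [hf.as_sum]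
      rw [Finset.sum_range]
      congr 1
      refine Finset.sum_congr rfl fun i _ => ?_
      rw [hc]
    have hex : ∃ a : R, ((X : R[X]) ^ f.natDegree +
        ∑ i : Fin f.natDegree, C (ev I R (c i)) * X ^ (i : ℕ)).IsRoot a ∧
        a - ev I R s ∈ I.map (algebraMap A R) := ⟨a, by rw [hfe]; exact ha, haJ⟩
    refine ⟨.root f.natDegree (fun i => c i) s, ?_⟩
    rw [ev, dif_pos hex]
    have h1 := hex.choose_spec
    refine root_unique hR f hu ?_ ha h1.2 haJ
    exact (congrArg (fun p : R[X] => p.IsRoot hex.choose) hfe).mp h1.1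

end Terms

section Henselization

variable (A : Type u) [CommRing A] (I : Ideal A)

/-- Henselian pairs `(C, IC)` over `(A, I)` in the universe of `A`. -/
structure Obj : Type (u + 1) where
  carrier : Type u
  [ring : CommRing carrier]
  [alg : Algebra A carrier]
  hens : HenselianRing carrier (I.map (algebraMap A carrier))

attribute [instance] Obj.ring Obj.alg

/-- The product of all henselian pairs over `(A, I)`. -/
abbrev Big : Type (u + 1) := ∀ C : Obj A I, C.carrier

lemma henselian_big : HenselianRing (Big A I) (I.map (algebraMap A (Big A I))) := by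
  refine henselian_of_le (henselian_pi (fun C : Obj A I => C.carrier)
    (fun C => I.map (algebraMap A C.carrier)) (fun C => C.hens)) ?_
  rw [Ideal.map_le_iff_le_comap]
  intro x hx
  rw [Ideal.mem_comap, Ideal.mem_iInf]
  intro C
  exact Ideal.mem_map_of_mem _ hx

/-- The smallest closed subalgebra of the big product. -/
noncomputable def hSub : Subalgebra A (Big A I) :=
  sInf {E | IsClosedSub I E}

lemma hSub_closed : IsClosedSub I (hSub A I) :=
  isClosedSub_sInf I _ fun _ h => h

lemma hSub_le {E : Subalgebra A (Big A I)} (h : IsClosedSub I E) : hSub A I ≤ E :=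
  sInf_le h

instance hSub_small : Small.{u} (hSub A I) := by
  have h1 : Small.{u} (Set.range (ev I (Big A I))) := small_range _
  have h2 : ((hSub A I : Subalgebra A (Big A I)) : Set (Big A I)) ⊆ Set.range (ev I (Big A I)) :=
    hSub_le A I (evSub_closed I (Big A I) (henselian_big A I).jac)
  exact small_subset h2

/-- The henselization of the pair `(A, I)`. -/
def Hz : Type u := Shrink.{u} (hSub A I)

noncomputable instance : CommRing (Hz A I) := inferInstanceAs (CommRing (Shrink.{u} (hSub A I)))

noncomputable instance : Algebra A (Hz A I) :=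
  inferInstanceAs (Algebra A (Shrink.{u} (hSub A I)))

/-- The isomorphism with the smallest closed subalgebra. -/
noncomputable def hzEquiv : Hz A I ≃ₐ[A] hSub A I := Shrink.algEquiv A (hSub A I)

lemma henselian_hz : HenselianRing (Hz A I) (I.map (algebraMap A (Hz A I))) := by
  refine henselian_of_ringEquiv (hzEquiv A I).symm.toRingEquiv
    (henselian_of_closed (henselian_big A I) (hSub_closed A I)) ?_
  intro x
  constructor
  · intro hx
    exact map_mem (hzEquiv A I).toAlgHom hx
  · intro hx
    have := map_mem (hzEquiv A I).symm.toAlgHom hx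
    simpa using this

/-- The projection to a henselian pair over `(A, I)`. -/
noncomputable def hzMap (C : Obj A I) : Hz A I →ₐ[A] C.carrier :=
  (Pi.evalAlgHom A (fun C : Obj A I => C.carrier) C).comp
    ((hSub A I).val.comp (hzEquiv A I).toAlgHom)

lemma hom_ext_aux (C : Type w) [CommRing C] [Algebra A C]
    (hC : HenselianRing C (I.map (algebraMap A C))) (g h : hSub A I →ₐ[A] C) : g = h := by
  have hcl : IsClosedSub I ((AlgHom.equalizer g h).map (hSub A I).val) := by
    have hmem : ∀ x : Big A I, x ∈ (AlgHom.equalizer g h).map (hSub A I).val ↔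
        ∃ hx : x ∈ hSub A I, g ⟨x, hx⟩ = h ⟨x, hx⟩ := by
      intro x
      constructor
      · rintro ⟨y, hy, rfl⟩
        exact ⟨y.2, hy⟩
      · rintro ⟨hx, hy⟩
        exact ⟨⟨x, hx⟩, hy, rfl⟩
    have hle : (AlgHom.equalizer g h).map (hSub A I).val ≤ hSub A I := by
      intro x hx
      exact ((hmem x).mp hx).1
    refine ⟨?_, ?_⟩
    · intro x hx y hxy
      rw [hmem] at hx ⊢
      obtain ⟨hx, hgh⟩ := hx
      have hy : y ∈ hSub A I := (hSub_closed A I).inv x hx y hxy
      refine ⟨hy, ?_⟩
      have h1 : (⟨x, hx⟩ : hSub A I) * ⟨y, hy⟩ = 1 := Subtype.ext hxy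
      have h2 : g ⟨x, hx⟩ * g ⟨y, hy⟩ = 1 := by rw [← map_mul, h1, map_one]
      have h3 : h ⟨x, hx⟩ * h ⟨y, hy⟩ = 1 := by rw [← map_mul, h1, map_one]
      calc g ⟨y, hy⟩ = g ⟨y, hy⟩ * (h ⟨x, hx⟩ * h ⟨y, hy⟩) := by rw [h3, mul_one]
        _ = (g ⟨x, hx⟩ * g ⟨y, hy⟩) * h ⟨y, hy⟩ := by rw [← hgh]; ring
        _ = h ⟨y, hy⟩ := by rw [h2, one_mul]
    · intro f hf hc a₀ ha₀ h0 hu a ha haJ
      have h0' : f.eval a₀ ∈ I • Subalgebra.toSubmodule (hSub A I) :=
        smul_mono_right I (show Subalgebra.toSubmodule _ ≤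
          Subalgebra.toSubmodule (hSub A I) from hle) h0
      have haB : a ∈ hSub A I := (hSub_closed A I).root f hf (fun n => hle (hc n)) a₀ (hle ha₀)
        h0' hu a ha haJ
      obtain ⟨ha₀B, hgh₀⟩ := (hmem a₀).mp ha₀
      rw [hmem]
      refine ⟨haB, ?_⟩
      -- lift `f`
      have hlift : f ∈ Polynomial.lifts (algebraMap (hSub A I) (Big A I)) := by
        rw [Polynomial.lifts_iff_coeff_lifts]
        intro n
        exact ⟨⟨f.coeff n, hle (hc n)⟩, rfl⟩
      obtain ⟨F, hF⟩ := (Polynomial.mem_lifts _).mp hlift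
      have hinj : Function.Injective (algebraMap (hSub A I) (Big A I)) := Subtype.val_injective
      have hFm : F.Monic := by
        have : (F.map (algebraMap (hSub A I) (Big A I))).Monic := by rw [hF]; exact hf
        exact Polynomial.monic_of_injective hinj this
      have hev : ∀ (g : (hSub A I)[X]) (a : hSub A I),
          (g.map (algebraMap (hSub A I) (Big A I))).eval (a : Big A I) =
            ((g.eval a : hSub A I) : Big A I) :=
        fun g a => Polynomial.eval_map_apply (algebraMap (hSub A I) (Big A I)) (p := g) a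
      have hFu : IsUnit (F.derivative.eval ⟨a₀, ha₀B⟩) := by
        refine isUnit_of_closed (hSub_closed A I) _ ?_
        rw [← hev, ← Polynomial.derivative_map, hF]
        exact hu
      have hF0 : F.eval ⟨a₀, ha₀B⟩ ∈ I.map (algebraMap A (hSub A I)) := by
        rw [← mem_smul_iff, ← hev, hF]
        exact h0'
      have hFa : F.IsRoot ⟨a, haB⟩ := by
        rw [Polynomial.IsRoot.def]
        apply Subtype.ext
        rw [← hev, hF]
        exact ha
      obtain ⟨a', ha', haJ'⟩ := exists_root (henselian_of_closed (henselian_big A I)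
        (hSub_closed A I)) F hFm ⟨a₀, ha₀B⟩ hF0 hFu
      have haa' : a' = ⟨a, haB⟩ := by
        apply Subtype.ext
        refine root_unique (henselian_big A I).jac f hu ?_ ha ?_ haJ
        · rw [Polynomial.IsRoot.def, ← hF, hev, ha'.eq_zero]; rfl
        · exact map_mem (hSub A I).val haJ'
      rw [haa'] at haJ'
      have hevg : ∀ (g : hSub A I →ₐ[A] C) (p : (hSub A I)[X]) (a : hSub A I),
          (p.map g.toRingHom).eval (g a) = g (p.eval a) :=
        fun g p a => Polynomial.eval_map_apply g.toRingHom (p := p) a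
      have hgF : F.map g.toRingHom = F.map h.toRingHom := by
        ext n
        rw [Polynomial.coeff_map, Polynomial.coeff_map]
        obtain ⟨h1, h2⟩ := (hmem (f.coeff n)).mp (hc n)
        have h3 : F.coeff n = ⟨f.coeff n, h1⟩ := by
          apply Subtype.ext
          have := congrArg (fun p => Polynomial.coeff p n) hF
          simpa [Polynomial.coeff_map] using this
        rw [h3]
        exact h2
      refine root_unique (J := I.map (algebraMap A C)) hC.jac (F.map g.toRingHom)
        (a₀ := g ⟨a₀, ha₀B⟩) ?_ ?_ ?_ ?_ ?_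
      · rw [Polynomial.derivative_map, hevg]
        exact hFu.map g
      · rw [Polynomial.IsRoot.def, hevg, hFa.eq_zero, map_zero]
      · rw [Polynomial.IsRoot.def, hgF, hevg, hFa.eq_zero, map_zero]
      · rw [← map_sub]
        exact map_mem g haJ'
      · rw [hgh₀, ← map_sub]
        exact map_mem h haJ'
  have hall := hSub_le A I hcl
  ext x
  obtain ⟨y, hy, hyx⟩ := hall x.2
  have : y = x := Subtype.ext hyx
  rw [← this]
  exact hy

/-- Uniqueness of maps out of the henselization. -/
lemma hom_ext (C : Type w) [CommRing C] [Algebra A C]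
    (hC : HenselianRing C (I.map (algebraMap A C))) (g h : Hz A I →ₐ[A] C) : g = h := by
  have := hom_ext_aux A I C hC (g.comp (hzEquiv A I).symm.toAlgHom)
    (h.comp (hzEquiv A I).symm.toAlgHom)
  ext x
  have h2 := DFunLike.congr_fun this (hzEquiv A I x)
  simpa using h2

/-- Existence of the henselization of a pair. -/
theorem exists_henselization :
    ∃ (Ah : Type u) (_ : CommRing Ah) (_ : Algebra A Ah),
      HenselianRing Ah (I.map (algebraMap A Ah)) ∧
      ∀ (C : Type u) [CommRing C] (J : Ideal C) (f : A →+* C), HenselianRing C J → I.map f ≤ J →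
        ∃! g : Ah →+* C, g.comp (algebraMap A Ah) = f := by
  refine ⟨Hz A I, inferInstance, inferInstance, henselian_hz A I, ?_⟩
  intro C _ J f hC hle
  let _ : Algebra A C := f.toAlgebra
  have hC' : HenselianRing C (I.map (algebraMap A C)) := henselian_of_le hC hle
  refine ⟨(hzMap A I ⟨C, hC'⟩).toRingHom, ?_, ?_⟩
  · exact (hzMap A I ⟨C, hC'⟩).comp_algebraMap
  · intro g hg
    have h1 : ∀ a, g (algebraMap A (Hz A I) a) = algebraMap A C a := fun a =>
      DFunLike.congr_fun hg a
    have := hom_ext A I C hC' { toRingHom := g, commutes' := h1 } (hzMap A I ⟨C, hC'⟩)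
    rw [← this]

end Henselization

end Groth.Agent.CalgB.HensPair
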