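import Groth.Agent.CalgB.JacRank
import Groth.Agent.CalgA.RegBasic

/-!
# Formal smoothness over `k` of a quotient of a smooth regular local ring, via dimensions
-/

set_option autoImplicit false

open IsLocalRing TensorProduct KaehlerDifferential Module
open Groth.Agent.CalgB.RegQuot Groth.Agent.CalgB.JacRank

namespace Groth.Agent.CalgB.JacDim

universe u

variable {k P A : Type u} [CommRing k] [CommRing P] [CommRing A] [Algebra k P] [Algebra P A]
    [Algebra k A] [IsScalarTower k P A] [IsLocalRing A]

omit [Algebra k P] [Algebra k A] [IsScalarTower k P A] in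
theorem mem_maximalIdeal_of_algebraMap_eq_zero [IsLocalRing P] (x : P) (hx : algebraMap P A x = 0) :
    x ∈ maximalIdeal P := by
  by_contra hu
  have hu' : IsUnit x := by simpa using hu
  have := hu'.map (algebraMap P A)
  rw [hx] at this
  exact not_isUnit_zero this

/-- If `A = P/I` is formally smooth over `k`, then `dim P + dim_κ (κ ⊗ Ω[A⁄k]) ≤ dim A + rank Ω[P⁄k]`. -/
theorem dim_le_of_formallySmooth [IsLocalRing P] [IsNoetherianRing P]
    (hs : Function.Surjective (algebraMap P A)) [Algebra.FormallySmooth k P]
    [Module.Free P Ω[P⁄k]] [Module.Finite P Ω[P⁄k]] [Algebra.FormallySmooth k A] :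
    ringKrullDim P + (Module.finrank (ResidueField A) (ResidueField A ⊗[A] Ω[A⁄k]) : ℕ) ≤
      ringKrullDim A + (Module.finrank P Ω[P⁄k] : ℕ) := by
  have hinj := (Algebra.FormallySmooth.iff_injective_cotangentComplexBaseChange_residueField
    (R := k) (S := A) P hs (IsNoetherian.noetherian _)).1 inferInstance
  obtain ⟨f, hf⟩ := exists_generators hs
  have hsum := finrank_range_add (k := k) hs
  rw [LinearMap.finrank_range_of_inj hinj] at hsum
  have hloc : IsLocalHom (algebraMap P A) := IsLocalHom.of_surjective _ hs
  have h1 := ringKrullDim_le_quotient_add_card (fun i => (f i : P)) (fun i =>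
    mem_maximalIdeal_of_algebraMap_eq_zero (A := A) _ (f i).2)
  rw [← hf, Nat.card_eq_fintype_card, Fintype.card_fin] at h1
  have h2 : ringKrullDim (P ⧸ RingHom.ker (algebraMap P A)) = ringKrullDim A :=
    ringKrullDim_eq_of_ringEquiv (RingHom.quotientKerEquivOfSurjective hs)
  rw [h2] at h1
  rw [← hsum]
  push_cast
  rw [← add_assoc]
  gcongr

/-- The kernel is generated by `c` elements as soon as there are `c` elements of it with linearly independent
differentials and `dim A ≥ dim P - c`, for `P` regular. -/
theorem ker_eq_span_of_dim_le [IsRegularLocalRing P]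
    (hs : Function.Surjective (algebraMap P A)) {c : ℕ} (f : Fin c → P)
    (hf : ∀ i, algebraMap P A (f i) = 0)
    (hind : LinearIndependent (ResidueField A)
        (fun i => (1 : ResidueField A) ⊗ₜ[P] KaehlerDifferential.D k P (f i)))
    (hle : ringKrullDim P ≤ ringKrullDim A + (c : ℕ)) :
    RingHom.ker (algebraMap P A) = Ideal.span (Set.range f) := by
  have hloc : IsLocalHom (algebraMap P A) := IsLocalHom.of_surjective _ hs
  have hkerκ : ∀ a ∈ maximalIdeal P, algebraMap P (ResidueField A) a = 0 := by
    intro a ha
    rw [IsScalarTower.algebraMap_apply P A (ResidueField A)]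
    change residue A _ = 0
    rw [residue_eq_zero_iff]
    exact map_nonunit _ a ha
  let Θ : Derivation k P (ResidueField A ⊗[P] Ω[P⁄k]) :=
    LinearMap.compDer (TensorProduct.mk P (ResidueField A) Ω[P⁄k] 1) (KaehlerDifferential.D k P)
  have hm : ∀ i, f i ∈ maximalIdeal P := fun i => mem_maximalIdeal_of_algebraMap_eq_zero _ (hf i)
  obtain ⟨hreg, hdim⟩ := isRegularLocalRing_quotient f hm
    (fun e he i => mem_maximalIdeal_of_linearIndependent_derivation (K := ResidueField A) hkerκ Θ
      f hm hind e he i)
  have hIle : Ideal.span (Set.range f) ≤ RingHom.ker (algebraMap P A) := by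
    rw [Ideal.span_le]; rintro _ ⟨i, rfl⟩; exact hf i
  generalize Ideal.span (Set.range f) = I at *
  rw [Nat.card_eq_fintype_card, Fintype.card_fin] at hdim
  have hdom : IsDomain (P ⧸ I) := Groth.Agent.CalgA.RegBasic.isDomain _
  let φ : P ⧸ I →+* A := Ideal.Quotient.lift I (algebraMap P A) hIle
  have hφ : Function.Surjective φ := Ideal.Quotient.lift_surjective_of_surjective I hIle hs
  have hφi : Function.Injective φ := by
    rw [injective_iff_map_eq_zero]
    intro r hr
    by_contra hr0
    have h1 := ringKrullDim_succ_le_of_surjective φ hφ (mem_nonZeroDivisors_of_ne_zero hr0) hr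
    rw [← hdim] at hle
    have hle' : ringKrullDim (P ⧸ I) ≤ ringKrullDim A :=
      ENat.WithBot.add_le_add_natCast_right_iff.1 hle
    have hA : IsNoetherianRing A := isNoetherianRing_of_surjective P A _ hs
    obtain ⟨a, ha⟩ := Groth.Agent.CalgA.RegBasic.ringKrullDim_eq_natCast A
    have h2 := h1.trans hle'
    rw [ha] at h2
    have h3 : a + 1 ≤ a := by exact_mod_cast h2
    omega
  apply le_antisymm _ hIle
  intro x hx
  rw [← Ideal.Quotient.eq_zero_iff_mem]
  apply hφi
  rw [map_zero]
  exact hx

/-- Converse for `P` regular. -/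
theorem formallySmooth_of_dim_le [IsRegularLocalRing P]
    (hs : Function.Surjective (algebraMap P A)) [Algebra.FormallySmooth k P]
    [Module.Free P Ω[P⁄k]] [Module.Finite P Ω[P⁄k]]
    (h : ringKrullDim P + (Module.finrank (ResidueField A) (ResidueField A ⊗[A] Ω[A⁄k]) : ℕ) ≤
      ringKrullDim A + (Module.finrank P Ω[P⁄k] : ℕ)) : Algebra.FormallySmooth k A := by
  have hsum := finrank_range_add (k := k) hs
  obtain ⟨f, hf⟩ := exists_independent (k := k) hs
  have hker := ker_eq_span_of_dim_le (k := k) hs (fun i => (f i : P)) (fun i => (f i).2) hf (by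
    rw [← hsum] at h
    push_cast at h
    rw [← add_assoc] at h
    exact ENat.WithBot.add_le_add_natCast_right_iff.1 h)
  rw [Algebra.FormallySmooth.iff_injective_cotangentComplexBaseChange_residueField
    (R := k) (S := A) P hs (IsNoetherian.noetherian _)]
  have hκ : Function.Surjective (algebraMap P (ResidueField A)) := by
    rw [IsScalarTower.algebraMap_eq P A (ResidueField A)]
    exact residue_surjective.comp hs
  have : Module.Finite P (RingHom.ker (algebraMap P A)) := inferInstance
  -- the source is spanned by the `f i`
  have hspan : Submodule.span (ResidueField A)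
      (Set.range fun i => (1 : ResidueField A) ⊗ₜ[P] (f i)) = ⊤ := by
    rw [eq_top_iff]
    intro y _
    obtain ⟨x, rfl⟩ := TensorProduct.mk_surjective P (RingHom.ker (algebraMap P A))
      (ResidueField A) hκ y
    have hx : (x : P) ∈ Ideal.span (Set.range fun i => (f i : P)) := by
      rw [← hker]; exact x.2
    obtain ⟨e, he⟩ := (Submodule.mem_span_range_iff_exists_fun P).1 hx
    have hx' : x = ∑ i, e i • f i := by
      ext
      rw [← he]
      simp
    rw [hx']
    rw [map_sum]
    refine Submodule.sum_mem _ fun i _ => ?_
    rw [map_smul, ← algebraMap_smul (ResidueField A)]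
    exact Submodule.smul_mem _ _ (Submodule.subset_span ⟨i, rfl⟩)
  have hfin : Module.finrank (ResidueField A) (ResidueField A ⊗[P] RingHom.ker (algebraMap P A)) ≤
      Module.finrank (ResidueField A)
        (LinearMap.range (cotangentComplexBaseChange k A P (ResidueField A))) := by
    rw [← finrank_top, ← hspan]
    refine (finrank_range_le_card _).trans ?_
    simp
  have h2 := LinearMap.finrank_range_add_finrank_ker
    (cotangentComplexBaseChange k A P (ResidueField A))
  rw [← LinearMap.ker_eq_bot, ← Submodule.finrank_eq_zero (R := ResidueField A)]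
  omega

end Groth.Agent.CalgB.JacDim
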