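import Groth.Agent.CalgB.RegQuot
import Mathlib.RingTheory.Smooth.Local
import Mathlib.RingTheory.Kaehler.Polynomial
import Mathlib.RingTheory.Etale.Kaehler
import Mathlib.RingTheory.KrullDimension.NonZeroDivisors

/-!
# Jacobian rank, number of equations and formal smoothness

Setting: `k → P → A` with `P → A` a surjection of local rings, `P` Noetherian and formally smooth over `k`
with `Ω[P⁄k]` finite free of rank `n`, `I = ker (P → A)`, `κ` the residue field of `A`,
`d = dim_κ (κ ⊗ Ω[A⁄k])`.
-/

set_option autoImplicit false

open IsLocalRing TensorProduct KaehlerDifferential Module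

namespace Groth.Agent.CalgB.JacRank

universe u

/-- The kernel of `M → K ⊗ M` for `P → K` surjective. -/
theorem mem_smul_top_of_one_tmul_eq_zero {P K M : Type*} [CommRing P] [CommRing K] [Algebra P K]
    [AddCommGroup M] [Module P M] (hs : Function.Surjective (algebraMap P K)) (x : M)
    (hx : (1 : K) ⊗ₜ[P] x = 0) :
    x ∈ (RingHom.ker (algebraMap P K)) • (⊤ : Submodule P M) := by
  let I := RingHom.ker (algebraMap P K)
  let e : (P ⧸ I) ≃ₐ[P] K := Ideal.quotientKerAlgEquivOfSurjective (f := Algebra.ofId P K) hs
  have h1 : (1 : P ⧸ I) ⊗ₜ[P] x = 0 := by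
    have := congrArg (TensorProduct.congr e.symm.toLinearEquiv (LinearEquiv.refl P M)) hx
    simpa using this
  have h2 := congrArg (TensorProduct.quotTensorEquivQuotSMul M I) h1
  rw [map_zero] at h2
  have h3 : (TensorProduct.quotTensorEquivQuotSMul M I) ((1 : P ⧸ I) ⊗ₜ[P] x) =
      Submodule.Quotient.mk x := by
    have := TensorProduct.quotTensorEquivQuotSMul_mk_tmul (M := M) I 1 x
    simp
  rw [h3] at h2
  exact (Submodule.Quotient.mk_eq_zero _).1 h2

variable {k P A : Type u} [CommRing k] [CommRing P] [CommRing A] [Algebra k P] [Algebra P A]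
    [Algebra k A] [IsScalarTower k P A] [IsLocalRing P] [IsNoetherianRing P] [IsLocalRing A]

omit [IsLocalRing P] [IsNoetherianRing P] [IsLocalRing A] in
theorem finrank_range_equiv_comp {K V W V' W' : Type*} [Field K] [AddCommGroup V] [Module K V]
    [AddCommGroup W] [Module K W] [AddCommGroup V'] [Module K V'] [AddCommGroup W'] [Module K W']
    (e₂ : W ≃ₗ[K] W') (f : V →ₗ[K] W) (e₁ : V' ≃ₗ[K] V) :
    Module.finrank K (LinearMap.range ((e₂ : W →ₗ[K] W') ∘ₗ f ∘ₗ (e₁ : V' →ₗ[K] V))) =
      Module.finrank K (LinearMap.range f) := by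
  rw [LinearMap.range_comp, LinearMap.range_comp, LinearEquiv.range, Submodule.map_top]
  exact LinearEquiv.finrank_map_eq e₂ _

/-- `rank δ + d = n` -/
theorem finrank_range_add (hs : Function.Surjective (algebraMap P A))
    [Module.Free P Ω[P⁄k]] [Module.Finite P Ω[P⁄k]] :
    Module.finrank (ResidueField A)
      (LinearMap.range (cotangentComplexBaseChange k A P (ResidueField A))) +
      Module.finrank (ResidueField A) (ResidueField A ⊗[A] Ω[A⁄k]) = Module.finrank P Ω[P⁄k] := by
  let E : Algebra.Extension k A := { Ring := P, σ := _, algebraMap_σ := Function.surjInv_eq hs }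
  let δ' := cotangentComplexBaseChange k A P (ResidueField A)
  let δ : ResidueField A ⊗[A] E.Cotangent →ₗ[ResidueField A] ResidueField A ⊗[A] E.CotangentSpace :=
    E.cotangentComplex.baseChange (ResidueField A)
  let ψ : ResidueField A ⊗[A] E.CotangentSpace →ₗ[ResidueField A] ResidueField A ⊗[A] Ω[A⁄k] :=
    E.toKaehler.baseChange (ResidueField A)
  have hE : δ = _ := E.lTensor_cotangentComplex_eq_cotangentComplexBaseChange (ResidueField A)
  have hfin : Module.Finite A E.CotangentSpace := inferInstanceAs (Module.Finite A (A ⊗[P] Ω[P⁄k]))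
  have hfree : Module.Free A E.CotangentSpace := inferInstanceAs (Module.Free A (A ⊗[P] Ω[P⁄k]))
  have hex : Function.Exact δ ψ :=
    lTensor_exact (ResidueField A) E.exact_cotangentComplex_toKaehler E.toKaehler_surjective
  have hψ : LinearMap.range ψ = ⊤ := by
    rw [LinearMap.range_eq_top]
    exact LinearMap.lTensor_surjective _ E.toKaehler_surjective
  have hker : LinearMap.ker ψ = LinearMap.range δ := (LinearMap.exact_iff.1 hex)
  have h1 := LinearMap.finrank_range_add_finrank_ker ψ
  have h4 : Module.finrank (ResidueField A) (ResidueField A ⊗[A] E.CotangentSpace) =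
      Module.finrank A E.CotangentSpace := Module.finrank_baseChange
  rw [hψ, finrank_top, hker, h4] at h1
  have h2 : Module.finrank A E.CotangentSpace = Module.finrank P Ω[P⁄k] :=
    Module.finrank_baseChange
  have h3 : Module.finrank (ResidueField A) (LinearMap.range δ) =
      Module.finrank (ResidueField A) (LinearMap.range δ') := by
    rw [hE]
    exact finrank_range_equiv_comp _ _ _
  rw [← h2, ← h1, h3, add_comm]

/-- Nakayama: the kernel is generated by `dim_κ (κ ⊗ I)` elements. -/
theorem exists_generators (hs : Function.Surjective (algebraMap P A)) :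
    ∃ f : Fin (Module.finrank (ResidueField A) (ResidueField A ⊗[P] RingHom.ker (algebraMap P A))) →
      RingHom.ker (algebraMap P A),
      RingHom.ker (algebraMap P A) = Ideal.span (Set.range fun i => (f i : P)) := by
  have hκ : Function.Surjective (algebraMap P (ResidueField A)) := by
    rw [IsScalarTower.algebraMap_eq P A (ResidueField A)]
    exact residue_surjective.comp hs
  have hkerκ' : RingHom.ker (algebraMap P (ResidueField A)) ≤ maximalIdeal P := by
    intro a ha
    by_contra hau
    have hu : IsUnit a := by simpa using hau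
    have := hu.map (algebraMap P (ResidueField A))
    rw [RingHom.mem_ker] at ha
    rw [ha] at this
    exact not_isUnit_zero this
  have : Module.Finite P (RingHom.ker (algebraMap P A)) := inferInstance
  let b : Module.Basis (Fin _) (ResidueField A) (ResidueField A ⊗[P] RingHom.ker (algebraMap P A)) :=
    Module.finBasisOfFinrankEq _ _ rfl
  choose f hf using fun i => TensorProduct.mk_surjective P (RingHom.ker (algebraMap P A))
    (ResidueField A) hκ (b i)
  refine ⟨f, ?_⟩
  have key : (⊤ : Submodule P (RingHom.ker (algebraMap P A))) ≤ Submodule.span P (Set.range f) := by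
    refine Submodule.le_of_le_smul_of_le_jacobson_bot (I := maximalIdeal P)
      Module.Finite.fg_top (by rw [jacobson_eq_maximalIdeal]; exact bot_ne_top) ?_
    intro x _
    choose c hc using fun i => hκ (b.repr ((1 : ResidueField A) ⊗ₜ[P] x) i)
    have h1 : (1 : ResidueField A) ⊗ₜ[P] (x - ∑ i, c i • f i) = 0 := by
      rw [tmul_sub, tmul_sum, sub_eq_zero]
      conv_lhs => rw [← b.sum_repr ((1 : ResidueField A) ⊗ₜ[P] x)]
      refine Finset.sum_congr rfl fun i _ => ?_
      rw [← hc i, tmul_smul, algebraMap_smul]
      congr 1
      exact (hf i).symm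
    have h2 := Submodule.smul_mono_left hkerκ' (mem_smul_top_of_one_tmul_eq_zero hκ _ h1)
    have h3 : x = ∑ i, c i • f i + (x - ∑ i, c i • f i) := by abel
    rw [h3]
    refine Submodule.add_mem_sup ?_ h2
    exact Submodule.sum_mem _ fun i _ => Submodule.smul_mem _ _ (Submodule.subset_span ⟨i, rfl⟩)
  have := congrArg (Submodule.map (Submodule.subtype (RingHom.ker (algebraMap P A))))
    (top_le_iff.1 key)
  rw [Submodule.map_span, Submodule.map_top, Submodule.range_subtype, ← Set.range_comp] at this
  exact this.symm

/-- `rank δ` elements of the kernel with linearly independent differentials. -/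
theorem exists_independent (hs : Function.Surjective (algebraMap P A))
    [Module.Free P Ω[P⁄k]] [Module.Finite P Ω[P⁄k]] :
    ∃ f : Fin (Module.finrank (ResidueField A)
        (LinearMap.range (cotangentComplexBaseChange k A P (ResidueField A)))) →
      RingHom.ker (algebraMap P A),
      LinearIndependent (ResidueField A)
        (fun i => (1 : ResidueField A) ⊗ₜ[P] KaehlerDifferential.D k P (f i : P)) := by
  have hκ : Function.Surjective (algebraMap P (ResidueField A)) := by
    rw [IsScalarTower.algebraMap_eq P A (ResidueField A)]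
    exact residue_surjective.comp hs
  let δ := cotangentComplexBaseChange k A P (ResidueField A)
  let v : RingHom.ker (algebraMap P A) → ResidueField A ⊗[P] Ω[P⁄k] := fun x =>
    (1 : ResidueField A) ⊗ₜ[P] KaehlerDifferential.D k P (x : P)
  have hv : ∀ x, v x = δ ((1 : ResidueField A) ⊗ₜ[P] x) := by
    intro x
    change _ = cotangentComplexBaseChange k A P (ResidueField A) _
    rw [cotangentComplexBaseChange_tmul, one_smul, kerToTensor_apply]
  have hspan : Submodule.span (ResidueField A) (Set.range v) = LinearMap.range δ := by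
    apply le_antisymm
    · rw [Submodule.span_le]
      rintro _ ⟨x, rfl⟩
      rw [hv x]
      exact ⟨_, rfl⟩
    · rintro _ ⟨y, rfl⟩
      obtain ⟨x, rfl⟩ := TensorProduct.mk_surjective P (RingHom.ker (algebraMap P A))
        (ResidueField A) hκ y
      change δ ((1 : ResidueField A) ⊗ₜ[P] x) ∈ _
      rw [← hv x]
      exact Submodule.subset_span ⟨x, rfl⟩
  obtain ⟨ι, a, -, h1, h2⟩ := exists_linearIndependent' (ResidueField A) v
  have : Finite ι := h2.finite
  have := Fintype.ofFinite ι
  have hcard : Fintype.card ι = Module.finrank (ResidueField A) (LinearMap.range δ) := by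
    rw [← hspan, ← h1, finrank_span_eq_card h2]
  let e : Fin (Module.finrank (ResidueField A) (LinearMap.range δ)) ≃ ι :=
    (Fintype.equivFinOfCardEq hcard).symm
  exact ⟨a ∘ e, h2.comp e e.injective⟩

end Groth.Agent.CalgB.JacRank
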