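import Mathlib.RingTheory.KrullDimension.Regular
import Mathlib.RingTheory.Ideal.AssociatedPrime.Localization
import Mathlib.RingTheory.Ideal.AssociatedPrime.Finiteness

/-!
# Elementary lemmas on supports, dimension of supports and associated primes
-/

set_option autoImplicit false
universe u v

open IsLocalRing

namespace Groth.Agent.CalgB.SuppDim

variable {R : Type u} [CommRing R]

section

variable {M N P : Type v} [AddCommGroup M] [Module R M] [AddCommGroup N] [Module R N]
  [AddCommGroup P] [Module R P]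

lemma support_subset_of_exact {f : M →ₗ[R] N} {g : N →ₗ[R] P} (h : Function.Exact f g) :
    Module.support R N ⊆ Module.support R M ∪ Module.support R P := by
  intro p hp
  by_contra hc
  rw [Set.mem_union, not_or] at hc
  obtain ⟨h1, h2⟩ := hc
  rw [Module.notMem_support_iff'] at h1 h2
  refine (Module.notMem_support_iff'.2 fun n => ?_) hp
  obtain ⟨s, hs, hs'⟩ := h2 (g n)
  rw [← map_smul] at hs'
  obtain ⟨m, hm⟩ := (h _).1 hs'
  obtain ⟨t, ht, ht'⟩ := h1 m
  refine ⟨t * s, fun hts => ?_, ?_⟩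
  · rcases p.2.mem_or_mem hts with h | h
    · exact ht h
    · exact hs h
  · rw [mul_smul, ← hm, ← map_smul, ht', map_zero]

lemma ringKrullDim_quotient_le_of_le {I J : Ideal R} (h : I ≤ J) :
    ringKrullDim (R ⧸ J) ≤ ringKrullDim (R ⧸ I) :=
  ringKrullDim_le_of_surjective (Ideal.Quotient.factor h) (Ideal.Quotient.factor_surjective h)

/-- strict drop of dimension for primes. -/
lemma ringKrullDim_quotient_add_one_le {p q : Ideal R} [p.IsPrime] (h : p < q) :
    ringKrullDim (R ⧸ q) + 1 ≤ ringKrullDim (R ⧸ p) := by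
  obtain ⟨hle, x, hxq, hxp⟩ := SetLike.lt_iff_le_and_exists.1 h
  have h1 : (Ideal.Quotient.mk p x) ∈ nonZeroDivisors (R ⧸ p) := by
    rw [mem_nonZeroDivisors_iff_ne_zero]
    exact fun h0 => hxp (Ideal.Quotient.eq_zero_iff_mem.1 h0)
  refine le_trans (add_le_add_left ?_ 1) (ringKrullDim_quotient_succ_le_of_nonZeroDivisor h1)
  refine ringKrullDim_le_of_surjective
    (Ideal.Quotient.lift (Ideal.span {Ideal.Quotient.mk p x}) (Ideal.Quotient.factor hle) ?_) ?_
  · intro a ha
    obtain ⟨b, rfl⟩ := Ideal.mem_span_singleton'.1 ha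
    rw [map_mul, Ideal.Quotient.factor_mk, Ideal.Quotient.eq_zero_iff_mem.2 hxq, mul_zero]
  · intro y
    obtain ⟨y, rfl⟩ := Ideal.Quotient.mk_surjective y
    exact ⟨Ideal.Quotient.mk _ (Ideal.Quotient.mk p y), by simp⟩

lemma mem_support_iff_le [Module.Finite R M] {p : PrimeSpectrum R} :
    p ∈ Module.support R M ↔ Module.annihilator R M ≤ p.asIdeal :=
  Module.mem_support_iff_of_finite

lemma ringKrullDim_le_supportDim [Module.Finite R M] {p : PrimeSpectrum R}
    (hp : p ∈ Module.support R M) : ringKrullDim (R ⧸ p.asIdeal) ≤ Module.supportDim R M := by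
  rw [Module.supportDim_eq_ringKrullDim_quotient_annihilator]
  exact ringKrullDim_quotient_le_of_le (mem_support_iff_le.1 hp)

lemma annihilator_le_of_mem_ass {p : Ideal R} (hp : p ∈ associatedPrimes R M) :
    Module.annihilator R M ≤ p := by
  rw [← Submodule.annihilator_top]
  exact IsAssociatedPrime.annihilator_le hp

lemma mem_support_of_mem_ass [Module.Finite R M] {p : Ideal R} [hpp : p.IsPrime]
    (hp : p ∈ associatedPrimes R M) : (⟨p, hpp⟩ : PrimeSpectrum R) ∈ Module.support R M :=
  mem_support_iff_le.2 (annihilator_le_of_mem_ass hp)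

lemma ringKrullDim_le_supportDim_of_mem_ass [Module.Finite R M] {p : Ideal R}
    (hp : p ∈ associatedPrimes R M) : ringKrullDim (R ⧸ p) ≤ Module.supportDim R M := by
  have := hp.isPrime
  exact ringKrullDim_le_supportDim (p := ⟨p, this⟩) (mem_support_of_mem_ass hp)

/-- a prime of the support with maximal dimension is associated. -/
lemma mem_ass_of_le_dim [IsNoetherianRing R] [Module.Finite R M] {p : Ideal R} [p.IsPrime]
    (hp : Module.annihilator R M ≤ p) {n : ℕ} (hn : Module.supportDim R M ≤ n)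
    (h : (n : WithBot ℕ∞) ≤ ringKrullDim (R ⧸ p)) : p ∈ associatedPrimes R M := by
  obtain ⟨q, hq, hqp⟩ := Ideal.exists_minimalPrimes_le hp
  rcases hqp.lt_or_eq with h1 | rfl
  · exfalso
    have : q.IsPrime := hq.1.1
    have h2 := ringKrullDim_quotient_add_one_le h1
    have h3 := ringKrullDim_le_supportDim (M := M) (p := ⟨q, this⟩)
      (mem_support_iff_le.2 hq.1.2)
    have h4 : ((n : WithBot ℕ∞) + 1) ≤ n := (add_le_add_left h 1).trans (h2.trans (h3.trans hn))
    have h5 : ((n + 1 : ℕ) : WithBot ℕ∞) ≤ (n : ℕ) := by exact_mod_cast h4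
    have h6 : n + 1 ≤ n := by exact_mod_cast h5
    omega
  · exact Module.associatedPrimes.minimalPrimes_annihilator_subset_associatedPrimes R M hq

lemma exists_le_dim {n : ℕ} (h : (n : WithBot ℕ∞) ≤ Module.supportDim R M) :
    ∃ p ∈ Module.support R M, (n : WithBot ℕ∞) ≤ ringKrullDim (R ⧸ p.asIdeal) := by
  obtain ⟨l, hl⟩ := Order.le_krullDim_iff.1 h
  refine ⟨l.head.1, l.head.2, ?_⟩
  rw [ringKrullDim_quotient, Order.le_krullDim_iff]
  refine ⟨⟨l.length, fun i => ⟨(l i).1, ?_⟩, fun i => ?_⟩, hl⟩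
  · have : l.head ≤ l i := l.monotone (Fin.zero_le i)
    exact this
  · exact l.step i

/-- If `x` lies in no associated prime of dimension `n ≥ dim M`, then the kernel and the
cokernel of `x` have dimension `< n`. -/
lemma supportDim_lt_of_forall_notMem [IsNoetherianRing R] [Module.Finite R M] {n : ℕ}
    (hn : Module.supportDim R M ≤ n) (K : Type v) [AddCommGroup K] [Module R K]
    (hK : Module.support R K ⊆ Module.support R M) (x : R) (hx : ∀ y : K, x • y = 0)
    (h : ∀ p ∈ associatedPrimes R M, (n : WithBot ℕ∞) ≤ ringKrullDim (R ⧸ p) → x ∉ p) :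
    Module.supportDim R K < n := by
  by_contra hc
  rw [not_lt] at hc
  obtain ⟨p, hp, hp'⟩ := exists_le_dim hc
  have h1 := mem_ass_of_le_dim (M := M) (mem_support_iff_le.1 (hK hp)) hn hp'
  refine h _ h1 hp' ?_
  refine Module.annihilator_le_of_mem_support hp ?_
  rw [Module.mem_annihilator]
  exact hx

/-- The associated primes of a module killing nothing ... -/
lemma mem_ass_iff_isAssociatedPrime {p : Ideal R} :
    p ∈ associatedPrimes R M ↔ IsAssociatedPrime p M := Iff.rfl

lemma isSMulRegular_iff_forall_notMem [IsNoetherianRing R] {x : R} :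
    IsSMulRegular M x ↔ ∀ p ∈ associatedPrimes R M, x ∉ p := by
  have h := biUnion_associatedPrimes_eq_compl_regular R M
  constructor
  · intro hx p hp hxp
    have : x ∈ ({ r : R | IsSMulRegular M r }ᶜ : Set R) := by
      rw [← h]; exact Set.mem_biUnion hp hxp
    exact this hx
  · intro hx
    by_contra hc
    have : x ∈ ({ r : R | IsSMulRegular M r }ᶜ : Set R) := hc
    rw [← h] at this
    obtain ⟨p, hp, hxp⟩ := Set.mem_iUnion₂.1 this
    exact hx p hp hxp

end

section Avoid

/-- prime avoidance for finite sets of primes -/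
lemma exists_mem_forall_notMem {J : Ideal R} {S : Set (Ideal R)} (hS : S.Finite)
    (hp : ∀ p ∈ S, p.IsPrime) (hJ : ∀ p ∈ S, ¬ J ≤ p) : ∃ x ∈ J, ∀ p ∈ S, x ∉ p := by
  by_contra hc
  push_neg at hc
  have h1 : (J : Set R) ⊆ ⋃ p ∈ S, (p : Set R) := fun x hx => by
    obtain ⟨p, hpS, hxp⟩ := hc x hx
    exact Set.mem_biUnion hpS hxp
  have h2 := (Ideal.subset_union_prime_finite hS (f := id) ⊥ ⊥ (fun p hpS _ _ => hp p hpS)).1 h1
  obtain ⟨p, hpS, hle⟩ := h2
  exact hJ p hpS hle

variable [IsLocalRing R] [IsNoetherianRing R] {M : Type v} [AddCommGroup M] [Module R M]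
  [Module.Finite R M]

lemma exists_regular_avoid (hM : maximalIdeal R ∉ associatedPrimes R M) {S : Set (Ideal R)}
    (hS : S.Finite) (hp : ∀ p ∈ S, p.IsPrime) (hm : maximalIdeal R ∉ S) :
    ∃ x ∈ maximalIdeal R, IsSMulRegular M x ∧ ∀ p ∈ S, x ∉ p := by
  obtain ⟨x, hx, hx'⟩ := exists_mem_forall_notMem (J := maximalIdeal R)
    ((associatedPrimes.finite R M).union hS)
    (fun p hp' => hp'.elim (fun h => h.isPrime) (hp p))
    (fun p hp' hle => by
      have hpp : p.IsPrime := hp'.elim (fun h => h.isPrime) (hp p)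
      have : maximalIdeal R = p :=
        le_antisymm hle (IsLocalRing.le_maximalIdeal hpp.ne_top)
      rcases hp' with h | h
      · exact hM (this ▸ h)
      · exact hm (this ▸ h))
  exact ⟨x, hx, isSMulRegular_iff_forall_notMem.2 fun p h => hx' p (Or.inl h),
    fun p h => hx' p (Or.inr h)⟩

end Avoid

end Groth.Agent.CalgB.SuppDim
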