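import Groth.Agent.CalgB.LCMod
import Groth.Agent.CalgB.SuppDim
import Groth.Agent.Localalg.Matlis5

/-!
# Local cohomology over a Noetherian local ring, by induction on regular elements

For any realisation `T : LC m` of the derived functors of `Γ_m` over a Noetherian local ring:
`H^n(M)` is Artinian for `M` finite; `H^n(M) = 0` for `n > dim M`.
-/

set_option autoImplicit false
set_option linter.unusedSectionVars false
universe u

open CategoryTheory Limits IsLocalRing Pointwise
open Groth.Agent.Localalg.DeltaFun Groth.Agent.Localalg.Gam Groth.Agent.Localalg.LCAbs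
open Groth.Agent.CalgB.LCMod Groth.Agent.CalgB.SuppDim

namespace Groth.Agent.CalgB.LCLocal

section Quotient

variable {R : Type u} [CommRing R] [IsNoetherianRing R] {I : Ideal R} {M : Type u}
  [AddCommGroup M] [Module R M]

lemma gam_quotient : gam I (M ⧸ gam I M) = ⊥ := by
  rw [eq_bot_iff]
  intro y hy
  obtain ⟨x, rfl⟩ := (gam I M).mkQ_surjective y
  obtain ⟨n, hn⟩ := hy
  have h1 : ∀ a ∈ I ^ n, ∃ k : ℕ, ∀ b ∈ I ^ k, b • a • x = 0 := by
    intro a ha
    have h2 := hn a ha
    rw [← map_smul, ← LinearMap.mem_ker, Submodule.ker_mkQ] at h2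
    exact h2
  obtain ⟨s, hs⟩ := (IsNoetherian.noetherian (I ^ n) : (I ^ n).FG)
  have h3 : ∃ k : ℕ, ∀ a ∈ s, ∀ b ∈ I ^ k, b • a • x = 0 := by
    have hs' : ∀ a ∈ s, a ∈ I ^ n := fun a ha => hs ▸ Submodule.subset_span ha
    clear hs
    classical
    induction s using Finset.induction with
    | empty => exact ⟨0, by simp⟩
    | insert a t hat ih =>
      obtain ⟨k, hk⟩ := ih fun b hb => hs' b (Finset.mem_insert_of_mem hb)
      obtain ⟨l, hl⟩ := h1 a (hs' a (Finset.mem_insert_self a t))
      refine ⟨max k l, fun c hc b hb => ?_⟩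
      rcases Finset.mem_insert.1 hc with rfl | hc
      · exact hl b (Ideal.pow_le_pow_right (le_max_right _ _) hb)
      · exact hk c hc b (Ideal.pow_le_pow_right (le_max_left _ _) hb)
  obtain ⟨k, hk⟩ := h3
  have h4 : ∀ b ∈ I ^ k, ∀ a ∈ I ^ n, b • a • x = 0 := by
    intro b hb a ha
    rw [← hs] at ha
    refine Submodule.span_induction (p := fun a _ => b • a • x = 0) ?_ ?_ ?_ ?_ ha
    · intro a ha; exact hk a ha b hb
    · simp
    · intro a c _ _ h h'; rw [add_smul, smul_add, h, h', add_zero]
    · intro r a _ h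
      rw [smul_eq_mul, mul_smul, smul_comm b r, h, smul_zero]
  rw [Submodule.mem_bot, Submodule.mkQ_apply, Submodule.Quotient.mk_eq_zero]
  refine ⟨k + n, fun c hc => ?_⟩
  rw [pow_add] at hc
  refine Submodule.mul_induction_on hc ?_ ?_
  · intro b hb a ha; rw [mul_smul]; exact h4 b hb a ha
  · intro a b h h'; rw [add_smul, h, h', add_zero]

variable (T : LC I)

/-- dividing out the torsion does not change the higher cohomology. -/
lemma map_mkQ_bijective (n : ℕ) (M : Type u) [AddCommGroup M] [Module R M] :
    Function.Bijective (map T (n + 1) (gam I M).mkQ) := by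
  have hex : Function.Exact (gam I M).subtype (gam I M).mkQ :=
    LinearMap.exact_subtype_mkQ _
  have hi : Function.Injective (gam I M).subtype := Subtype.val_injective
  have hs : Function.Surjective (gam I M).mkQ := Submodule.mkQ_surjective _
  have h1 : ∀ n, Subsingleton (H T (n + 1) (gam I M)) :=
    fun n => subsingleton_H_of_torsion T isPowerTorsion_gam n
  constructor
  · rw [injective_iff_map_eq_zero]
    intro x hx
    obtain ⟨y, rfl⟩ := (exact₂ T (n + 1) hex hi hs x).1 hx
    rw [(h1 n).elim y 0, map_zero]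
  · intro y
    refine (exact₃ T (n + 1) hex hi hs y).1 ((h1 (n + 1)).elim _ _)

/-- the isomorphism `H^{n+1}(M) = H^{n+1}(M / Γ_I M)` -/
noncomputable def mkQEquiv (n : ℕ) (M : Type u) [AddCommGroup M] [Module R M] :
    H T (n + 1) M ≃ₗ[R] H T (n + 1) (M ⧸ gam I M) :=
  LinearEquiv.ofBijective _ (map_mkQ_bijective T n M)

section Reg

variable {x : R} (hx : IsSMulRegular M x)

omit [IsNoetherianRing R] in
lemma exact_lsmul_mkQ (x : R) : Function.Exact (LinearMap.lsmul R M x)
    (x • (⊤ : Submodule R M)).mkQ := by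
  intro y
  rw [← LinearMap.mem_ker, Submodule.ker_mkQ, Submodule.mem_smul_pointwise_iff_exists]
  constructor
  · rintro ⟨b, -, rfl⟩; exact ⟨b, rfl⟩
  · rintro ⟨b, rfl⟩; exact ⟨b, trivial, rfl⟩

include hx in
/-- `H^n(M) --x--> H^n(M) → H^n(M/xM)` is exact -/
lemma exactA (n : ℕ) : Function.Exact (LinearMap.lsmul R (H T n M) x)
    (map T n (x • (⊤ : Submodule R M)).mkQ) := by
  have := exact₂ T n (exact_lsmul_mkQ x) hx (Submodule.mkQ_surjective _)
  rwa [map_lsmul] at this

/-- the connecting map `H^n(M/xM) → H^{n+1}(M)` -/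
noncomputable def conn (n : ℕ) : H T n (QuotSMulTop x M) →ₗ[R] H T (n + 1) M :=
  δ T n (exact_lsmul_mkQ x) hx (Submodule.mkQ_surjective _)

lemma exactB (n : ℕ) : Function.Exact (map T n (x • (⊤ : Submodule R M)).mkQ)
    (conn T hx n) :=
  exact₃ T n (exact_lsmul_mkQ x) hx (Submodule.mkQ_surjective _)

lemma exactC (n : ℕ) : Function.Exact (conn T hx n)
    (LinearMap.lsmul R (H T (n + 1) M) x) := by
  have := exact₁ T n (exact_lsmul_mkQ x) hx (Submodule.mkQ_surjective _)
  rwa [map_lsmul] at this

end Reg

end Quotient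

section Local

variable {R : Type u} [CommRing R] [IsNoetherianRing R] [IsLocalRing R]

lemma maximalIdeal_notMem_ass {M : Type u} [AddCommGroup M] [Module R M]
    (h : gam (maximalIdeal R) M = ⊥) : maximalIdeal R ∉ associatedPrimes R M := by
  intro hm
  rw [AssociatedPrimes.mem_iff, isAssociatedPrime_iff] at hm
  obtain ⟨-, x, hx⟩ := hm
  have h1 : x ∈ gam (maximalIdeal R) M := by
    refine ⟨1, fun a ha => ?_⟩
    rw [pow_one, hx, Submodule.mem_colon_singleton] at ha
    exact ha
  rw [h, Submodule.mem_bot] at h1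
  subst h1
  have h2 : (1 : R) ∈ maximalIdeal R := by
    rw [hx, Submodule.mem_colon_singleton]; simp
  exact (Ideal.ne_top_iff_one _).1 (maximalIdeal.isMaximal R).ne_top h2

lemma exists_regular (M : Type u) [AddCommGroup M] [Module R M] [Module.Finite R M]
    (h : gam (maximalIdeal R) M = ⊥) : ∃ x ∈ maximalIdeal R, IsSMulRegular M x := by
  obtain ⟨x, hx, hx', -⟩ := exists_regular_avoid (M := M) (maximalIdeal_notMem_ass h)
    Set.finite_empty (by simp) (by simp)
  exact ⟨x, hx, hx'⟩

omit [IsNoetherianRing R] in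
lemma eq_zero_of_torsion_of_injective {N : Type u} [AddCommGroup N] [Module R N]
    (hN : LocCoh.IsPowerTorsion (maximalIdeal R) N) {x : R} (hx : x ∈ maximalIdeal R)
    (hinj : Function.Injective (LinearMap.lsmul R N x)) : Subsingleton N := by
  refine ⟨fun a b => ?_⟩
  rw [← sub_eq_zero]
  obtain ⟨n, hn⟩ := hN (a - b)
  have h1 := hn (x ^ n) (Ideal.pow_mem_pow hx n)
  have h2 : Function.Injective fun y : N => x ^ n • y := by
    clear h1 hn
    induction n with
    | zero => intro y z h; simpa using h
    | succ n ih =>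
      intro y z h
      refine hinj (ih ?_)
      simpa [pow_succ, mul_smul] using h
  exact h2 (by simpa using h1)

variable (T : LC (maximalIdeal R))

lemma isArtinian_gam (M : Type u) [AddCommGroup M] [Module R M] [Module.Finite R M] :
    IsArtinian R (gam (maximalIdeal R) M) := by
  have hN : IsNoetherian R M := inferInstance
  rw [Groth.Agent.Localalg.Matlis.isArtinian_iff]
  refine ⟨isPowerTorsion_gam, ?_⟩
  have : Module.Finite R (LocCoh.torsionBy (maximalIdeal R) (gam (maximalIdeal R) M)) :=
    inferInstance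
  exact Module.Finite.of_restrictScalars_finite R (R ⧸ maximalIdeal R) _

theorem isArtinian_H (n : ℕ) (M : Type u) [AddCommGroup M] [Module R M] [Module.Finite R M] :
    IsArtinian R (H T n M) := by
  induction n generalizing M with
  | zero =>
    have := isArtinian_gam (R := R) M
    exact isArtinian_of_injective (zeroEquiv T M).toLinearMap (zeroEquiv T M).injective
  | succ n ih =>
    suffices h : IsArtinian R (H T (n + 1) (M ⧸ gam (maximalIdeal R) M)) from
      isArtinian_of_injective (mkQEquiv T n M).toLinearMap (mkQEquiv T n M).injective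
    obtain ⟨x, hxm, hx⟩ := exists_regular (M ⧸ gam (maximalIdeal R) M) gam_quotient
    set N := M ⧸ gam (maximalIdeal R) M
    have h1 : IsArtinian R (H T n (QuotSMulTop x N)) := ih _
    have h2 : IsArtinian R (LinearMap.range (conn T hx n)) :=
      isArtinian_of_surjective _ (conn T hx n).rangeRestrict
        (LinearMap.surjective_rangeRestrict _)
    rw [Groth.Agent.Localalg.Matlis.isArtinian_iff]
    refine ⟨isPowerTorsion_H T _ _, ?_⟩
    have h3 := Groth.Agent.Localalg.Matlis.finite_socle_of_isArtinian (R := R)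
      (LinearMap.range (conn T hx n))
    have h4 : ∀ y : LocCoh.torsionBy (maximalIdeal R) (H T (n + 1) N),
        (y : H T (n + 1) N) ∈ LinearMap.range (conn T hx n) := by
      intro y
      have := (exactC T hx n y.1).1 (by
        have := y.2
        rw [Submodule.mem_torsionBySet_iff] at this
        exact this ⟨x, hxm⟩)
      exact this
    let g : LocCoh.torsionBy (maximalIdeal R) (H T (n + 1) N) →ₗ[R]
        LocCoh.torsionBy (maximalIdeal R) (LinearMap.range (conn T hx n)) :=
      { toFun := fun y => ⟨⟨y.1, h4 y⟩, by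
          rw [Submodule.mem_torsionBySet_iff]
          intro a
          have := (Submodule.mem_torsionBySet_iff _ _).1 y.2 a
          exact Subtype.ext this⟩
        map_add' := fun a b => rfl
        map_smul' := fun a b => rfl }
    have hg : Function.Injective g := by
      intro a b hab
      have := congrArg (fun z => (z.1.1 : H T (n + 1) N)) hab
      exact Subtype.ext this
    have h5 : Module.Finite R (LocCoh.torsionBy (maximalIdeal R)
        (LinearMap.range (conn T hx n))) :=
      Module.Finite.trans (R ⧸ maximalIdeal R) _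
    have h6 : Module.Finite R (LocCoh.torsionBy (maximalIdeal R) (H T (n + 1) N)) :=
      Module.Finite.of_injective g hg
    exact Module.Finite.of_restrictScalars_finite R (R ⧸ maximalIdeal R) _

lemma gam_eq_top_of_subsingleton {M : Type u} [AddCommGroup M] [Module R M] [Subsingleton M] :
    Subsingleton (gam (maximalIdeal R) M) := inferInstance

lemma supportDim_quot_lt {M : Type u} [AddCommGroup M] [Module R M] [Module.Finite R M]
    {n : ℕ} (h : Module.supportDim R M < (n + 1 : ℕ)) {x : R} (hxm : x ∈ maximalIdeal R)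
    (hx : IsSMulRegular M x) : Module.supportDim R (QuotSMulTop x M) < n := by
  by_contra hc
  rw [not_lt] at hc
  have h1 := Module.supportDim_quotSMulTop_succ_eq_supportDim hx hxm
  rw [← h1] at h
  refine absurd h (not_lt.2 ?_)
  push_cast
  gcongr

/-- Grothendieck vanishing. -/
theorem subsingleton_H_of_dim_lt (n : ℕ) (M : Type u) [AddCommGroup M] [Module R M]
    [Module.Finite R M] (h : Module.supportDim R M < n) : Subsingleton (H T n M) := by
  induction n generalizing M with
  | zero =>
    have h1 : Subsingleton M := by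
      rw [← Module.supportDim_eq_bot_iff_subsingleton (R := R)]
      by_contra hc
      have : Nontrivial M := (Module.supportDim_ne_bot_iff_nontrivial R M).1 hc
      have h2 : 0 ≤ Module.supportDim R M := by
        have := Module.nonempty_support_of_nontrivial (R := R) (M := M)
        rw [← Set.nonempty_coe_sort] at this
        exact Order.krullDim_nonneg
      exact absurd h (not_lt.2 (by exact_mod_cast h2))
    exact (zeroEquiv T M).injective.subsingleton
  | succ n ih =>
    suffices h : Subsingleton (H T (n + 1) (M ⧸ gam (maximalIdeal R) M)) from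
      (mkQEquiv T n M).injective.subsingleton
    obtain ⟨x, hxm, hx⟩ := exists_regular (M ⧸ gam (maximalIdeal R) M) gam_quotient
    have h1 : Module.supportDim R (M ⧸ gam (maximalIdeal R) M) < (n + 1 : ℕ) :=
      lt_of_le_of_lt (Module.supportDim_le_of_surjective _ (Submodule.mkQ_surjective _)) h
    have h2 := ih _ (supportDim_quot_lt h1 hxm hx)
    refine eq_zero_of_torsion_of_injective (isPowerTorsion_H T _ _) hxm ?_
    rw [injective_iff_map_eq_zero]
    intro y hy
    obtain ⟨z, rfl⟩ := (exactC T hx n y).1 hy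
    rw [h2.elim z 0, map_zero]

/-! ### Duals -/

section Dual

open Groth.Agent.Localalg.Matlis

variable {E : Type u} [AddCommGroup E] [Module R E] (hE : Module.Injective R E)

include hE in
/-- `0 → D^{n+1}(M)/x → D^n(M/x)`. -/
lemma exists_injective_quot {M : Type u} [AddCommGroup M] [Module R M] {x : R}
    (hx : IsSMulRegular M x) (n : ℕ) :
    ∃ j : QuotSMulTop x (H T (n + 1) M →ₗ[R] E) →ₗ[R] (H T n (QuotSMulTop x M) →ₗ[R] E),
      Function.Injective j := by
  have h1 := lcomp_exact hE _ _ (exactC T hx n)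
  refine ⟨(x • (⊤ : Submodule R (H T (n + 1) M →ₗ[R] E))).liftQ
    (LinearMap.lcomp R E (conn T hx n)) ?_, ?_⟩
  · intro φ hφ
    rw [Submodule.mem_smul_pointwise_iff_exists] at hφ
    obtain ⟨ψ, -, rfl⟩ := hφ
    rw [LinearMap.mem_ker]
    refine (h1 _).2 ⟨ψ, ?_⟩
    ext y
    simp
  · rw [← LinearMap.ker_eq_bot]
    refine Submodule.ker_liftQ_eq_bot _ _ _ ?_
    intro φ hφ
    rw [LinearMap.mem_ker] at hφ
    obtain ⟨ψ, hψ⟩ := (h1 _).1 hφ
    rw [Submodule.mem_smul_pointwise_iff_exists]
    refine ⟨ψ, trivial, ?_⟩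
    rw [← hψ]
    ext y
    simp

lemma supportDim_le_zero_of_torsion {N : Type u} [AddCommGroup N] [Module R N]
    [Module.Finite R N] (hN : LocCoh.IsPowerTorsion (maximalIdeal R) N) :
    Module.supportDim R N ≤ 0 := by
  by_contra hc
  rw [not_le] at hc
  have h1 : ((1 : ℕ) : WithBot ℕ∞) ≤ Module.supportDim R N := by
    have := (ENat.WithBot.add_one_le_iff (n := 0)).2 (by exact_mod_cast hc)
    exact_mod_cast this
  obtain ⟨p, hp, hp'⟩ := exists_le_dim h1
  have h2 : p.asIdeal = maximalIdeal R := by
    obtain ⟨y, hy⟩ := Module.mem_support_iff_exists_annihilator.1 hp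
    obtain ⟨n, hn⟩ := hN y
    refine (IsLocalRing.le_maximalIdeal p.2.ne_top).antisymm ?_
    intro a ha
    refine p.2.mem_of_pow_mem n (hy ?_)
    rw [Submodule.mem_annihilator_span_singleton]
    exact hn _ (Ideal.pow_mem_pow ha n)
  have h3 : ringKrullDim (R ⧸ p.asIdeal) = 0 := by
    rw [h2]
    have : IsField (R ⧸ maximalIdeal R) := (Ideal.Quotient.maximal_ideal_iff_isField_quotient _).1
      (maximalIdeal.isMaximal R)
    exact ringKrullDim_eq_zero_of_isField this
  rw [h3] at hp'
  have h4 : ((1 : ℕ) : WithBot ℕ∞) ≤ ((0 : ℕ) : WithBot ℕ∞) := by exact_mod_cast hp'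
  have h5 : (1 : ℕ) ≤ 0 := by exact_mod_cast h4
  omega

variable {f : ResidueField R →ₗ[R] E} [IsAdicComplete (maximalIdeal R) R]

lemma finite_dual (hf : InjHull.IsInjectiveHull f) (n : ℕ) (M : Type u) [AddCommGroup M]
    [Module R M] [Module.Finite R M] : Module.Finite R (H T n M →ₗ[R] E) := by
  have := isArtinian_H T n M
  exact finite_dual_of_isArtinian hf _

/-- the dual of a map -/
lemma finite_submodule_hom {M : Type u} [AddCommGroup M] [Module R M] [Module.Finite R M] :
    Module.Finite R (gam (maximalIdeal R) M) := inferInstance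

omit [IsNoetherianRing R] [IsLocalRing R] [IsAdicComplete (maximalIdeal R) R] in
lemma exists_pow_smul_eq_zero {I : Ideal R} {N : Type u} [AddCommGroup N] [Module R N]
    [Module.Finite R N] (hN : LocCoh.IsPowerTorsion I N) :
    ∃ k : ℕ, ∀ a ∈ I ^ k, ∀ y : N, a • y = 0 := by
  obtain ⟨s, hs⟩ := (Module.Finite.fg_top : (⊤ : Submodule R N).FG)
  have h3 : ∃ k : ℕ, ∀ y ∈ s, ∀ b ∈ I ^ k, b • y = 0 := by
    clear hs
    classical
    induction s using Finset.induction with
    | empty => exact ⟨0, by simp⟩
    | insert a t hat ih =>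
      obtain ⟨k, hk⟩ := ih
      obtain ⟨l, hl⟩ := hN a
      refine ⟨max k l, fun c hc b hb => ?_⟩
      rcases Finset.mem_insert.1 hc with rfl | hc
      · exact hl b (Ideal.pow_le_pow_right (le_max_right _ _) hb)
      · exact hk c hc b (Ideal.pow_le_pow_right (le_max_left _ _) hb)
  obtain ⟨k, hk⟩ := h3
  refine ⟨k, fun a ha y => ?_⟩
  have hy : y ∈ (⊤ : Submodule R N) := trivial
  rw [← hs] at hy
  refine Submodule.span_induction (p := fun y _ => a • y = 0) ?_ ?_ ?_ ?_ hy
  · intro y hy; exact hk y hy a ha
  · simp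
  · intro y z _ _ h h'; rw [smul_add, h, h', add_zero]
  · intro r y _ h; rw [smul_comm, h, smul_zero]

omit [IsNoetherianRing R] [IsAdicComplete (maximalIdeal R) R] in
lemma isPowerTorsion_dual {N : Type u} [AddCommGroup N] [Module R N] [Module.Finite R N]
    (hN : LocCoh.IsPowerTorsion (maximalIdeal R) N) :
    LocCoh.IsPowerTorsion (maximalIdeal R) (N →ₗ[R] E) := by
  obtain ⟨k, hk⟩ := exists_pow_smul_eq_zero hN
  refine fun φ => ⟨k, fun a ha => ?_⟩
  ext y
  rw [LinearMap.smul_apply, ← map_smul, hk a ha, map_zero, LinearMap.zero_apply]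

/-- `dim Hom(H^n(M), E) ≤ n`. -/
theorem supportDim_dual_le (hf : InjHull.IsInjectiveHull f) (n : ℕ) (M : Type u)
    [AddCommGroup M] [Module R M] [Module.Finite R M] :
    Module.supportDim R (H T n M →ₗ[R] E) ≤ n := by
  induction n generalizing M with
  | zero =>
    have h0 := finite_dual T hf 0 M
    refine supportDim_le_zero_of_torsion ?_
    have : Module.Finite R (H T 0 M) := Module.Finite.equiv (zeroEquiv T M).symm
    exact isPowerTorsion_dual (isPowerTorsion_H T 0 M)
  | succ n ih =>
    obtain ⟨x, hxm, hx⟩ := exists_regular (M ⧸ gam (maximalIdeal R) M) gam_quotient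
    set N := M ⧸ gam (maximalIdeal R) M
    have e : (H T (n + 1) N →ₗ[R] E) ≃ₗ[R] (H T (n + 1) M →ₗ[R] E) :=
      LinearEquiv.congrLeft E R (mkQEquiv T n M).symm
    rw [← Module.supportDim_eq_of_equiv e]
    obtain ⟨j, hj⟩ := exists_injective_quot T hf.isInjective hx n
    have h1 := (Module.supportDim_le_of_injective j hj).trans (ih _)
    have h2 := finite_dual T hf (n + 1) N
    refine (Module.supportDim_le_supportDim_quotSMulTop_succ hxm).trans ?_
    push_cast
    gcongr

end Dual

end Local

end Groth.Agent.CalgB.LCLocal
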