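import Groth.Agent.Localalg.LCAbs

/-!
# Module-level API for effaceable delta functors extending `Γ_I`

`LC I` is helper131's structure.  We unfold it in terms of modules and linear maps and prove that
the functors are linear, that the modules are `I`-power torsion, and that they vanish above the
dimension (local case).
-/

set_option autoImplicit false
universe u

open CategoryTheory Limits
open Groth.Agent.Localalg.DeltaFun Groth.Agent.Localalg.Gam Groth.Agent.Localalg.LCAbs

namespace Groth.Agent.CalgB.LCMod

variable {R : Type u} [CommRing R] {I : Ideal R} (T : LC I)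

section API

variable {M N P : Type u} [AddCommGroup M] [Module R M] [AddCommGroup N] [Module R N]
  [AddCommGroup P] [Module R P]

/-- The cohomology module. -/
abbrev H (n : ℕ) (M : Type u) [AddCommGroup M] [Module R M] : Type u :=
  (T.D.T n).obj (ModuleCat.of R M)

/-- Functoriality. -/
noncomputable def map (n : ℕ) (f : M →ₗ[R] N) : H T n M →ₗ[R] H T n N :=
  ((T.D.T n).map (ModuleCat.ofHom f)).hom

lemma map_id (n : ℕ) : map T n (LinearMap.id : M →ₗ[R] M) = LinearMap.id := by
  unfold map
  rw [ModuleCat.ofHom_id, CategoryTheory.Functor.map_id, ModuleCat.hom_id]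

lemma map_comp (n : ℕ) (g : N →ₗ[R] P) (f : M →ₗ[R] N) :
    map T n (g ∘ₗ f) = map T n g ∘ₗ map T n f := by
  unfold map
  rw [ModuleCat.ofHom_comp, CategoryTheory.Functor.map_comp, ModuleCat.hom_comp]

/-- The short complex of an exact sequence. -/
abbrev sc (f : M →ₗ[R] N) (g : N →ₗ[R] P) (h : Function.Exact f g) :
    ShortComplex (ModuleCat.{u} R) :=
  ShortComplex.mk (ModuleCat.ofHom f) (ModuleCat.ofHom g) (by
    rw [← ModuleCat.ofHom_comp]
    ext x
    exact h.apply_apply_eq_zero x)

lemma sc_shortExact {f : M →ₗ[R] N} {g : N →ₗ[R] P} (h : Function.Exact f g)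
    (hf : Function.Injective f) (hg : Function.Surjective g) : (sc f g h).ShortExact := by
  refine ShortComplex.ShortExact.mk' ?_ ((ModuleCat.mono_iff_injective _).2 hf)
    ((ModuleCat.epi_iff_surjective _).2 hg)
  rw [ShortComplex.ShortExact.moduleCat_exact_iff_function_exact]
  exact h

/-- The connecting map. -/
noncomputable def δ (n : ℕ) {f : M →ₗ[R] N} {g : N →ₗ[R] P} (h : Function.Exact f g)
    (hf : Function.Injective f) (hg : Function.Surjective g) : H T n P →ₗ[R] H T (n + 1) M :=
  (T.D.δ (sc_shortExact h hf hg) n).hom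

lemma exact₂ (n : ℕ) {f : M →ₗ[R] N} {g : N →ₗ[R] P} (h : Function.Exact f g)
    (hf : Function.Injective f) (hg : Function.Surjective g) :
    Function.Exact (map T n f) (map T n g) :=
  (ShortComplex.ShortExact.moduleCat_exact_iff_function_exact _).1
    (T.D.exact₂ (sc_shortExact h hf hg) n)

lemma exact₃ (n : ℕ) {f : M →ₗ[R] N} {g : N →ₗ[R] P} (h : Function.Exact f g)
    (hf : Function.Injective f) (hg : Function.Surjective g) :
    Function.Exact (map T n g) (δ T n h hf hg) :=
  (ShortComplex.ShortExact.moduleCat_exact_iff_function_exact _).1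
    (T.D.exact₃ (sc_shortExact h hf hg) n)

lemma exact₁ (n : ℕ) {f : M →ₗ[R] N} {g : N →ₗ[R] P} (h : Function.Exact f g)
    (hf : Function.Injective f) (hg : Function.Surjective g) :
    Function.Exact (δ T n h hf hg) (map T (n + 1) f) :=
  (ShortComplex.ShortExact.moduleCat_exact_iff_function_exact _).1
    (T.D.exact₁ (sc_shortExact h hf hg) n)

/-- Degree zero. -/
noncomputable def zeroEquiv (M : Type u) [AddCommGroup M] [Module R M] :
    H T 0 M ≃ₗ[R] gam I M :=
  (T.zero.app (ModuleCat.of R M)).toLinearEquiv

lemma zeroEquiv_map (f : M →ₗ[R] N) (x : H T 0 M) :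
    zeroEquiv T N (map T 0 f x) = gamMap I f (zeroEquiv T M x) := by
  have := T.zero.hom.naturality (ModuleCat.ofHom f)
  exact congrArg (fun φ => φ.hom x) this

end API

section Linear

/-- multiplication by `r` on the values. -/
def smulNat (r : R) (F : ModuleCat.{u} R ⥤ ModuleCat.{u} R) : F ⟶ F where
  app M := r • 𝟙 (F.obj M)

/-- multiplication by `r` on the argument. -/
def mapSmulNat (r : R) (F : ModuleCat.{u} R ⥤ ModuleCat.{u} R) : F ⟶ F where
  app M := F.map (r • 𝟙 M)
  naturality M N f := by
    rw [← F.map_comp, ← F.map_comp, Linear.comp_smul, Linear.smul_comp, Category.comp_id,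
      Category.id_comp]

/-- `r •` is a morphism of delta functors -/
def smulHom (r : R) (D : DeltaFunctor (ModuleCat.{u} R) (ModuleCat.{u} R)) : DeltaHom D D where
  app n := smulNat r _
  comm hS n := by simp [smulNat]

/-- `T (r •)` is a morphism of delta functors -/
def mapSmulHom (r : R) (D : DeltaFunctor (ModuleCat.{u} R) (ModuleCat.{u} R)) : DeltaHom D D where
  app n := mapSmulNat r _
  comm {S} hS n := by
    let φ : S ⟶ S := { τ₁ := r • 𝟙 _, τ₂ := r • 𝟙 _, τ₃ := r • 𝟙 _ }
    exact D.naturality hS hS φ n

lemma smulHom_eq (r : R) (n : ℕ) : (mapSmulHom r T.D).app n = (smulHom r T.D).app n := by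
  refine DeltaHom.ext_zero T.eff _ _ ?_ n
  ext M x
  have h := T.zero.hom.naturality (r • 𝟙 M)
  have h2 := congrArg (fun φ => φ.hom x) h
  have h3 : T.zero.hom.app M (((T.D.T 0).map (r • 𝟙 M)).hom x) =
      T.zero.hom.app M (r • x) := by
    refine h2.trans ?_
    refine Eq.trans ?_ ((T.zero.hom.app M).hom.map_smul r x).symm
    exact Subtype.ext (by rfl)
  have h4 : Function.Injective (T.zero.hom.app M).hom :=
    (ModuleCat.mono_iff_injective _).1 inferInstance
  exact h4 h3

lemma map_lsmul (n : ℕ) (M : Type u) [AddCommGroup M] [Module R M] (r : R) :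
    map T n (LinearMap.lsmul R M r) = LinearMap.lsmul R (H T n M) r := by
  have h := congrArg (fun φ => (φ.app (ModuleCat.of R M)).hom) (smulHom_eq T r n)
  exact h

end Linear

section Basic

variable {M N P : Type u} [AddCommGroup M] [Module R M] [AddCommGroup N] [Module R N]
  [AddCommGroup P] [Module R P]

lemma subsingleton_of_isZero {X : ModuleCat.{u} R} (h : IsZero X) : Subsingleton X :=
  ModuleCat.isZero_iff_subsingleton.1 h

lemma subsingleton_H_of_torsion [IsNoetherianRing R] (h : LocCoh.IsPowerTorsion I M) (n : ℕ) :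
    Subsingleton (H T (n + 1) M) :=
  subsingleton_of_isZero (T.acyc_of_torsion n (ModuleCat.of R M) h)

lemma isPowerTorsion_of_surjective {f : M →ₗ[R] N} (hf : Function.Surjective f)
    (h : LocCoh.IsPowerTorsion I M) : LocCoh.IsPowerTorsion I N := by
  intro y
  obtain ⟨x, rfl⟩ := hf y
  obtain ⟨n, hn⟩ := h x
  exact ⟨n, fun a ha => by rw [← map_smul, hn a ha, map_zero]⟩

lemma isPowerTorsion_of_injective {f : M →ₗ[R] N} (hf : Function.Injective f)
    (h : LocCoh.IsPowerTorsion I N) : LocCoh.IsPowerTorsion I M := by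
  intro x
  obtain ⟨n, hn⟩ := h (f x)
  exact ⟨n, fun a ha => hf (by rw [map_smul, hn a ha, map_zero])⟩

/-- All cohomology modules are power torsion. -/
lemma isPowerTorsion_H (n : ℕ) (M : Type u) [AddCommGroup M] [Module R M] :
    LocCoh.IsPowerTorsion I (H T n M) := by
  induction n generalizing M with
  | zero => exact isPowerTorsion_of_injective (zeroEquiv T M).injective isPowerTorsion_gam
  | succ n ih =>
    have hS := injSES_shortExact (ModuleCat.of R M)
    have h4 : Epi (T.D.δ hS n) := epi_δ T.D hS n (T.eff (Injective.under (ModuleCat.of R M)) n)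
    have h5 := (ModuleCat.epi_iff_surjective _).1 h4
    have h6 := ih (injSES (ModuleCat.of R M)).X₃
    exact isPowerTorsion_of_surjective h5 h6

/-- The image in degree zero. -/
lemma map_zero_injective {f : M →ₗ[R] N} (hf : Function.Injective f) :
    Function.Injective (map T 0 f) := by
  intro x y hxy
  have := congrArg (zeroEquiv T N) hxy
  rw [zeroEquiv_map, zeroEquiv_map] at this
  exact (zeroEquiv T M).injective (gamMap_injective f hf this)

end Basic

end Groth.Agent.CalgB.LCMod
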