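import Groth.Agent.CalgB.LCLocal

/-!
# The top local cohomology and the dual: associated primes and non-vanishing

For `R` complete Noetherian local, `M` finite of dimension `≤ n`,
`Ass Hom(H^n_m(M), E) = {p ∈ Ass M | dim R/p ≥ n}`, and `H^n_m(M) ≠ 0` if `dim M = n`.
-/

set_option autoImplicit false
set_option linter.unusedSectionVars false
universe u

open CategoryTheory Limits IsLocalRing Pointwise
open Groth.Agent.Localalg.DeltaFun Groth.Agent.Localalg.Gam Groth.Agent.Localalg.LCAbs
open Groth.Agent.Localalg.Matlis
open Groth.Agent.CalgB.LCMod Groth.Agent.CalgB.SuppDim Groth.Agent.CalgB.LCLocal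

namespace Groth.Agent.CalgB.LCTop

variable {R : Type u} [CommRing R] [IsNoetherianRing R] [IsLocalRing R]
  (T : LC (maximalIdeal R))

/-- multiplication by `x` is surjective on the top local cohomology if `x` lies in no associated
prime of maximal dimension. -/
theorem lsmul_surjective {M : Type u} [AddCommGroup M] [Module R M] [Module.Finite R M] {n : ℕ}
    (hn : Module.supportDim R M ≤ n) (x : R)
    (h : ∀ p ∈ associatedPrimes R M, (n : WithBot ℕ∞) ≤ ringKrullDim (R ⧸ p) → x ∉ p) :
    Function.Surjective (LinearMap.lsmul R (H T n M) x) := by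
  rw [← map_lsmul]
  set l := LinearMap.lsmul R M x with hl
  let K := LinearMap.ker l
  let ι : (M ⧸ K) →ₗ[R] M := K.liftQ l le_rfl
  have hι : Function.Injective ι := by
    rw [← LinearMap.ker_eq_bot]; exact Submodule.ker_liftQ_eq_bot _ _ _ le_rfl
  have hfac : l = ι ∘ₗ K.mkQ := by ext y; rfl
  have hKdim : Module.supportDim R K < n :=
    supportDim_lt_of_forall_notMem hn K
      (Module.support_subset_of_injective K.subtype Subtype.val_injective) x
      (fun y => Subtype.ext y.2) h
  let C := M ⧸ LinearMap.range ι
  have hCdim : Module.supportDim R C < n := by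
    refine supportDim_lt_of_forall_notMem hn C
      (Module.support_subset_of_surjective (LinearMap.range ι).mkQ
        (Submodule.mkQ_surjective _)) x ?_ h
    intro y
    obtain ⟨y, rfl⟩ := Submodule.mkQ_surjective _ y
    rw [← map_smul, Submodule.mkQ_apply, Submodule.Quotient.mk_eq_zero]
    exact ⟨K.mkQ y, rfl⟩
  have h1 : Subsingleton (H T (n + 1) K) := subsingleton_H_of_dim_lt T (n + 1) K
    (hKdim.trans_le (by exact_mod_cast Nat.le_succ n))
  have h2 : Subsingleton (H T n C) := subsingleton_H_of_dim_lt T n C hCdim
  rw [hfac, map_comp]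
  refine Function.Surjective.comp (g := map T n ι) ?_ ?_
  · intro y
    refine (exact₂ T n (LinearMap.exact_map_mkQ_range ι) hι (Submodule.mkQ_surjective _) y).1
      (h2.elim _ _)
  · intro y
    exact (exact₃ T n (LinearMap.exact_subtype_mkQ K) Subtype.val_injective
      (Submodule.mkQ_surjective _) y).1 (h1.elim _ _)

section

variable {E : Type u} [AddCommGroup E] [Module R E]

/-- the associated primes of the dual of the top local cohomology -/
theorem ass_dual_subset {M : Type u} [AddCommGroup M] [Module R M] [Module.Finite R M] {n : ℕ}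
    (hn : Module.supportDim R M ≤ n) {q : Ideal R}
    (hq : q ∈ associatedPrimes R (H T n M →ₗ[R] E)) :
    q ∈ associatedPrimes R M ∧ (n : WithBot ℕ∞) ≤ ringKrullDim (R ⧸ q) := by
  have hqp := hq.isPrime
  have h1 : (n : WithBot ℕ∞) ≤ ringKrullDim (R ⧸ q) := by
    by_contra hc
    obtain ⟨x, hxq, hx⟩ := exists_mem_forall_notMem (J := q)
      (S := {p | p ∈ associatedPrimes R M ∧ (n : WithBot ℕ∞) ≤ ringKrullDim (R ⧸ p)})
      ((associatedPrimes.finite R M).subset fun p hp => hp.1) (fun p hp => hp.1.isPrime)
      (fun p hp hle => hc (hp.2.trans (ringKrullDim_quotient_le_of_le hle)))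
    have h2 := lsmul_surjective T hn x (fun p hp hp' => hx p ⟨hp, hp'⟩)
    have h3 : IsSMulRegular (H T n M →ₗ[R] E) x := by
      intro φ ψ hφψ
      ext y
      obtain ⟨y, rfl⟩ := h2 y
      have := LinearMap.congr_fun hφψ y
      simpa using this
    exact (isSMulRegular_iff_forall_notMem.1 h3) q hq hxq
  refine ⟨mem_ass_of_le_dim ?_ hn h1, h1⟩
  refine le_trans ?_ (annihilator_le_of_mem_ass hq)
  intro a ha
  rw [Module.mem_annihilator] at ha ⊢
  have h2 : LinearMap.lsmul R M a = 0 := by ext y; exact ha y
  have h3 := map_lsmul T n M a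
  intro φ
  ext y
  have h4 : a • y = 0 := by
    have := LinearMap.congr_fun h3 y
    rw [h2] at this
    rw [LinearMap.lsmul_apply] at this
    rw [← this]
    unfold map
    rw [ModuleCat.ofHom_zero, Functor.map_zero]
    rfl
  rw [LinearMap.smul_apply, ← map_smul, h4, map_zero, LinearMap.zero_apply]

end

lemma ringKrullDim_maximal : ringKrullDim (R ⧸ maximalIdeal R) = 0 :=
  ringKrullDim_eq_zero_of_isField ((Ideal.Quotient.maximal_ideal_iff_isField_quotient _).1
    (maximalIdeal.isMaximal R))

lemma le_zero_of_le {n : ℕ} (h : (n : WithBot ℕ∞) ≤ 0) : n = 0 := by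
  have h4 : ((n : ℕ) : WithBot ℕ∞) ≤ ((0 : ℕ) : WithBot ℕ∞) := by exact_mod_cast h
  have h5 : n ≤ 0 := by exact_mod_cast h4
  omega

lemma nontrivial_zero {M : Type u} [AddCommGroup M] [Module R M] [Module.Finite R M]
    [Nontrivial M] (h : Module.supportDim R M ≤ 0) : Nontrivial (H T 0 M) := by
  obtain ⟨p, hp⟩ := associatedPrimes.nonempty R M
  have hpp := hp.isPrime
  have hpm : p = maximalIdeal R := by
    rcases (IsLocalRing.le_maximalIdeal hpp.ne_top).lt_or_eq with h1 | h1
    · exfalso
      have h2 := (ringKrullDim_quotient_add_one_le h1).trans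
        ((ringKrullDim_le_supportDim_of_mem_ass hp).trans h)
      rw [ringKrullDim_maximal, zero_add] at h2
      have := le_zero_of_le (n := 1) (by exact_mod_cast h2)
      omega
    · exact h1
  have h3 : gam (maximalIdeal R) M ≠ ⊥ := fun h => maximalIdeal_notMem_ass h (hpm ▸ hp)
  have : Nontrivial (gam (maximalIdeal R) M) := Submodule.nontrivial_iff_ne_bot.2 h3
  exact (zeroEquiv T M).toEquiv.nontrivial

section

variable {E : Type u} [AddCommGroup E] [Module R E] {f : ResidueField R →ₗ[R] E}
  [IsAdicComplete (maximalIdeal R) R] (hf : InjHull.IsInjectiveHull f)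

include hf in
/-- Grothendieck non-vanishing: the dual of the top local cohomology is nonzero. -/
theorem nontrivial_dual (n : ℕ) (M : Type u) [AddCommGroup M] [Module R M] [Module.Finite R M]
    (hn : Module.supportDim R M = n) : Nontrivial (H T n M →ₗ[R] E) := by
  induction n generalizing M with
  | zero =>
    have : Nontrivial M := by
      rw [← Module.supportDim_ne_bot_iff_nontrivial (R := R), hn]
      exact WithBot.coe_ne_bot
    have h1 := nontrivial_zero T (M := M) hn.le
    by_contra hc
    rw [not_nontrivial_iff_subsingleton] at hc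
    have := subsingleton_of_dual hf (H T 0 M)
    exact not_subsingleton _ this
  | succ n ih =>
    set N := M ⧸ gam (maximalIdeal R) M with hN
    have hNle : Module.supportDim R N ≤ (n + 1 : ℕ) := by
      rw [← hn]; exact Module.supportDim_le_of_surjective _ (Submodule.mkQ_surjective _)
    have hNdim : Module.supportDim R N = (n + 1 : ℕ) := by
      refine le_antisymm hNle ?_
      obtain ⟨p, hp, hp'⟩ := exists_le_dim hn.ge
      have h1 := support_subset_of_exact
        (LinearMap.exact_subtype_mkQ (gam (maximalIdeal R) M)) hp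
      rcases h1 with h1 | h1
      · exfalso
        have h2 := (ringKrullDim_le_supportDim h1).trans
          (supportDim_le_zero_of_torsion isPowerTorsion_gam)
        have := le_zero_of_le (hp'.trans h2)
        omega
      · exact hp'.trans (ringKrullDim_le_supportDim h1)
    suffices h : Nontrivial (H T (n + 1) N →ₗ[R] E) by
      exact (LinearEquiv.congrLeft E R (mkQEquiv T n M)).toEquiv.nontrivial
    by_contra hc
    rw [not_nontrivial_iff_subsingleton] at hc
    have h0 : Subsingleton (H T (n + 1) N) := subsingleton_of_dual hf _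
    have hgN : gam (maximalIdeal R) N = ⊥ := gam_quotient
    have hDfin := finite_dual T hf n N
    obtain ⟨x, hxm, hx, hxS⟩ := exists_regular_avoid (M := N) (maximalIdeal_notMem_ass hgN)
      (S := associatedPrimes R (H T n N →ₗ[R] E) \ {maximalIdeal R})
      ((associatedPrimes.finite R _).subset Set.sdiff_subset)
      (fun p hp => hp.1.isPrime) (fun hm => hm.2 rfl)
    have hdim : Module.supportDim R (QuotSMulTop x N) = n := by
      have h1 := Module.supportDim_quotSMulTop_succ_eq_supportDim hx hxm
      rw [hNdim] at h1
      push_cast at h1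
      exact ENat.WithBot.add_one_cancel.1 h1
    have h2 := ih (QuotSMulTop x N) hdim
    obtain ⟨q, hq⟩ := associatedPrimes.nonempty R (H T n (QuotSMulTop x N) →ₗ[R] E)
    have hsurj : Function.Surjective (map T n (x • (⊤ : Submodule R N)).mkQ) := fun y =>
      (exactB T hx n y).1 (h0.elim _ _)
    have hq' : q ∈ associatedPrimes R (H T n N →ₗ[R] E) := by
      refine associatedPrimes.subset_of_injective
        (f := LinearMap.lcomp R E (map T n (x • (⊤ : Submodule R N)).mkQ)) ?_ hq
      intro φ ψ h
      ext y
      obtain ⟨y, rfl⟩ := hsurj y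
      exact LinearMap.congr_fun h y
    have hxq : x ∈ q := by
      refine annihilator_le_of_mem_ass hq ?_
      rw [Module.mem_annihilator]
      intro φ
      ext y
      obtain ⟨y, rfl⟩ := hsurj y
      rw [LinearMap.smul_apply, ← map_smul, ← map_smul]
      have : map T n (x • (⊤ : Submodule R N)).mkQ (x • y) = 0 :=
        (exactA T hx n _).2 ⟨y, rfl⟩
      rw [this, map_zero, LinearMap.zero_apply]
    have hqm : q = maximalIdeal R := by
      by_contra hne
      exact hxS q ⟨hq', hne⟩ hxq
    have h3 := (ass_dual_subset T hdim.le hq).2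
    rw [hqm, ringKrullDim_maximal] at h3
    have h4 := le_zero_of_le h3
    subst h4
    have h5 : Subsingleton (gam (maximalIdeal R) N) := by
      rw [hgN]; infer_instance
    have h6 : Subsingleton (H T 0 N) := (zeroEquiv T N).injective.subsingleton
    rw [associatedPrimes.eq_empty_of_subsingleton] at hq'
    exact hq'

include hf in
theorem mem_support_dual (n : ℕ) {M : Type u} [AddCommGroup M] [Module R M]
    [Module.Finite R M] {p : Ideal R} [hpp : p.IsPrime] (hp : p ∈ associatedPrimes R M)
    (hpn : ringKrullDim (R ⧸ p) = n) :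
    (⟨p, hpp⟩ : PrimeSpectrum R) ∈ Module.support R (H T n M →ₗ[R] E) := by
  rw [AssociatedPrimes.mem_iff, isAssociatedPrime_iff_exists_injective_linearMap] at hp
  obtain ⟨-, g, hg⟩ := hp
  have hdim : Module.supportDim R (R ⧸ p) = n := by
    rw [Module.supportDim_quotient_eq_ringKrullDim, hpn]
  have h1 := nontrivial_dual T hf n (R ⧸ p) hdim
  obtain ⟨q, hq⟩ := associatedPrimes.nonempty R (H T n (R ⧸ p) →ₗ[R] E)
  have h2 := ass_dual_subset T hdim.le hq
  have hqp : q = p := by
    have hle := annihilator_le_of_mem_ass h2.1
    rw [Ideal.annihilator_quotient] at hle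
    rcases hle.lt_or_eq with h | h
    · exfalso
      have h3 := ringKrullDim_quotient_add_one_le h
      rw [hpn] at h3
      have h4 := (add_le_add_left h2.2 1).trans h3
      have h5 : n + 1 ≤ n := by exact_mod_cast h4
      omega
    · exact h.symm
  subst hqp
  have hfin := finite_dual T hf n (R ⧸ q)
  have h3 := mem_support_of_mem_ass hq
  cases n with
  | zero =>
    exact Module.support_subset_of_surjective (LinearMap.lcomp R E (map T 0 g))
      (lcomp_surjective hf.isInjective _ (map_zero_injective T hg)) h3
  | succ n =>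
    have h4 := exact₁ T n (LinearMap.exact_map_mkQ_range g) hg (Submodule.mkQ_surjective _)
    have h5 := support_subset_of_exact (lcomp_exact hf.isInjective _ _ h4) h3
    rcases h5 with h5 | h5
    · exact h5
    · exfalso
      have hfin := finite_dual T hf n (M ⧸ LinearMap.range g)
      have h6 := (ringKrullDim_le_supportDim h5).trans (supportDim_dual_le T hf n _)
      rw [hpn] at h6
      have h7 : n + 1 ≤ n := by exact_mod_cast h6
      omega

include hf in
theorem ass_dual_eq (n : ℕ) {M : Type u} [AddCommGroup M] [Module R M]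
    [Module.Finite R M] (hn : Module.supportDim R M = n) :
    associatedPrimes R (H T n M →ₗ[R] E) =
      {p | p ∈ associatedPrimes R M ∧ ringKrullDim (R ⧸ p) = n} := by
  ext p
  constructor
  · intro hp
    have h1 := ass_dual_subset T hn.le hp
    exact ⟨h1.1, le_antisymm (hn ▸ ringKrullDim_le_supportDim_of_mem_ass h1.1) h1.2⟩
  · rintro ⟨hp, hp'⟩
    have hpp := hp.isPrime
    have hfin := finite_dual T hf n M
    exact mem_ass_of_le_dim (mem_support_iff_le.1 (mem_support_dual T hf n hp hp'))
      (supportDim_dual_le T hf n M) hp'.ge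

include hf in
theorem supportDim_dual_eq (n : ℕ) {M : Type u} [AddCommGroup M] [Module R M]
    [Module.Finite R M] (hn : Module.supportDim R M = n) :
    Module.supportDim R (H T n M →ₗ[R] E) = n := by
  refine le_antisymm (supportDim_dual_le T hf n M) ?_
  have := nontrivial_dual T hf n M hn
  have hfin := finite_dual T hf n M
  obtain ⟨q, hq⟩ := associatedPrimes.nonempty R (H T n M →ₗ[R] E)
  exact (ass_dual_subset T hn.le hq).2.trans (ringKrullDim_le_supportDim_of_mem_ass hq)

end

end Groth.Agent.CalgB.LCTop
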