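import Groth.Agent.Localalg.GorExt
import Groth.Agent.Localalg.InjDim
import Groth.Agent.S0342
import Groth.Agent.S0343
import Groth.Agent.LoccohB.GorBasic
import Mathlib.RingTheory.KrullDimension.Regular
import Mathlib.RingTheory.Regular.RegularSequence

/-!
# Maximal Cohen-Macaulay modules over a Gorenstein local ring have no `Ext^i(-, S)`, `i > 0`

* `subsingleton_ext_of_isWeaklyRegular`: `S` Gorenstein local of dimension `d`, `N` finite with a weakly
  regular sequence of length `r` in the maximal ideal: `Ext^i(N, S) = 0` for `i + r > d`.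
* `exists_lift_gorenstein`, `exists_lift`: lifting `Hom(S/J, S/t) ← Hom(S/J, S)` in colon form.
-/

set_option autoImplicit false
universe u

open CategoryTheory CategoryTheory.Abelian RingTheory.Sequence IsLocalRing
open scoped Pointwise

namespace Groth.Agent.CalgB.LiftMCM

open Groth.Agent.Localalg.InjDim

/-- A Gorenstein local ring of dimension `d` has injective dimension `≤ d`. -/
theorem hasInjectiveDimensionLT (S : Type u) [CommRing S] [LocCoh.IsGorensteinLocalRing S] (d : ℕ)
    (hd : ringKrullDim S = d) : HasInjectiveDimensionLT (ModuleCat.of S S) (d + 1) :=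
  hasInjectiveDimensionLT_of_ext_quotient_maximalIdeal (ModuleCat.of S S) (d + 1) fun i hi =>
    (Localalg.GorExt.ext_residueField d S hd).1 i (by omega)

/-- vanishing of `Ext^i(N, S)` for `i > d - r`. -/
theorem subsingleton_ext_of_isWeaklyRegular (S : Type u) [CommRing S]
    [LocCoh.IsGorensteinLocalRing S] (d : ℕ) (hd : ringKrullDim S = d) (rs : List S)
    (hm : ∀ r ∈ rs, r ∈ maximalIdeal S) :
    ∀ (N : Type u) [AddCommGroup N] [Module S N] [Module.Finite S N]
      (_ : IsWeaklyRegular N rs) (i : ℕ) (_ : d < i + rs.length),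
      Subsingleton (Ext (ModuleCat.of S N) (ModuleCat.of S S) i) := by
  induction rs with
  | nil =>
    intro N _ _ _ _ i hi
    have := hasInjectiveDimensionLT S d hd
    exact HasInjectiveDimensionLT.subsingleton _ (d + 1) i (by simpa using hi) _
  | cons x rs ih =>
    intro N _ _ _ hreg i hi
    rw [isWeaklyRegular_cons_iff] at hreg
    have hreg' : IsSMulRegular (ModuleCat.of S N) x := hreg.1
    have hS := hreg'.smulShortComplex_shortExact
    have hxm : x ∈ maximalIdeal S := hm x List.mem_cons_self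
    refine subsingleton_of_smul_surjective _ x hxm fun e ↦ ?_
    have h3 : Subsingleton (Ext ((ModuleCat.of S N).smulShortComplex x).X₃ (ModuleCat.of S S)
        (i + 1)) :=
      ih (fun r hr => hm r (List.mem_cons_of_mem _ hr)) (QuotSMulTop x N) hreg.2 (i + 1) (by
        rw [List.length_cons] at hi
        omega)
    obtain ⟨y, hy⟩ := Ext.contravariant_sequence_exact₁ hS (ModuleCat.of S S) e (add_comm 1 i)
      (h3.elim _ _)
    change Ext (ModuleCat.of S N) (ModuleCat.of S S) i at y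
    refine ⟨y, ?_⟩
    rw [← hy]
    change _ = (Ext.mk₀ (x • 𝟙 (ModuleCat.of S N))).comp y (zero_add i)
    rw [Ext.mk₀_smul, Ext.smul_comp, Ext.mk₀_id_comp]

/-- Every linear map `N → S/tS` lifts to `N → S` if `N` is maximal Cohen-Macaulay and `t` is regular. -/
theorem exists_lift_linearMap (S : Type u) [CommRing S]
    [LocCoh.IsGorensteinLocalRing S] (d : ℕ) (hd : ringKrullDim S = d) (rs : List S)
    (hm : ∀ r ∈ rs, r ∈ maximalIdeal S) (hlen : rs.length = d)
    (N : Type u) [AddCommGroup N] [Module S N] [Module.Finite S N]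
    (hN : IsWeaklyRegular N rs) (t : S) (ht : IsSMulRegular S t)
    (φ : N →ₗ[S] QuotSMulTop t S) : ∃ ψ : N →ₗ[S] S, (Submodule.mkQ _) ∘ₗ ψ = φ := by
  have ht' : IsSMulRegular (ModuleCat.of S S) t := ht
  have hS := ht'.smulShortComplex_shortExact
  have h1 : Subsingleton (Ext (ModuleCat.of S N) (ModuleCat.of S S) 1) :=
    subsingleton_ext_of_isWeaklyRegular S d hd rs hm N hN 1 (by omega)
  let φ' : ModuleCat.of S N ⟶ ((ModuleCat.of S S).smulShortComplex t).X₃ := ModuleCat.ofHom φ
  obtain ⟨x, hx⟩ := Ext.covariant_sequence_exact₃ (ModuleCat.of S N) hS (Ext.mk₀ φ') (zero_add 1)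
    (h1.elim _ _)
  obtain ⟨ψ, rfl⟩ := (Ext.mk₀_bijective _ _).2 x
  rw [Ext.mk₀_comp_mk₀] at hx
  have h2 := (Ext.mk₀_bijective _ _).1 hx
  refine ⟨ψ.hom, ?_⟩
  have h3 := congrArg ModuleCat.Hom.hom h2
  exact h3

/-- Colon form: `(t) : J ⊆ (0 : J) + (t)`. -/
theorem exists_lift_gorenstein {S : Type u} [CommRing S]
    [LocCoh.IsGorensteinLocalRing S] (J : Ideal S) (rs : List S)
    (hd : ringKrullDim S = rs.length)
    (hm : ∀ r ∈ rs, r ∈ maximalIdeal S)
    (hJ : IsWeaklyRegular (S ⧸ J) rs) (t : S) (ht : IsSMulRegular S t)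
    (x : S) (hx : ∀ a ∈ J, x * a ∈ Ideal.span {t}) :
    ∃ y : S, (∀ a ∈ J, y * a = 0) ∧ x - y ∈ Ideal.span {t} := by
  have hle : J ≤ LinearMap.ker
      ((Submodule.mkQ (t • (⊤ : Submodule S S))) ∘ₗ (LinearMap.toSpanSingleton S S x)) := by
    intro a ha
    rw [LinearMap.mem_ker, LinearMap.comp_apply, Submodule.mkQ_apply,
      Submodule.Quotient.mk_eq_zero, LinearMap.toSpanSingleton_apply, smul_eq_mul, mul_comm]
    obtain ⟨b, hb⟩ := Ideal.mem_span_singleton'.1 (hx a ha)
    rw [Submodule.mem_smul_pointwise_iff_exists]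
    exact ⟨b, trivial, by rw [smul_eq_mul, mul_comm, hb]⟩
  obtain ⟨ψ, hψ⟩ := exists_lift_linearMap S rs.length hd rs hm rfl (S ⧸ J) hJ t ht
    (J.liftQ _ hle)
  refine ⟨ψ (Ideal.Quotient.mk J 1), fun a ha => ?_, ?_⟩
  · rw [mul_comm, ← smul_eq_mul, ← map_smul]
    have : a • (Ideal.Quotient.mk J 1) = 0 := by
      rw [← Ideal.Quotient.mk_eq_mk, ← Submodule.Quotient.mk_smul, Submodule.Quotient.mk_eq_zero,
        smul_eq_mul, mul_one]
      exact ha
    rw [this, map_zero]
  · have h1 := LinearMap.congr_fun hψ (Ideal.Quotient.mk J 1)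
    rw [LinearMap.comp_apply] at h1
    have h2 : (J.liftQ _ hle) (Ideal.Quotient.mk J 1) =
        (Submodule.mkQ (t • (⊤ : Submodule S S))) x := by
      change (Submodule.mkQ (t • (⊤ : Submodule S S))) (LinearMap.toSpanSingleton S S x 1) = _
      rw [LinearMap.toSpanSingleton_apply, one_smul]
    rw [h2, eq_comm, ← sub_eq_zero, ← map_sub, Submodule.mkQ_apply,
      Submodule.Quotient.mk_eq_zero, Submodule.mem_smul_pointwise_iff_exists] at h1
    obtain ⟨b, -, hb⟩ := h1
    rw [← hb]
    exact Ideal.mem_span_singleton'.2 ⟨b, by rw [smul_eq_mul, mul_comm]⟩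

/-- `R/I → (R/K)/(I mod K)` for `K ≤ I` as an `R`-linear equivalence. -/
noncomputable def quotEquiv {R : Type u} [CommRing R] (K I : Ideal R) (h : K ≤ I) :
    ((R ⧸ K) ⧸ I.map (Ideal.Quotient.mk K)) ≃ₗ[R] (R ⧸ I) :=
  { DoubleQuot.quotQuotEquivQuotOfLE h with
    map_smul' := by
      intro r x
      obtain ⟨x, rfl⟩ := Ideal.Quotient.mk_surjective x
      obtain ⟨x, rfl⟩ := Ideal.Quotient.mk_surjective x
      change DoubleQuot.quotQuotEquivQuotOfLE h (DoubleQuot.quotQuotMk K I (r * x)) =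
        r • DoubleQuot.quotQuotEquivQuotOfLE h (DoubleQuot.quotQuotMk K I x)
      rw [DoubleQuot.quotQuotEquivQuotOfLE_quotQuotMk, DoubleQuot.quotQuotEquivQuotOfLE_quotQuotMk,
        map_mul]
      rfl }

/-- The quotient of a Gorenstein local ring by a regular sequence is Gorenstein. -/
theorem fid_quotient_ofList {R : Type u} [CommRing R] (hR : LoccohB.GorBasic.FID R) (fs : List R)
    (hfs : IsWeaklyRegular R fs) : LoccohB.GorBasic.FID (R ⧸ Ideal.ofList fs) := by
  induction fs using List.reverseRecOn with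
  | nil =>
    rw [Ideal.ofList_nil]
    exact hR.of_ringEquiv (RingEquiv.quotientBot R).symm
  | append_singleton fs a ih =>
    rw [isWeaklyRegular_append_iff'] at hfs
    have h1 := ih hfs.1
    have h2 : IsSMulRegular (R ⧸ Ideal.ofList fs) (Ideal.Quotient.mk (Ideal.ofList fs) a) := by
      have h3 := hfs.2
      rw [List.map_singleton, isWeaklyRegular_singleton_iff] at h3
      have e : (R ⧸ (Ideal.ofList fs • ⊤ : Submodule R R)) ≃ₗ[R] (R ⧸ Ideal.ofList fs) :=
        Submodule.quotEquivOfEq _ _ (by simp)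
      rw [isSMulRegular_iff_right_eq_zero_of_smul] at h3 ⊢
      intro x hx
      have h4 : (Ideal.Quotient.mk (Ideal.ofList fs) a) • e.symm x = 0 := by
        have : (Ideal.Quotient.mk (Ideal.ofList fs) a) • e.symm x = a • e.symm x := rfl
        rw [this, ← map_smul]
        have h5 : a • x = 0 := hx
        rw [h5, map_zero]
      have h5 := h3 _ h4
      rwa [LinearEquiv.map_eq_zero_iff] at h5
    refine (h1.quotient _ h2).of_ringEquiv ?_
    rw [Ideal.ofList_append, Ideal.ofList_singleton]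
    refine (Ideal.quotEquivOfEq ?_).trans (DoubleQuot.quotQuotEquivQuotSup _ _)
    rw [Ideal.map_span, Set.image_singleton]

/-- **Lifting lemma.** Let `R` be a Gorenstein local ring, `fs ++ [t]` a regular sequence with `fs ⊆ I` and
`R/I` maximal Cohen-Macaulay over `R/(fs)`.  If `x I ⊆ (fs, t)` then `x ≡ y mod (fs, t)` for some `y` with
`y I ⊆ (fs)`. -/
theorem exists_lift {R : Type u} [CommRing R] [hR : LocCoh.IsGorensteinLocalRing R] (fs : List R) (t : R)
    (rs : List R) (I : Ideal R) (hdim : ringKrullDim R = (fs.length + rs.length : ℕ))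
    (hfs : ∀ f ∈ fs, f ∈ I) (hft : IsRegular R (fs ++ [t])) (hrs : IsWeaklyRegular (R ⧸ I) rs)
    (hm : ∀ r ∈ rs, r ∈ maximalIdeal R) (x : R)
    (hx : ∀ a ∈ I, x * a ∈ Ideal.ofList (fs ++ [t])) :
    ∃ y, (∀ a ∈ I, y * a ∈ Ideal.ofList fs) ∧ x - y ∈ Ideal.ofList (fs ++ [t]) := by
  set K := Ideal.ofList fs with hK
  have hKI : K ≤ I := by
    rw [hK, Ideal.ofList, Ideal.span_le]
    exact hfs
  have hreg := hft.toIsWeaklyRegular
  rw [isWeaklyRegular_append_iff'] at hreg
  have hft' := hft.top_ne_smul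
  have hKm : K ≠ ⊤ := by
    intro h
    apply hft'
    rw [Ideal.ofList_append, ← hK, h, top_sup_eq]
    simp
  have hfsreg : IsRegular R fs := ⟨hreg.1, by
    rw [← hK]
    intro h
    exact hKm (by simpa using h.symm)⟩
  have hnt : Nontrivial (R ⧸ K) := Ideal.Quotient.nontrivial_iff.2 hKm
  have hloc : IsLocalRing (R ⧸ K) :=
    IsLocalRing.of_surjective' (Ideal.Quotient.mk K) Ideal.Quotient.mk_surjective
  have hGor : LocCoh.IsGorensteinLocalRing (R ⧸ K) := by
    rw [LoccohB.GorBasic.isGorensteinLocalRing_iff] at hR ⊢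
    exact ⟨inferInstance, hloc, fid_quotient_ofList hR.2.2 fs hreg.1⟩
  have hdimK : ringKrullDim (R ⧸ K) = rs.length := by
    have h1 := ringKrullDim_add_length_eq_ringKrullDim_of_isRegular fs hfsreg
    rw [hdim, ← hK] at h1
    have h2 : ((fs.length + rs.length : ℕ) : WithBot ℕ∞) = (rs.length : ℕ) + (fs.length : ℕ) := by
      rw [add_comm]; push_cast; rfl
    rw [h2] at h1
    exact ENat.WithBot.add_natCast_cancel.mp h1
  have ht : IsSMulRegular (R ⧸ K) (Ideal.Quotient.mk K t) := by
    have h3 := hreg.2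
    rw [List.map_singleton, isWeaklyRegular_singleton_iff] at h3
    have e : (R ⧸ (Ideal.ofList fs • ⊤ : Submodule R R)) ≃ₗ[R] (R ⧸ K) :=
      Submodule.quotEquivOfEq _ _ (by simp [hK])
    rw [isSMulRegular_iff_right_eq_zero_of_smul] at h3 ⊢
    intro z hz
    have h4 : (Ideal.Quotient.mk (Ideal.ofList fs) t) • e.symm z = 0 := by
      have : (Ideal.Quotient.mk (Ideal.ofList fs) t) • e.symm z = t • e.symm z := rfl
      rw [this, ← map_smul]
      have h5 : t • z = 0 := hz
      rw [h5, map_zero]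
    have h5 := h3 _ h4
    rwa [LinearEquiv.map_eq_zero_iff] at h5
  have hJ : IsWeaklyRegular ((R ⧸ K) ⧸ I.map (Ideal.Quotient.mk K))
      (rs.map (algebraMap R (R ⧸ K))) := by
    rw [isWeaklyRegular_map_algebraMap_iff]
    exact ((quotEquiv K I hKI).isWeaklyRegular_congr rs).2 hrs
  have hmm : ∀ r ∈ rs.map (algebraMap R (R ⧸ K)), r ∈ maximalIdeal (R ⧸ K) := by
    intro r hr
    obtain ⟨r', hr', rfl⟩ := List.mem_map.1 hr
    have h1 := hm r' hr'
    rw [mem_maximalIdeal, mem_nonunits_iff] at h1 ⊢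
    intro hu
    have hlh : IsLocalHom (Ideal.Quotient.mk K) :=
      IsLocalHom.of_surjective (Ideal.Quotient.mk K) Ideal.Quotient.mk_surjective
    exact h1 (hlh.map_nonunit r' hu)
  have hmapt : (Ideal.ofList (fs ++ [t])).map (Ideal.Quotient.mk K) =
      Ideal.span {Ideal.Quotient.mk K t} := by
    rw [Ideal.ofList_append, Ideal.ofList_singleton, Ideal.map_sup, ← hK, Ideal.map_quotient_self,
      bot_sup_eq, Ideal.map_span, Set.image_singleton]
  obtain ⟨y, hy1, hy2⟩ := exists_lift_gorenstein (I.map (Ideal.Quotient.mk K))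
    (rs.map (algebraMap R (R ⧸ K))) (by rw [hdimK, List.length_map]) hmm hJ
    (Ideal.Quotient.mk K t) ht (Ideal.Quotient.mk K x) (fun a ha => by
      obtain ⟨a', ha', rfl⟩ :=
        (Ideal.mem_map_iff_of_surjective _ Ideal.Quotient.mk_surjective).1 ha
      rw [← map_mul, ← hmapt]
      exact Ideal.mem_map_of_mem _ (hx a' ha'))
  obtain ⟨y, rfl⟩ := Ideal.Quotient.mk_surjective y
  refine ⟨y, fun a ha => ?_, ?_⟩
  · have h1 := hy1 _ (Ideal.mem_map_of_mem _ ha)
    rwa [← map_mul, Ideal.Quotient.eq_zero_iff_mem] at h1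
  · rw [← map_sub, ← hmapt] at hy2
    obtain ⟨b, hb, hb'⟩ := (Ideal.mem_map_iff_of_surjective _ Ideal.Quotient.mk_surjective).1 hy2
    have h1 : (x - y) - b ∈ K := by
      rw [← Ideal.Quotient.eq_zero_iff_mem, map_sub, hb', sub_self]
    have h2 : K ≤ Ideal.ofList (fs ++ [t]) := by
      rw [Ideal.ofList_append]
      exact le_sup_left
    have h3 : x - y = ((x - y) - b) + b := by ring
    rw [h3]
    exact add_mem (h2 h1) hb

/-- Members of a regular sequence over a local ring lie in the maximal ideal. -/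
theorem mem_maximalIdeal_of_isRegular {R : Type u} [CommRing R] [IsLocalRing R] {M : Type u}
    [AddCommGroup M] [Module R M] {rs : List R} (h : IsRegular M rs) : ∀ r ∈ rs, r ∈ maximalIdeal R := by
  intro r hr
  by_contra hcon
  rw [mem_maximalIdeal, mem_nonunits_iff, not_not] at hcon
  apply h.top_ne_smul
  have : Ideal.ofList rs = ⊤ :=
    Ideal.eq_top_of_isUnit_mem _ (Ideal.subset_span hr) hcon
  rw [this, Submodule.top_smul]

/-- The form used for S0256: `R` regular local of dimension `n + 2`, `f_1, …, f_n, t` a regular sequence,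
`f_i ∈ I`, and `(t, u)` regular on `R/I`. -/
theorem exists_lift_regular {R : Type u} [CommRing R] [IsRegularLocalRing R] (fs : List R) (t u : R)
    (I : Ideal R) (hdim : ringKrullDim R = (fs.length + 2 : ℕ)) (hfs : ∀ f ∈ fs, f ∈ I)
    (hft : IsRegular R (fs ++ [t])) (hI : IsRegular (R ⧸ I) [t, u]) (x : R)
    (hx : ∀ a ∈ I, x * a ∈ Ideal.ofList (fs ++ [t])) :
    ∃ y, (∀ a ∈ I, y * a ∈ Ideal.ofList fs) ∧ x - y ∈ Ideal.ofList (fs ++ [t]) := by
  have hG : LocCoh.IsGorensteinLocalRing R := S0342.result R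
  exact exists_lift fs t [t, u] I hdim hfs hft hI.toIsWeaklyRegular
    (mem_maximalIdeal_of_isRegular hI) x hx

end Groth.Agent.CalgB.LiftMCM
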