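import Groth.Agent.Models2.Tate
import Groth.Agent.Flat2H.KoszulBC

/-!
# Linkage: if `f = M h` with `f` a regular sequence then `(f) : (h) = (f) + (det M)`

Consequence of Tate's theorem (`Models2.Tate.tate`, helper666) for regular sequences.
-/

set_option autoImplicit false
universe u

namespace Groth.Agent.CalgB.Linkage

variable {R : Type u} [CommRing R] {n : ℕ}

/-- `(f) : (h) ⊆ (f) + (det M)` when `f = M h` and `f` is a (weakly) regular sequence. -/
theorem colon_le (f h : Fin n → R) (M : Matrix (Fin n) (Fin n) R)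
    (hM : ∀ i, f i = ∑ j, M i j * h j)
    (hf : RingTheory.Sequence.IsWeaklyRegular R (List.ofFn f)) (x : R)
    (hx : ∀ j, x * h j ∈ Ideal.span (Set.range f)) :
    x ∈ Ideal.span (Set.range f) ⊔ Ideal.span {M.det} := by
  have hreg : LCI.IsKoszulRegularSeq R (List.ofFn f) :=
    Flat2H.KoszulBC.isKoszulRegularSeq_of_isWeaklyRegular hf
  refine Models2.Tate.tate hreg f h M hM ?_ (by simp) x hx
  intro a ha
  rw [List.mem_ofFn'] at ha
  obtain ⟨i, rfl⟩ := ha
  exact Ideal.subset_span ⟨i, rfl⟩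

/-- `det M · h_j ∈ (f)` (Cramer). -/
theorem det_mul_mem (f h : Fin n → R) (M : Matrix (Fin n) (Fin n) R)
    (hM : ∀ i, f i = ∑ j, M i j * h j) (j : Fin n) :
    M.det * h j ∈ Ideal.span (Set.range f) := by
  have h1 : M.mulVec h = f := by
    ext i
    rw [hM i]
    rfl
  have h2 : M.det * h j = ∑ i, M.adjugate j i * f i := by
    have h3 : (M.adjugate.mulVec (M.mulVec h)) j = M.det * h j := by
      rw [Matrix.mulVec_mulVec, Matrix.adjugate_mul, Matrix.smul_mulVec, Matrix.one_mulVec]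
      rfl
    rw [← h3, h1]
    rfl
  rw [h2]
  exact sum_mem fun i _ => Ideal.mul_mem_left _ _ (Ideal.subset_span ⟨i, rfl⟩)

/-- `(f) : (h) = (f) + (det M)`. -/
theorem mem_iff (f h : Fin n → R) (M : Matrix (Fin n) (Fin n) R)
    (hM : ∀ i, f i = ∑ j, M i j * h j)
    (hf : RingTheory.Sequence.IsWeaklyRegular R (List.ofFn f)) (x : R) :
    (∀ j, x * h j ∈ Ideal.span (Set.range f)) ↔
      x ∈ Ideal.span (Set.range f) ⊔ Ideal.span {M.det} := by
  refine ⟨colon_le f h M hM hf x, fun hx j => ?_⟩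
  obtain ⟨a, ha, b, hb, rfl⟩ := Submodule.mem_sup.1 hx
  obtain ⟨t, rfl⟩ := Ideal.mem_span_singleton'.1 hb
  rw [add_mul, mul_assoc]
  exact add_mem (Ideal.mul_mem_right _ _ ha) (Ideal.mul_mem_left _ _ (det_mul_mem f h M hM j))

end Groth.Agent.CalgB.Linkage
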