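import Groth.Agent.CalgB.LocalCritFP

/-!
# Matrix models of finitely presented modules over finitely presented algebras

`exists_model`: `M` f.p. over `S` f.p. over `R` is isomorphic to the module `Mod (vmap R v)` presented by a matrix `v`
over `A[x_1, …, x_n]` with `A ⊆ R` a Noetherian subring.
`flatAt_model_iff`: flatness at a prime of `S` is flatness at the corresponding prime of `R[x]`.
`flatAt_baseChange`: flatness at a prime passes from the model over `A` to the one over an `A`-algebra `C`.
-/

set_option autoImplicit false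
universe u

open TensorProduct Function

namespace Groth.Agent.CalgB.MatModel

open Groth.Agent.Flat2E.QFlat Groth.Agent.Flat2E.PolyModel Groth.Agent.Flat2E.FlatApprox
open Groth.Agent.CalgB.LocalCritFP

/-- Matrix model over a Noetherian subring. -/
theorem exists_model {R S M : Type u} [CommRing R] [CommRing S] [Algebra R S] [Algebra.FinitePresentation R S]
    [AddCommGroup M] [Module R M] [Module S M] [IsScalarTower R S M] [Module.FinitePresentation S M] :
    ∃ (n m r : ℕ) (A : Subalgebra ℤ R) (_ : IsNoetherianRing A) (ρ : MvPolynomial (Fin n) R →ₐ[R] S)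
      (v : Fin m → Fin r → MvPolynomial (Fin n) A) (e : M ≃ₗ[R] Mod (vmap R v)),
      Surjective ρ ∧ A.FG ∧ ∀ p x, e (ρ p • x) = p • e x := by
  classical
  obtain ⟨n, f, hf, hker⟩ := Algebra.FinitePresentation.out (R := R) (A := S)
  let P := MvPolynomial (Fin n) R
  let _ : Algebra P S := f.toAlgebra
  have : IsScalarTower R P S := IsScalarTower.of_algebraMap_eq (fun a => (f.commutes a).symm)
  let _ : Module P M := Module.compHom M f.toRingHom
  have : IsScalarTower P S M := IsScalarTower.of_algebraMap_smul (fun r x => rfl)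
  have : IsScalarTower R P M := IsScalarTower.of_algebraMap_smul (fun a x => by
    change f (algebraMap R P a) • x = a • x
    rw [f.commutes, algebraMap_smul])
  have h3 : Module.FinitePresentation P S :=
    Module.finitePresentation_of_surjective (Algebra.linearMap P S) hf hker
  have h4 : Module.FinitePresentation P M := Module.FinitePresentation.trans P M S
  obtain ⟨r, m, g, φ, hg, hφg⟩ := Module.FinitePresentation.exists_fin' P M
  let s : Finset R := Finset.univ.biUnion fun j : Fin m => Finset.univ.biUnion fun i : Fin r =>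
    (φ (Pi.single j 1) i).coeffs
  let A : Subalgebra ℤ R := Algebra.adjoin ℤ (s : Set R)
  have : Algebra.FiniteType ℤ A := (Subalgebra.fg_iff_finiteType _).mp (Subalgebra.fg_adjoin_finset s)
  have hA : IsNoetherianRing A := Algebra.FiniteType.isNoetherianRing ℤ A
  have hcoeff : ∀ j, ∃ w : Fin r → MvPolynomial (Fin n) A, ext (Fin n) A R (Fin r) w = φ (Pi.single j 1) := by
    intro j
    refine exists_ext_eq _ fun i a ha => ⟨⟨a, Algebra.subset_adjoin ?_⟩, rfl⟩
    rw [Finset.mem_coe, Finset.mem_biUnion]
    refine ⟨j, Finset.mem_univ _, ?_⟩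
    rw [Finset.mem_biUnion]
    exact ⟨i, Finset.mem_univ _, ha⟩
  choose v hv using hcoeff
  have hφ : phi (vmap R v) = φ := by
    refine LinearMap.pi_ext' fun j => LinearMap.ext_ring ?_
    simp only [LinearMap.comp_apply, LinearMap.coe_single, phi, Fintype.linearCombination_apply_single, one_smul]
    exact hv j
  have hrange : LinearMap.range (phi (vmap R v)) = LinearMap.ker g := by
    rw [hφ]
    exact (LinearMap.exact_iff.1 hφg).symm
  let e : M ≃ₗ[P] Mod (vmap R v) :=
    (g.quotKerEquivOfSurjective hg).symm ≪≫ₗ (Submodule.quotEquivOfEq _ _ hrange.symm)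
  let eR : M ≃ₗ[R] Mod (vmap R v) := e.restrictScalars R
  exact ⟨n, m, r, A, hA, f, v, eR, hf, Subalgebra.fg_adjoin_finset s, fun p x => e.map_smul p x⟩

/-- Transfer of flatness at a prime along a surjection of algebras. -/
theorem flatAt_model_iff {R S P M M' : Type u} [CommRing R] [CommRing S] [CommRing P] [Algebra R S]
    [Algebra R P] [AddCommGroup M] [AddCommGroup M'] [Module R M] [Module S M] [IsScalarTower R S M]
    [Module R M'] [Module P M'] [IsScalarTower R P M'] (ρ : P →+* S) (hρ : Surjective ρ) (e : M ≃ₗ[R] M')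
    (he : ∀ p m, e (ρ p • m) = p • e m) (q : Ideal S) [q.IsPrime] (q' : Ideal P) [q'.IsPrime]
    (hq : q' = q.comap ρ) :
    Module.Flat R (LocalizedModule q.primeCompl M) ↔ Module.Flat R (LocalizedModule q'.primeCompl M') := by
  subst hq
  constructor
  · intro h
    have h1 := Groth.Agent.Flat2E.FlatCrit.qflat_of_flat_bot q.primeCompl M
      (LocalizedModule.mkLinearMap q.primeCompl M) h ⊥
    refine Groth.Agent.Flat2E.FlatCrit.flat_of_qflat_bot (q.comap ρ).primeCompl M'
      (LocalizedModule.mkLinearMap (q.comap ρ).primeCompl M') ?_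
    intro N N' _ _ _ _ hN hN' h hh
    exact torsion_transfer ρ hρ e he q.primeCompl (q.comap ρ).primeCompl (fun p hp => hp) h
      (h1 N N' hN hN' h hh)
  · intro h
    have h1 := Groth.Agent.Flat2E.FlatCrit.qflat_of_flat_bot (q.comap ρ).primeCompl M'
      (LocalizedModule.mkLinearMap (q.comap ρ).primeCompl M') h ⊥
    refine Groth.Agent.Flat2E.FlatCrit.flat_of_qflat_bot q.primeCompl M
      (LocalizedModule.mkLinearMap q.primeCompl M) ?_
    intro N N' _ _ _ _ hN hN' h hh
    exact torsion_transfer' ρ e he q.primeCompl (q.comap ρ).primeCompl (fun p hp => hp) h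
      (h1 N N' hN hN' h hh)

/-- Base change of flatness at a prime for matrix models. -/
theorem flatAt_baseChange {A C : Type u} [CommRing A] [CommRing C] [Algebra A C] {n m r : ℕ}
    (v : Fin m → Fin r → MvPolynomial (Fin n) A) (q : Ideal (MvPolynomial (Fin n) C)) [q.IsPrime]
    (h : Module.Flat A (LocalizedModule (q.comap (MvPolynomial.map (algebraMap A C))).primeCompl (Mod v))) :
    Module.Flat C (LocalizedModule q.primeCompl (Mod (vmap C v))) := by
  have h1 := Groth.Agent.Flat2E.FlatCrit.qflat_of_flat_bot
    (q.comap (MvPolynomial.map (algebraMap A C))).primeCompl (Mod v)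
    (LocalizedModule.mkLinearMap (q.comap (MvPolynomial.map (algebraMap A C))).primeCompl (Mod v)) h ⊥
  refine Groth.Agent.Flat2E.FlatCrit.flat_of_qflat_bot q.primeCompl (Mod (vmap C v))
    (LocalizedModule.mkLinearMap q.primeCompl (Mod (vmap C v))) ?_
  refine QFlat.baseChange (isBaseChange_modMap (C := C) v) (MvPolynomial.map (algebraMap A C)) (modMap_smul v)
    (q.comap (MvPolynomial.map (algebraMap A C))).primeCompl q.primeCompl (fun t ht => ht) ⊥ ⊥ ?_ h1
  intro r hr
  rw [(Submodule.mem_bot A).1 hr, map_zero]
  exact zero_mem _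

end Groth.Agent.CalgB.MatModel
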