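import Groth.Agent.CalgB.MilWeak
import Mathlib.AlgebraicGeometry.Morphisms.Flat
import Mathlib.RingTheory.Flat.Basic
import Mathlib.RingTheory.Flat.Stability

/-!
# The Milnor square of two ideals with zero intersection, over a flat scheme

`A` a ring, `J₁ ⊓ J₂ = ⊥`, `g : W ⟶ Spec A` flat.  Then `W` is "glued" from `W ×_A A/J₁` and
`W ×_A A/J₂` along their intersection (`isWeak_of_ideals`).
-/

set_option autoImplicit false
universe u
open AlgebraicGeometry CategoryTheory CategoryTheory.Limits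

namespace Groth.Agent.CalgB.MilFlat

open Groth.Agent.Pi1C.SecOver Groth.Agent.CalgB.MilWeak

section algebra

open TensorProduct

theorem map_inf_map_eq_bot {A B : Type*} [CommRing A] [CommRing B] [Algebra A B]
    [Module.Flat A B] (J₁ J₂ : Ideal A) (h : J₁ ⊓ J₂ = ⊥) :
    J₁.map (algebraMap A B) ⊓ J₂.map (algebraMap A B) = ⊥ := by
  rw [eq_bot_iff]
  intro x hx
  -- vanishing in `B ⊗ A ⧸ J`
  have key : ∀ (J : Ideal A), x ∈ J.map (algebraMap A B) →
      (x ⊗ₜ[A] (1 : A ⧸ J) : B ⊗[A] (A ⧸ J)) = 0 := by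
    intro J hxJ
    refine Submodule.span_induction (p := fun y _ => (y ⊗ₜ[A] (1 : A ⧸ J) : B ⊗[A] (A ⧸ J)) = 0)
      ?_ ?_ ?_ ?_ hxJ
    · rintro _ ⟨a, ha, rfl⟩
      rw [Algebra.algebraMap_eq_smul_one, TensorProduct.smul_tmul]
      have : a • (1 : A ⧸ J) = 0 := by
        rw [← map_one (Ideal.Quotient.mk J), ← Ideal.Quotient.mk_eq_mk, ← Submodule.Quotient.mk_smul,
          Submodule.Quotient.mk_eq_zero, smul_eq_mul, mul_one]
        exact ha
      rw [this, TensorProduct.tmul_zero]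
    · rw [TensorProduct.zero_tmul]
    · intro y z _ _ hy hz
      rw [TensorProduct.add_tmul, hy, hz, add_zero]
    · intro b y _ hy
      have : ((b • y) ⊗ₜ[A] (1 : A ⧸ J) : B ⊗[A] (A ⧸ J)) = b • (y ⊗ₜ[A] (1 : A ⧸ J)) := by
        rw [TensorProduct.smul_tmul']
      rw [this, hy, smul_zero]
  let φ : A →ₗ[A] (A ⧸ J₁) × (A ⧸ J₂) := LinearMap.prod (Submodule.mkQ J₁) (Submodule.mkQ J₂)
  have hφ : Function.Injective φ := by
    rw [← LinearMap.ker_eq_bot, eq_bot_iff]
    intro y hy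
    have h1 : y ∈ J₁ := by
      have := congrArg Prod.fst (LinearMap.mem_ker.mp hy)
      exact (Submodule.Quotient.mk_eq_zero J₁).mp this
    have h2 : y ∈ J₂ := by
      have := congrArg Prod.snd (LinearMap.mem_ker.mp hy)
      exact (Submodule.Quotient.mk_eq_zero J₂).mp this
    exact h.le ⟨h1, h2⟩
  have hinj := Module.Flat.lTensor_preserves_injective_linearMap (M := B) φ hφ
  have h0 : (x ⊗ₜ[A] (1 : A) : B ⊗[A] A) = 0 := by
    apply hinj
    rw [map_zero, LinearMap.lTensor_tmul]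
    apply (TensorProduct.prodRight A A B (A ⧸ J₁) (A ⧸ J₂)).injective
    rw [map_zero]
    change (TensorProduct.prodRight A A B (A ⧸ J₁) (A ⧸ J₂))
      (x ⊗ₜ[A] ((1 : A ⧸ J₁), (1 : A ⧸ J₂))) = 0
    rw [TensorProduct.prodRight_tmul]
    exact Prod.ext (key J₁ hx.1) (key J₂ hx.2)
  have h1 := congrArg (TensorProduct.rid A B) h0
  rw [TensorProduct.rid_tmul, one_smul, map_zero] at h1
  exact h1

theorem ker_le_of_isPushout {A B C D : CommRingCat.{u}} {f : A ⟶ B} {p : A ⟶ C} {p' : B ⟶ D}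
    {f' : C ⟶ D} (H : IsPushout f p p' f') (hp : Function.Surjective p.hom) :
    RingHom.ker p'.hom ≤ (RingHom.ker p.hom).map f.hom := by
  let I : Ideal B := (RingHom.ker p.hom).map f.hom
  have hle : RingHom.ker p.hom ≤ RingHom.ker ((Ideal.Quotient.mk I).comp f.hom) := by
    intro x hx
    rw [RingHom.mem_ker, RingHom.comp_apply, Ideal.Quotient.eq_zero_iff_mem]
    exact Ideal.mem_map_of_mem _ hx
  let c : C ⟶ CommRingCat.of (B ⧸ I) :=
    CommRingCat.ofHom (RingHom.liftOfSurjective p.hom hp ⟨(Ideal.Quotient.mk I).comp f.hom, hle⟩)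
  have hw : f ≫ CommRingCat.ofHom (Ideal.Quotient.mk I) = p ≫ c := by
    ext x
    exact (p.hom.liftOfRightInverse_comp_apply _ (Function.rightInverse_surjInv hp)
      ⟨(Ideal.Quotient.mk I).comp f.hom, hle⟩ x).symm
  intro x hx
  have h1 : p' ≫ H.desc _ _ hw = CommRingCat.ofHom (Ideal.Quotient.mk I) := H.inl_desc _ _ _
  have h2 : Ideal.Quotient.mk I x = (H.desc _ _ hw).hom (p'.hom x) := by
    rw [← CommRingCat.comp_apply, h1]
    rfl
  rw [← Ideal.Quotient.eq_zero_iff_mem, h2, (RingHom.mem_ker).mp hx, map_zero]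

/-- Two surjections with the pushout of their targets: elements agreeing in the pushout lift. -/
theorem exists_lift_of_isPushout {B C₁ C₂ D : CommRingCat.{u}} {p₁ : B ⟶ C₁} {p₂ : B ⟶ C₂}
    {q₁ : C₁ ⟶ D} {q₂ : C₂ ⟶ D} (H : IsPushout p₁ p₂ q₁ q₂) (h₁ : Function.Surjective p₁.hom)
    (h₂ : Function.Surjective p₂.hom) (t : C₁) (s : C₂) (hst : q₁.hom t = q₂.hom s) :
    ∃ r : B, p₁.hom r = t ∧ p₂.hom r = s := by
  obtain ⟨t', rfl⟩ := h₁ t
  obtain ⟨s', rfl⟩ := h₂ s
  have hw : q₂.hom (p₂.hom s') = q₁.hom (p₁.hom s') := by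
    rw [← CommRingCat.comp_apply, ← CommRingCat.comp_apply, H.w]
  have h3 : p₁.hom (t' - s') ∈ RingHom.ker q₁.hom := by
    rw [RingHom.mem_ker, map_sub, map_sub, hst, hw, sub_self]
  have h4 := ker_le_of_isPushout H h₂ h3
  rw [Ideal.mem_map_iff_of_surjective _ h₁] at h4
  obtain ⟨y, hy, hy'⟩ := h4
  refine ⟨s' + y, ?_, ?_⟩
  · rw [map_add, hy', map_sub]
    ring
  · rw [map_add, (RingHom.mem_ker).mp hy, add_zero]

end algebra

section scheme

variable {A : Type u} [CommRing A]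

theorem appTop_surj (J : Ideal A) : Function.Surjective
    ((Spec.map (CommRingCat.ofHom (Ideal.Quotient.mk J))).appLE ⊤ ⊤ le_rfl).hom := by
  have h1 : IsClosedImmersion (Spec.map (CommRingCat.ofHom (Ideal.Quotient.mk J))) :=
    IsClosedImmersion.spec_of_surjective _ Ideal.Quotient.mk_surjective
  have h2 := Scheme.Hom.app_surjective (Spec.map (CommRingCat.ofHom (Ideal.Quotient.mk J))) ⊤
    (isAffineOpen_top _)
  rw [Scheme.Hom.app_eq_appLE] at h2
  exact h2

theorem mem_of_appTop (J : Ideal A) (s : Γ(Spec (CommRingCat.of A), ⊤))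
    (h : ((Spec.map (CommRingCat.ofHom (Ideal.Quotient.mk J))).appLE ⊤ ⊤ le_rfl).hom s = 0) :
    (Scheme.ΓSpecIso (CommRingCat.of A)).hom.hom s ∈ J := by
  have h1 := Scheme.ΓSpecIso_naturality (CommRingCat.ofHom (Ideal.Quotient.mk J))
  have h2 := congrArg (fun m => m.hom s) h1
  have h3 : (Spec.map (CommRingCat.ofHom (Ideal.Quotient.mk J))).appTop.hom s = 0 := by
    rw [Scheme.Hom.appTop, Scheme.Hom.app_eq_appLE]
    exact h
  rw [← Ideal.Quotient.eq_zero_iff_mem]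
  refine h2.symm.trans ?_
  change (Scheme.ΓSpecIso _).hom.hom
    ((Spec.map (CommRingCat.ofHom (Ideal.Quotient.mk J))).appTop.hom s) = 0
  rw [h3, map_zero]

variable {W X Y Z : Scheme.{u}} (g : W ⟶ Spec (CommRingCat.of A))

theorem isPushout_of_isPullback (J : Ideal A)
    (a : X ⟶ W) (x : X ⟶ Spec (CommRingCat.of (A ⧸ J)))
    (hX : IsPullback a x g (Spec.map (CommRingCat.ofHom (Ideal.Quotient.mk J))))
    (O : W.Opens) (hO : IsAffineOpen O) :
    IsPushout (g.appLE ⊤ O le_top)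
      ((Spec.map (CommRingCat.ofHom (Ideal.Quotient.mk J))).appLE ⊤ ⊤ le_rfl)
      (a.app O) (x.appLE ⊤ (a ⁻¹ᵁ O) le_top) := by
  have hUY : a ⁻¹ᵁ O = a ⁻¹ᵁ O ⊓ x ⁻¹ᵁ ⊤ := by simp
  have h1 := (isIso_pushoutSection_iff hX
    (show (⊤ : (Spec (CommRingCat.of (A ⧸ J))).Opens) ≤
      (Spec.map (CommRingCat.ofHom (Ideal.Quotient.mk J))) ⁻¹ᵁ ⊤ from le_rfl)
    (show O ≤ g ⁻¹ᵁ ⊤ from le_top) hUY).mp
    (isIso_pushoutSection_of_isAffineOpen hX _ _ hUY (isAffineOpen_top _) (isAffineOpen_top _) hO)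
  rw [Scheme.Hom.app_eq_appLE]
  exact h1

theorem isWeak_of_ideals (J₁ J₂ : Ideal A) (hJ : J₁ ⊓ J₂ = ⊥) [Flat g]
    (a : X ⟶ W) (x : X ⟶ Spec (CommRingCat.of (A ⧸ J₁)))
    (hX : IsPullback a x g (Spec.map (CommRingCat.ofHom (Ideal.Quotient.mk J₁))))
    (b : Y ⟶ W) (y : Y ⟶ Spec (CommRingCat.of (A ⧸ J₂)))
    (hY : IsPullback b y g (Spec.map (CommRingCat.ofHom (Ideal.Quotient.mk J₂))))
    (i : Z ⟶ X) (j : Z ⟶ Y) (hZ : IsPullback i j a b) : IsWeak i j a b := by
  have c1 : IsClosedImmersion (Spec.map (CommRingCat.ofHom (Ideal.Quotient.mk J₁))) :=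
    IsClosedImmersion.spec_of_surjective _ Ideal.Quotient.mk_surjective
  have c2 : IsClosedImmersion (Spec.map (CommRingCat.ofHom (Ideal.Quotient.mk J₂))) :=
    IsClosedImmersion.spec_of_surjective _ Ideal.Quotient.mk_surjective
  have ha : IsClosedImmersion a :=
    MorphismProperty.of_isPullback (P := @IsClosedImmersion) hX.flip inferInstance
  have hb : IsClosedImmersion b :=
    MorphismProperty.of_isPullback (P := @IsClosedImmersion) hY.flip inferInstance
  have hw := hZ.w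
  refine ⟨hw, inferInstance, inferInstance, ?_, ?_⟩
  · intro O hO s t hst
    have h1 := isPushout_sec O hZ (𝟙 W) a b (i ≫ a) (Category.comp_id _) (Category.comp_id _) rfl
      hw.symm hO (hO.preimage a) (hO.preimage b)
    have e1 : sec O a (𝟙 W) a (Category.comp_id _) = a.app O := (Scheme.Hom.app_eq_appLE a).symm
    have e2 : sec O b (𝟙 W) b (Category.comp_id _) = b.app O := (Scheme.Hom.app_eq_appLE b).symm
    rw [e1, e2] at h1
    obtain ⟨r, hr1, hr2⟩ := exists_lift_of_isPushout h1 (Scheme.Hom.app_surjective a O hO)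
      (Scheme.Hom.app_surjective b O hO) t s hst.symm
    exact ⟨r, hr2, hr1⟩
  · intro O hO r r' h1 h2
    have p1 := ker_le_of_isPushout (isPushout_of_isPullback g J₁ a x hX O hO) (appTop_surj J₁)
    have p2 := ker_le_of_isPushout (isPushout_of_isPullback g J₂ b y hY O hO) (appTop_surj J₂)
    let φ : Γ(Spec (CommRingCat.of A), ⊤) →+* Γ(W, O) := (g.appLE ⊤ O le_top).hom
    have hφ : φ.Flat := HasRingHomProperty.appLE (P := @Flat) g inferInstance
      ⟨⊤, isAffineOpen_top _⟩ ⟨O, hO⟩ _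
    let _ : Algebra Γ(Spec (CommRingCat.of A), ⊤) Γ(W, O) := φ.toAlgebra
    have : Module.Flat Γ(Spec (CommRingCat.of A), ⊤) Γ(W, O) := hφ
    have hbot := map_inf_map_eq_bot (A := Γ(Spec (CommRingCat.of A), ⊤)) (B := Γ(W, O))
      (RingHom.ker ((Spec.map (CommRingCat.ofHom (Ideal.Quotient.mk J₁))).appLE ⊤ ⊤ le_rfl).hom)
      (RingHom.ker ((Spec.map (CommRingCat.ofHom (Ideal.Quotient.mk J₂))).appLE ⊤ ⊤ le_rfl).hom)
      (by
        rw [eq_bot_iff]
        rintro s ⟨hs1, hs2⟩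
        have m1 := mem_of_appTop J₁ s hs1
        have m2 := mem_of_appTop J₂ s hs2
        have m3 : (Scheme.ΓSpecIso (CommRingCat.of A)).hom.hom s ∈ J₁ ⊓ J₂ := ⟨m1, m2⟩
        rw [hJ] at m3
        have m4 : (Scheme.ΓSpecIso (CommRingCat.of A)).hom.hom s = 0 := m3
        have hinj : Function.Injective (Scheme.ΓSpecIso (CommRingCat.of A)).hom.hom :=
          (ConcreteCategory.bijective_of_isIso (Scheme.ΓSpecIso (CommRingCat.of A)).hom).1
        exact hinj (m4.trans (map_zero _).symm))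
    have hmem : r - r' ∈ (⊥ : Ideal Γ(W, O)) := by
      rw [← hbot]
      refine ⟨p1 ?_, p2 ?_⟩
      · rw [RingHom.mem_ker, map_sub, sub_eq_zero]
        exact h2
      · rw [RingHom.mem_ker, map_sub, sub_eq_zero]
        exact h1
    exact sub_eq_zero.mp hmem

end scheme

end Groth.Agent.CalgB.MilFlat
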