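import Groth.Agent.CalgB.MilFlat
import Groth.Agent.Pi1C.NbhdExt
import Groth.Agent.S0238

/-!
# Reduction of the extension problem for finite etale covers to a quotient

`nbhdExt_of_quotient`: `A` local, `T` an ideal with `T ⊓ (f ^ N) = ⊥`.  If finite etale covers of
`U(A ⧸ T) ∩ V(f)` extend to neighbourhoods, so do those of `U(A) ∩ V(f)`.
-/

set_option autoImplicit false
universe u
open AlgebraicGeometry CategoryTheory CategoryTheory.Limits

namespace Groth.Agent.CalgB.MilRed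

open Groth.Agent.Pi1C.PurityQuot Groth.Agent.Pi1C.NbhdExt Groth.Agent.CalgB.MilFlat
open Groth.Agent.CalgB.MilWeak

/-- A preimage along an equivalence. -/
theorem exists_obj_iso {X Y : Scheme.{u}} (f : X ⟶ Y) (h : (FEt.restrict f).IsEquivalence)
    (V : FEt.Cat X) : ∃ V' : FEt.Cat Y, Nonempty ((FEt.restrict f).obj V' ≅ V) :=
  ⟨(FEt.restrict f).objPreimage V, ⟨(FEt.restrict f).objObjPreimageIso V⟩⟩

/-- A point of `Spec A` containing `I` comes from `Spec A ⧸ I`. -/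
theorem exists_preimage_mk {A : Type u} [CommRing A] (I : Ideal A)
    (p : Spec (CommRingCat.of A)) (h : I ≤ PrimeSpectrum.asIdeal p) :
    ∃ q, (Spec.map (CommRingCat.ofHom (Ideal.Quotient.mk I))).base q = p := by
  have h1 : p ∈ Set.range (PrimeSpectrum.comap (Ideal.Quotient.mk I)) := by
    rw [range_comap_of_surjective _ _ Ideal.Quotient.mk_surjective, Ideal.mk_ker]
    exact h
  exact h1

theorem le_of_mk {A : Type u} [CommRing A] (I : Ideal A)
    (q : Spec (CommRingCat.of (A ⧸ I))) :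
    I ≤ PrimeSpectrum.asIdeal ((Spec.map (CommRingCat.ofHom (Ideal.Quotient.mk I))).base q) := by
  intro x hx
  change Ideal.Quotient.mk I x ∈ PrimeSpectrum.asIdeal q
  rw [Ideal.Quotient.eq_zero_iff_mem.mpr hx]
  exact Ideal.zero_mem _

/-- The geometric heart: gluing a cover over a neighbourhood in the closed subscheme with the
thickening of the cover of `U ∩ V(f)`. -/
theorem extends_of_data {A : Type u} [CommRing A] [IsLocalRing A] (f : A) (T : Ideal A) (N : ℕ)
    (hN : N ≠ 0) (hT : T ⊓ Ideal.span {f ^ N} = ⊥)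
    {U0 U1 U10 : Scheme.{u}} (l : U0 ⟶ (FEt.puncturedSpec A : Scheme.{u}))
    (s : U0 ⟶ Spec (CommRingCat.of (A ⧸ Ideal.span {f})))
    (hl : IsPullback l s (FEt.puncturedSpec A).ι (mk A f))
    (c1 : U1 ⟶ (FEt.puncturedSpec A : Scheme.{u})) (r1 : U1 ⟶ Spec (CommRingCat.of (A ⧸ T)))
    (hc1 : IsPullback c1 r1 (FEt.puncturedSpec A).ι
      (Spec.map (CommRingCat.ofHom (Ideal.Quotient.mk T))))
    (l1 : U10 ⟶ U1) [IsClosedImmersion l1] (d : U10 ⟶ U0) (hd : d ≫ l = l1 ≫ c1)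
    (hl1 : ∀ x : U1, f ∈ PrimeSpectrum.asIdeal ((FEt.puncturedSpec A).ι.base (c1.base x)) →
      ∃ w, l1.base w = x)
    (V0 : FEt.Cat U0) (W : (FEt.puncturedSpec A : Scheme.{u}).Opens)
    (hW : ∀ x : (FEt.puncturedSpec A : Scheme.{u}),
      f ∈ PrimeSpectrum.asIdeal ((FEt.puncturedSpec A).ι x) → x ∈ W)
    (V1 : FEt.Cat ((c1 ⁻¹ᵁ W : U1.Opens) : Scheme.{u}))
    (t1 : U10 ⟶ ((c1 ⁻¹ᵁ W : U1.Opens) : Scheme.{u})) (ht1 : t1 ≫ (c1 ⁻¹ᵁ W).ι = l1)
    (i1 : (FEt.restrict t1).obj V1 ≅ (FEt.restrict d).obj V0) : Extends A f l V0 := by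
  -- the closed immersions
  have hmkf : IsClosedImmersion (mk A f) :=
    IsClosedImmersion.spec_of_surjective _ Ideal.Quotient.mk_surjective
  have hmkT : IsClosedImmersion (Spec.map (CommRingCat.ofHom (Ideal.Quotient.mk T))) :=
    IsClosedImmersion.spec_of_surjective _ Ideal.Quotient.mk_surjective
  have hmkN : IsClosedImmersion
      (Spec.map (CommRingCat.ofHom (Ideal.Quotient.mk (Ideal.span {f ^ N})))) :=
    IsClosedImmersion.spec_of_surjective _ Ideal.Quotient.mk_surjective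
  have hlc : IsClosedImmersion l :=
    MorphismProperty.of_isPullback (P := @IsClosedImmersion) hl.flip inferInstance
  have hcc : IsClosedImmersion c1 :=
    MorphismProperty.of_isPullback (P := @IsClosedImmersion) hc1.flip inferInstance
  -- `l` factors through `W`
  have hlW : ∀ x : U0, l.base x ∈ W := by
    intro x
    apply hW
    have h1 : (FEt.puncturedSpec A).ι.base (l.base x) = (mk A f).base (s.base x) := by
      rw [← Scheme.Hom.comp_apply, hl.w, Scheme.Hom.comp_apply]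
    change f ∈ PrimeSpectrum.asIdeal ((FEt.puncturedSpec A).ι.base (l.base x))
    rw [h1]
    exact le_of_mk _ _ (Ideal.mem_span_singleton_self f)
  let t : U0 ⟶ (W : Scheme.{u}) := IsOpenImmersion.lift W.ι l (by
    rw [Scheme.Opens.range_ι]
    rintro _ ⟨x, rfl⟩
    exact hlW x)
  have ht : t ≫ W.ι = l := IsOpenImmersion.lift_fac _ _ _
  -- the two closed subschemes of `W`
  let a : ((c1 ⁻¹ᵁ W : U1.Opens) : Scheme.{u}) ⟶ (W : Scheme.{u}) := c1 ∣_ W
  have haι : a ≫ W.ι = (c1 ⁻¹ᵁ W).ι ≫ c1 := morphismRestrict_ι _ _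
  have hX : IsPullback a ((c1 ⁻¹ᵁ W).ι ≫ r1) (W.ι ≫ (FEt.puncturedSpec A).ι)
      (Spec.map (CommRingCat.ofHom (Ideal.Quotient.mk T))) :=
    (isPullback_morphismRestrict c1 W).paste_vert hc1
  have hac : IsClosedImmersion a :=
    MorphismProperty.of_isPullback (P := @IsClosedImmersion) hX.flip inferInstance
  let gN := Spec.map (CommRingCat.ofHom (Ideal.Quotient.mk (Ideal.span {f ^ N})))
  let b : pullback (W.ι ≫ (FEt.puncturedSpec A).ι) gN ⟶ (W : Scheme.{u}) :=
    pullback.fst _ _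
  have hY : IsPullback b (pullback.snd _ _) (W.ι ≫ (FEt.puncturedSpec A).ι) gN :=
    IsPullback.of_hasPullback _ _
  have hbc : IsClosedImmersion b :=
    MorphismProperty.of_isPullback (P := @IsClosedImmersion) hY.flip inferInstance
  -- the thickening `j0 : U0 ⟶ Y`
  have hle : Ideal.span {f ^ N} ≤ Ideal.span {f} := by
    rw [Ideal.span_singleton_le_span_singleton]
    exact dvd_pow_self f hN
  let ρ : Spec (CommRingCat.of (A ⧸ Ideal.span {f})) ⟶
      Spec (CommRingCat.of (A ⧸ Ideal.span {f ^ N})) :=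
    Spec.map (CommRingCat.ofHom (Ideal.Quotient.factor hle))
  have hρ : ρ ≫ gN = mk A f := by
    change Spec.map _ ≫ Spec.map _ = Spec.map _
    rw [← Spec.map_comp]
    congr 1
  let j0 : U0 ⟶ pullback (W.ι ≫ (FEt.puncturedSpec A).ι) gN :=
    pullback.lift t (s ≫ ρ) (by
      rw [← Category.assoc, ht, hl.w, Category.assoc, hρ])
  have hj0b : j0 ≫ b = t := pullback.lift_fst _ _ _
  have hj0W : j0 ≫ b ≫ W.ι = l := by rw [← Category.assoc, hj0b, ht]
  have hj0c : IsClosedImmersion j0 := by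
    have h1 : IsClosedImmersion (j0 ≫ b ≫ W.ι) := by rw [hj0W]; infer_instance
    exact IsClosedImmersion.of_comp j0 (b ≫ W.ι)
  have hj0s : Surjective j0 := by
    refine ⟨fun y => ?_⟩
    have h1 : (W.ι ≫ (FEt.puncturedSpec A).ι).base (b.base y) =
        gN.base ((pullback.snd (W.ι ≫ (FEt.puncturedSpec A).ι) gN).base y) := by
      rw [← Scheme.Hom.comp_apply, hY.w, Scheme.Hom.comp_apply]
    have h2 : f ^ N ∈ PrimeSpectrum.asIdeal
        ((W.ι ≫ (FEt.puncturedSpec A).ι).base (b.base y)) := by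
      rw [h1]
      exact le_of_mk _ _ (Ideal.mem_span_singleton_self _)
    have h3 : f ∈ PrimeSpectrum.asIdeal
        ((W.ι ≫ (FEt.puncturedSpec A).ι).base (b.base y)) :=
      (PrimeSpectrum.isPrime _).mem_of_pow_mem N h2
    obtain ⟨q, hq⟩ := exists_preimage_mk (Ideal.span {f})
      ((W.ι ≫ (FEt.puncturedSpec A).ι).base (b.base y)) (by
        rw [Ideal.span_le, Set.singleton_subset_iff]
        exact h3)
    obtain ⟨x, hx1, -⟩ := Scheme.exists_preimage_of_isPullback hl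
      (W.ι.base (b.base y)) q (by rw [← Scheme.Hom.comp_apply]; exact hq.symm)
    refine ⟨x, ?_⟩
    apply b.isClosedEmbedding.injective
    apply W.ι.isOpenEmbedding.injective
    rw [← hx1, ← hj0W]
    simp only [Scheme.Hom.comp_apply]
  -- the lift of `V0` to `Y`
  obtain ⟨V2, ⟨i2⟩⟩ := exists_obj_iso j0 (Groth.Agent.S0238.result j0) V0
  -- the intersection `Z`
  let i : pullback a b ⟶ ((c1 ⁻¹ᵁ W : U1.Opens) : Scheme.{u}) := pullback.fst a b
  let j : pullback a b ⟶ pullback (W.ι ≫ (FEt.puncturedSpec A).ι) gN := pullback.snd a b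
  have hZ : IsPullback i j a b := IsPullback.of_hasPullback a b
  have hic : IsClosedImmersion i :=
    MorphismProperty.of_isPullback (P := @IsClosedImmersion) hZ.flip inferInstance
  have hjc : IsClosedImmersion j :=
    MorphismProperty.of_isPullback (P := @IsClosedImmersion) hZ inferInstance
  let z0 : U10 ⟶ pullback a b := pullback.lift t1 (d ≫ j0) (by
    rw [← cancel_mono W.ι, Category.assoc, haι, ← Category.assoc, ht1, Category.assoc,
      Category.assoc, hj0W, hd])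
  have hz0i : z0 ≫ i = t1 := pullback.lift_fst _ _ _
  have hz0j : z0 ≫ j = d ≫ j0 := pullback.lift_snd _ _ _
  have ht1c : IsClosedImmersion t1 := by
    have h1 : IsClosedImmersion (t1 ≫ (c1 ⁻¹ᵁ W).ι) := by rw [ht1]; infer_instance
    exact IsClosedImmersion.of_comp t1 (c1 ⁻¹ᵁ W).ι
  have hz0c : IsClosedImmersion z0 := by
    have h1 : IsClosedImmersion (z0 ≫ i) := by rw [hz0i]; infer_instance
    exact IsClosedImmersion.of_comp z0 i
  have hz0s : Surjective z0 := by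
    refine ⟨fun z => ?_⟩
    have h0 : (c1 ⁻¹ᵁ W).ι ≫ c1 ≫ (FEt.puncturedSpec A).ι = a ≫ W.ι ≫ (FEt.puncturedSpec A).ι := by
      rw [← Category.assoc, ← haι, Category.assoc]
    have h1 : (FEt.puncturedSpec A).ι.base (c1.base ((c1 ⁻¹ᵁ W).ι.base (i.base z))) =
        gN.base ((pullback.snd (W.ι ≫ (FEt.puncturedSpec A).ι) gN).base (j.base z)) := by
      simp only [← Scheme.Hom.comp_apply, Category.assoc]
      rw [h0, ← Category.assoc, hZ.w, Category.assoc, hY.w]
    have h2 : f ^ N ∈ PrimeSpectrum.asIdeal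
        ((FEt.puncturedSpec A).ι.base (c1.base ((c1 ⁻¹ᵁ W).ι.base (i.base z)))) := by
      rw [h1]
      exact le_of_mk _ _ (Ideal.mem_span_singleton_self _)
    have h3 := (PrimeSpectrum.isPrime _).mem_of_pow_mem N h2
    obtain ⟨w, hw⟩ := hl1 _ h3
    refine ⟨w, ?_⟩
    apply i.isClosedEmbedding.injective
    apply (c1 ⁻¹ᵁ W).ι.isOpenEmbedding.injective
    rw [← hw, ← ht1, ← hz0i]
    simp only [Scheme.Hom.comp_apply]
  -- the isomorphism over `Z`
  have hze : (FEt.restrict z0).IsEquivalence := Groth.Agent.S0238.result z0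
  have e : (FEt.restrict i).obj V1 ≅ (FEt.restrict j).obj V2 := by
    refine (FEt.restrict z0).preimageIso ?_
    exact ((restrictComp z0 i).symm ≪≫ restrictCongr hz0i).app V1 ≪≫ i1 ≪≫
      (FEt.restrict d).mapIso i2.symm ≪≫
      ((restrictComp d j0).symm ≪≫ restrictCongr hz0j.symm ≪≫ restrictComp z0 j).app V2
  obtain ⟨V, ⟨-⟩, ⟨e2⟩⟩ := glue
    (isWeak_of_ideals (W.ι ≫ (FEt.puncturedSpec A).ι) T (Ideal.span {f ^ N}) hT a _ hX b _ hY i j hZ)
    V1 V2 e
  exact ⟨W, hW, V, t, ht, ⟨(restrictCongr hj0b.symm ≪≫ restrictComp j0 b).app V ≪≫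
    (FEt.restrict j0).mapIso e2 ≪≫ i2⟩⟩

/-- Reduction of the extension problem to the quotient by `T`, when `T ⊓ (f ^ N) = ⊥`. -/
theorem nbhdExt_of_quotient {A : Type u} [CommRing A] [IsLocalRing A] (f : A) (T : Ideal A)
    [IsLocalRing (A ⧸ T)] (N : ℕ) (hN : N ≠ 0) (hT : T ⊓ Ideal.span {f ^ N} = ⊥)
    (h : NbhdExt (A ⧸ T) (Ideal.Quotient.mk T f)) : NbhdExt A f := by
  intro U0 l s hl V0
  obtain ⟨e, he⟩ := exists_iso_puncturedSpec A (A ⧸ T) (Ideal.Quotient.mk T)
    Ideal.Quotient.mk_surjective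
  let qT := Spec.map (CommRingCat.ofHom (Ideal.Quotient.mk T))
  let c1 : (FEt.puncturedSpec (A ⧸ T) : Scheme.{u}) ⟶ (FEt.puncturedSpec A : Scheme.{u}) :=
    e.inv ≫ pullback.fst _ _
  have hc1 : IsPullback c1 (FEt.puncturedSpec (A ⧸ T)).ι (FEt.puncturedSpec A).ι qT :=
    (IsPullback.of_hasPullback (FEt.puncturedSpec A).ι qT).of_iso e (Iso.refl _) (Iso.refl _)
      (Iso.refl _) (by simp [c1, qT]) (by rw [he]; simp [qT]) (by simp) (by simp)
  let f1 : A ⧸ T := Ideal.Quotient.mk T f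
  let l1 := pullback.fst (FEt.puncturedSpec (A ⧸ T)).ι (mk (A ⧸ T) f1)
  let s1 := pullback.snd (FEt.puncturedSpec (A ⧸ T)).ι (mk (A ⧸ T) f1)
  have hl1p : IsPullback l1 s1 (FEt.puncturedSpec (A ⧸ T)).ι (mk (A ⧸ T) f1) :=
    IsPullback.of_hasPullback _ _
  have hmk1 : IsClosedImmersion (mk (A ⧸ T) f1) :=
    IsClosedImmersion.spec_of_surjective _ Ideal.Quotient.mk_surjective
  have hl1c : IsClosedImmersion l1 :=
    MorphismProperty.of_isPullback (P := @IsClosedImmersion) hl1p.flip inferInstance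
  have hqTc : IsClosedImmersion qT :=
    IsClosedImmersion.spec_of_surjective _ Ideal.Quotient.mk_surjective
  have hcc : IsClosedImmersion c1 :=
    MorphismProperty.of_isPullback (P := @IsClosedImmersion) hc1.flip inferInstance
  have hcomap : Ideal.span {f} ≤ (Ideal.span {f1}).comap (Ideal.Quotient.mk T) := by
    rw [Ideal.span_le, Set.singleton_subset_iff]
    exact Ideal.mem_span_singleton_self f1
  let ρ : Spec (CommRingCat.of ((A ⧸ T) ⧸ Ideal.span {f1})) ⟶
      Spec (CommRingCat.of (A ⧸ Ideal.span {f})) :=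
    Spec.map (CommRingCat.ofHom (Ideal.quotientMap (Ideal.span {f1}) (Ideal.Quotient.mk T) hcomap))
  have hρ : ρ ≫ mk A f = mk (A ⧸ T) f1 ≫ qT := by
    change Spec.map _ ≫ Spec.map _ = Spec.map _ ≫ Spec.map _
    rw [← Spec.map_comp, ← Spec.map_comp]
    congr 1
  let d := hl.lift (l1 ≫ c1) (s1 ≫ ρ) (by
    rw [Category.assoc, hc1.w, ← Category.assoc, hl1p.w, Category.assoc, Category.assoc, hρ])
  have hd : d ≫ l = l1 ≫ c1 := hl.lift_fst _ _ _
  have hl1 : ∀ x : (FEt.puncturedSpec (A ⧸ T) : Scheme.{u}),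
      f ∈ PrimeSpectrum.asIdeal ((FEt.puncturedSpec A).ι.base (c1.base x)) →
      ∃ w, l1.base w = x := by
    intro x hx
    have h1 : (FEt.puncturedSpec A).ι.base (c1.base x) =
        qT.base ((FEt.puncturedSpec (A ⧸ T)).ι.base x) := by
      rw [← Scheme.Hom.comp_apply, hc1.w, Scheme.Hom.comp_apply]
    rw [h1] at hx
    have h2 : f1 ∈ PrimeSpectrum.asIdeal ((FEt.puncturedSpec (A ⧸ T)).ι.base x) := hx
    obtain ⟨q, hq⟩ := exists_preimage_mk (Ideal.span {f1})
      ((FEt.puncturedSpec (A ⧸ T)).ι.base x) (by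
        rw [Ideal.span_le, Set.singleton_subset_iff]
        exact h2)
    obtain ⟨w, hw, -⟩ := Scheme.exists_preimage_of_isPullback hl1p x q hq.symm
    exact ⟨w, hw⟩
  obtain ⟨W1, hW1, V1, t1, ht1, ⟨i1⟩⟩ := h _ l1 s1 hl1p ((FEt.restrict d).obj V0)
  let W : (FEt.puncturedSpec A : Scheme.{u}).Opens :=
    ⟨(c1.base '' (W1 : Set _)ᶜ)ᶜ,
      (c1.isClosedEmbedding.isClosedMap _ W1.isOpen.isClosed_compl).isOpen_compl⟩
  have hWeq : c1 ⁻¹ᵁ W = W1 := by
    ext x
    constructor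
    · intro hx
      by_contra hx1
      exact hx ⟨x, hx1, rfl⟩
    · rintro hx ⟨x', hx', hxx⟩
      rw [c1.isClosedEmbedding.injective hxx] at hx'
      exact hx' hx
  have hW : ∀ x : (FEt.puncturedSpec A : Scheme.{u}),
      f ∈ PrimeSpectrum.asIdeal ((FEt.puncturedSpec A).ι x) → x ∈ W := by
    rintro x hx ⟨x1, hx1, rfl⟩
    apply hx1
    apply hW1
    have h1 : (FEt.puncturedSpec A).ι.base (c1.base x1) =
        qT.base ((FEt.puncturedSpec (A ⧸ T)).ι.base x1) := by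
      rw [← Scheme.Hom.comp_apply, hc1.w, Scheme.Hom.comp_apply]
    change f ∈ PrimeSpectrum.asIdeal ((FEt.puncturedSpec A).ι.base (c1.base x1)) at hx
    rw [h1] at hx
    exact hx
  have key : ∃ (V1 : FEt.Cat ((c1 ⁻¹ᵁ W : (FEt.puncturedSpec (A ⧸ T) : Scheme.{u}).Opens) :
        Scheme.{u}))
      (t1 : pullback (FEt.puncturedSpec (A ⧸ T)).ι (mk (A ⧸ T) f1) ⟶
        ((c1 ⁻¹ᵁ W : (FEt.puncturedSpec (A ⧸ T) : Scheme.{u}).Opens) : Scheme.{u})),
      t1 ≫ (c1 ⁻¹ᵁ W).ι = l1 ∧ Nonempty ((FEt.restrict t1).obj V1 ≅ (FEt.restrict d).obj V0) := by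
    rw [hWeq]
    exact ⟨V1, t1, ht1, ⟨i1⟩⟩
  obtain ⟨V1', t1', ht1', ⟨i1'⟩⟩ := key
  exact extends_of_data f T N hN hT l s hl c1 _ hc1 l1 d hd hl1 V0 W hW V1' t1' ht1' i1'

/-- The `f`-power torsion ideal of a Noetherian ring. -/
theorem exists_torsion (A : Type*) [CommRing A] [IsNoetherianRing A] (f : A) :
    ∃ (T : Ideal A) (N : ℕ), N ≠ 0 ∧ (∀ a, a ∈ T ↔ f ^ N * a = 0) ∧
      (∀ n a, f ^ n * a ∈ T → a ∈ T) ∧ T ⊓ Ideal.span {f ^ N} = ⊥ := by
  let K : ℕ →o Submodule A A :=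
    ⟨fun n => LinearMap.ker (LinearMap.lsmul A A (f ^ n)), fun m n hmn x hx => by
      obtain ⟨k, rfl⟩ := Nat.exists_eq_add_of_le hmn
      change f ^ (m + k) * x = 0
      have hx' : f ^ m * x = 0 := hx
      rw [add_comm, pow_add, mul_assoc, hx', mul_zero]⟩
  obtain ⟨N, hN⟩ := monotone_stabilizes_iff_noetherian.mpr (inferInstance : IsNoetherian A A) K
  have hmem : ∀ n a, a ∈ K n ↔ f ^ n * a = 0 := fun n a => Iff.rfl
  have hsat : ∀ n a, f ^ n * a ∈ K (N + 1) → a ∈ K (N + 1) := by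
    intro n a ha
    have h1 : a ∈ K (N + 1 + n) := by
      rw [hmem] at ha ⊢
      rw [pow_add, mul_assoc]
      exact ha
    rw [← hN (N + 1 + n) (by omega)] at h1
    rw [← hN (N + 1) (by omega)]
    exact h1
  refine ⟨K (N + 1), N + 1, by omega, fun a => hmem _ a, hsat, ?_⟩
  rw [eq_bot_iff]
  rintro x ⟨hx1, hx2⟩
  obtain ⟨y, rfl⟩ := Ideal.mem_span_singleton'.mp hx2
  rw [mul_comm] at hx1 ⊢
  exact (hmem _ _).mp (hsat _ _ hx1)

/-- `f` is a nonzerodivisor on the quotient by its power torsion. -/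
theorem mem_nonZeroDivisors {A : Type*} [CommRing A] (f : A) (T : Ideal A)
    (hT : ∀ n a, f ^ n * a ∈ T → a ∈ T) :
    Ideal.Quotient.mk T f ∈ nonZeroDivisors (A ⧸ T) := by
  rw [mem_nonZeroDivisors_iff_right]
  intro x hx
  obtain ⟨x, rfl⟩ := Ideal.Quotient.mk_surjective x
  rw [← map_mul, Ideal.Quotient.eq_zero_iff_mem] at hx
  rw [Ideal.Quotient.eq_zero_iff_mem]
  exact hT 1 x (by rwa [pow_one, mul_comm])

end Groth.Agent.CalgB.MilRed
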