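import Groth.Prelude.Def_CAlgX
import Mathlib.LinearAlgebra.Matrix.SchurComplement
import Mathlib.LinearAlgebra.Matrix.NonsingularInverse
import Mathlib.LinearAlgebra.Matrix.ToLin
import Mathlib.Data.Matrix.ColumnRowPartitioned
import Mathlib.RingTheory.LocalRing.MaximalIdeal.Basic

/-!
Ideals of minors and rank factorizations of matrices (`CAlgX.minorIdeal`, `CAlgX.matrixRank`).
-/

set_option autoImplicit false
universe u

namespace Groth.Agent.CalgB.Minors

open CAlgX Matrix

variable {R : Type u} [CommRing R] {m n p : Type} [Fintype m] [Fintype n] [Fintype p]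

lemma det_mem_minorIdeal (A : Matrix m n R) {r : ℕ} (f : Fin r → m) (g : Fin r → n) :
    (A.submatrix f g).det ∈ minorIdeal A r :=
  Ideal.subset_span ⟨(f, g), rfl⟩

lemma minorIdeal_le_iff (A : Matrix m n R) (r : ℕ) (I : Ideal R) :
    minorIdeal A r ≤ I ↔ ∀ (f : Fin r → m) (g : Fin r → n), (A.submatrix f g).det ∈ I := by
  unfold minorIdeal
  rw [Ideal.span_le]
  constructor
  · intro h f g
    exact h ⟨(f, g), rfl⟩
  · rintro h _ ⟨⟨f, g⟩, rfl⟩
    exact h f g

lemma minorIdeal_eq_bot_iff (A : Matrix m n R) (r : ℕ) :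
    minorIdeal A r = ⊥ ↔ ∀ (f : Fin r → m) (g : Fin r → n), (A.submatrix f g).det = 0 := by
  rw [eq_bot_iff, minorIdeal_le_iff]
  simp

lemma minorIdeal_transpose (A : Matrix m n R) (r : ℕ) : minorIdeal Aᵀ r = minorIdeal A r := by
  apply le_antisymm
  · rw [minorIdeal_le_iff]
    intro f g
    have : (Aᵀ.submatrix f g).det = (A.submatrix g f).det := by
      rw [← det_transpose]; rfl
    rw [this]
    exact det_mem_minorIdeal A g f
  · rw [minorIdeal_le_iff]
    intro f g
    have : (A.submatrix f g).det = (Aᵀ.submatrix g f).det := by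
      rw [← det_transpose]; rfl
    rw [this]
    exact det_mem_minorIdeal Aᵀ g f

omit [Fintype m] [Fintype p] in
/-- Cauchy–Binet, weak form -/
lemma det_mul_submatrix (A : Matrix m n R) (B : Matrix n p R) {r : ℕ} (f : Fin r → m)
    (g : Fin r → p) : ((A * B).submatrix f g).det =
      ∑ h : Fin r → n, (∏ i, A (f i) (h i)) * (B.submatrix h g).det := by
  classical
  have h1 : (A * B).submatrix f g = fun i => ∑ k : n, A (f i) k • (fun j => B k (g j)) := by
    ext i j
    simp [Matrix.mul_apply]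
  have h2 := (detRowAlternating : (Fin r → R) [⋀^Fin r]→ₗ[R] R).toMultilinearMap.map_sum
    (g := fun (i : Fin r) (k : n) => A (f i) k • (fun j => B k (g j)))
  change detRowAlternating ((A * B).submatrix f g) = _
  rw [h1]
  refine h2.trans ?_
  refine Finset.sum_congr rfl (fun h _ => ?_)
  rw [MultilinearMap.map_smul_univ]
  rfl

lemma minorIdeal_mul_le_right (A : Matrix m n R) (B : Matrix n p R) (r : ℕ) :
    minorIdeal (A * B) r ≤ minorIdeal B r := by
  rw [minorIdeal_le_iff]
  intro f g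
  rw [det_mul_submatrix]
  exact Ideal.sum_mem _ (fun h _ => Ideal.mul_mem_left _ _ (det_mem_minorIdeal B h g))

lemma minorIdeal_mul_le_left (A : Matrix m n R) (B : Matrix n p R) (r : ℕ) :
    minorIdeal (A * B) r ≤ minorIdeal A r := by
  rw [← minorIdeal_transpose (A * B), ← minorIdeal_transpose A, Matrix.transpose_mul]
  exact minorIdeal_mul_le_right _ _ _

lemma minorIdeal_succ_le (A : Matrix m n R) (r : ℕ) : minorIdeal A (r + 1) ≤ minorIdeal A r := by
  rw [minorIdeal_le_iff]
  intro f g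
  rw [det_succ_row_zero]
  refine Ideal.sum_mem _ (fun j _ => Ideal.mul_mem_left _ _ ?_)
  exact det_mem_minorIdeal A (f ∘ Fin.succ) (g ∘ j.succAbove)

lemma minorIdeal_antitone (A : Matrix m n R) : Antitone (minorIdeal A) :=
  antitone_nat_of_succ_le (minorIdeal_succ_le A)

lemma minorIdeal_eq_bot_of_card_lt (A : Matrix m n R) {r : ℕ} (h : Fintype.card m < r) :
    minorIdeal A r = ⊥ := by
  rw [minorIdeal_eq_bot_iff]
  intro f g
  have hf : ¬ Function.Injective f := by
    intro hf
    have := Fintype.card_le_of_injective f hf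
    rw [Fintype.card_fin] at this
    omega
  rw [Function.not_injective_iff] at hf
  obtain ⟨i, j, hij, hne⟩ := hf
  exact det_zero_of_row_eq hne (by
    ext k
    simp [hij])

lemma minorIdeal_zero (A : Matrix m n R) : minorIdeal A 0 = ⊤ := by
  rw [Ideal.eq_top_iff_one]
  have := det_mem_minorIdeal A (r := 0) Fin.elim0 Fin.elim0
  rwa [det_isEmpty] at this

lemma minorIdeal_map {S : Type u} [CommRing S] (φ : R →+* S) (A : Matrix m n R) (r : ℕ) :
    minorIdeal (A.map φ) r = (minorIdeal A r).map φ := by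
  unfold minorIdeal
  rw [Ideal.map_span, ← Set.range_comp]
  congr 1
  ext x
  simp only [Set.mem_range, Function.comp_apply]
  constructor
  · rintro ⟨fg, rfl⟩
    exact ⟨fg, by rw [RingHom.map_det]; rfl⟩
  · rintro ⟨fg, rfl⟩
    exact ⟨fg, by rw [RingHom.map_det]; rfl⟩

lemma minorIdeal_one [DecidableEq m] {r : ℕ} (f : Fin r → m) (hf : Function.Injective f) :
    minorIdeal (1 : Matrix m m R) r = ⊤ := by
  rw [Ideal.eq_top_iff_one]
  have := det_mem_minorIdeal (1 : Matrix m m R) f f
  rwa [submatrix_one f hf, det_one] at this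

lemma bddAbove_rank (A : Matrix m n R) : BddAbove {r : ℕ | minorIdeal A r ≠ ⊥} := by
  refine ⟨Fintype.card m, fun r hr => ?_⟩
  by_contra h
  exact hr (minorIdeal_eq_bot_of_card_lt A (by omega))

lemma matrixRank_eq {A : Matrix m n R} {r : ℕ} (h1 : minorIdeal A r ≠ ⊥)
    (h2 : minorIdeal A (r + 1) = ⊥) : matrixRank A = r := by
  unfold matrixRank
  apply le_antisymm
  · refine csSup_le ⟨r, h1⟩ (fun s hs => ?_)
    by_contra h
    have h3 : r + 1 ≤ s := by omega
    exact hs (eq_bot_iff.mpr ((minorIdeal_antitone A h3).trans h2.le))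
  · exact le_csSup (bddAbove_rank A) h1

lemma minorIdeal_matrixRank_ne_bot [Nontrivial R] (A : Matrix m n R) :
    minorIdeal A (matrixRank A) ≠ ⊥ := by
  have h : matrixRank A ∈ {r : ℕ | minorIdeal A r ≠ ⊥} := by
    refine Nat.sSup_mem ⟨0, ?_⟩ (bddAbove_rank A)
    change minorIdeal A 0 ≠ ⊥
    rw [minorIdeal_zero]
    exact top_ne_bot
  exact h

lemma minorIdeal_matrixRank_succ (A : Matrix m n R) :
    minorIdeal A (matrixRank A + 1) = ⊥ := by
  by_contra h
  have := le_csSup (bddAbove_rank A) h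
  unfold matrixRank at *
  omega

/-- a rank factorization with one-sided inverses: `A = P Q`, `L P = 1`, `Q S = 1`. -/
def SR (A : Matrix m n R) (r : ℕ) : Prop :=
  ∃ (P : Matrix m (Fin r) R) (Q : Matrix (Fin r) n R) (L : Matrix (Fin r) m R)
    (S : Matrix n (Fin r) R), A = P * Q ∧ L * P = 1 ∧ Q * S = 1

lemma SR.minorIdeal_eq_top {A : Matrix m n R} {r : ℕ} (h : SR A r) : minorIdeal A r = ⊤ := by
  obtain ⟨P, Q, L, S, rfl, hL, hS⟩ := h
  have h1 : L * (P * Q) * S = 1 := by
    rw [← Matrix.mul_assoc, hL, Matrix.one_mul, hS]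
  have h2 := (minorIdeal_mul_le_left (L * (P * Q)) S r).trans (minorIdeal_mul_le_right L (P * Q) r)
  rw [h1, minorIdeal_one id Function.injective_id] at h2
  exact top_le_iff.mp h2

lemma SR.minorIdeal_eq_bot {A : Matrix m n R} {r : ℕ} (h : SR A r) : minorIdeal A (r + 1) = ⊥ := by
  obtain ⟨P, Q, L, S, rfl, hL, hS⟩ := h
  rw [eq_bot_iff]
  refine (minorIdeal_mul_le_right P Q (r + 1)).trans ?_
  rw [minorIdeal_eq_bot_of_card_lt Q (by simp)]

/-- if some `r × r` minor is a unit and all `(r+1) × (r+1)` minors vanish then there is a rank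
factorization. -/
lemma SR.of_isUnit {A : Matrix m n R} {r : ℕ} (f : Fin r → m) (g : Fin r → n)
    (hu : IsUnit (A.submatrix f g).det) (h0 : minorIdeal A (r + 1) = ⊥) : SR A r := by
  classical
  set D := A.submatrix f g with hD
  let _ : Invertible D := Matrix.invertibleOfIsUnitDet D hu
  rw [minorIdeal_eq_bot_iff] at h0
  have key : ∀ (a : m) (c : n), A a c =
      ∑ i, ∑ j, A a (g i) * (⅟D) i j * A (f j) c := by
    intro a c
    let B : Matrix (Fin r) Unit R := fun i _ => A (f i) c
    let C : Matrix Unit (Fin r) R := fun _ j => A a (g j)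
    let E : Matrix Unit Unit R := fun _ _ => A a c
    have h1 : (fromBlocks D B C E).det = 0 := by
      let e : Fin (r + 1) ≃ (Fin r ⊕ Unit) := finSumFinEquiv.symm.trans
        (Equiv.sumCongr (Equiv.refl _) (Equiv.ofUnique (Fin 1) Unit))
      let f' : Fin r ⊕ Unit → m := Sum.elim f (fun _ => a)
      let g' : Fin r ⊕ Unit → n := Sum.elim g (fun _ => c)
      have h2 : fromBlocks D B C E = A.submatrix f' g' := by
        ext i j
        rcases i with i | i <;> rcases j with j | j <;> rfl
      rw [h2, ← det_submatrix_equiv_self e, submatrix_submatrix]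
      exact h0 _ _
    rw [det_fromBlocks₁₁] at h1
    have h3 : (E - C * ⅟D * B).det = 0 := by
      have := hu
      rw [hD] at hu
      exact (IsUnit.mul_right_eq_zero hu).mp h1
    rw [det_unique] at h3
    have h4 : (E - C * ⅟D * B) default default = A a c - ∑ i, ∑ j, A a (g i) * (⅟D) i j * A (f j) c := by
      simp only [Matrix.sub_apply, Matrix.mul_apply, E, C, B]
      congr 1
      rw [Finset.sum_comm]
      refine Finset.sum_congr rfl (fun j _ => ?_)
      rw [Finset.sum_mul]
    rw [h4] at h3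
    exact sub_eq_zero.mp h3
  refine ⟨A.submatrix id g, ⅟D * A.submatrix f id, ⅟D * (1 : Matrix m m R).submatrix f id,
    (1 : Matrix n n R).submatrix id g, ?_, ?_, ?_⟩
  · ext a c
    rw [key a c]
    simp only [Matrix.mul_apply, Matrix.submatrix_apply, id, Finset.mul_sum, mul_assoc]
  · have h5 : (1 : Matrix m m R).submatrix f id * A.submatrix id g = D := by
      ext i j
      simp [Matrix.mul_apply, Matrix.one_apply, hD]
    rw [Matrix.mul_assoc, h5, invOf_mul_self]
  · have h5 : A.submatrix f id * (1 : Matrix n n R).submatrix id g = D := by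
      ext i j
      simp [Matrix.mul_apply, Matrix.one_apply, hD]
    rw [Matrix.mul_assoc, h5, invOf_mul_self]

/-- over a local ring -/
lemma SR.of_minorIdeal [IsLocalRing R] {A : Matrix m n R} {r : ℕ} (h1 : minorIdeal A r = ⊤)
    (h0 : minorIdeal A (r + 1) = ⊥) : SR A r := by
  have : ∃ (f : Fin r → m) (g : Fin r → n), IsUnit (A.submatrix f g).det := by
    by_contra hcon
    push Not at hcon
    have h2 : minorIdeal A r ≤ IsLocalRing.maximalIdeal R := by
      rw [minorIdeal_le_iff]
      intro f g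
      exact (IsLocalRing.mem_maximalIdeal _).mpr (hcon f g)
    rw [h1, top_le_iff] at h2
    exact (IsLocalRing.maximalIdeal.isMaximal R).ne_top h2
  obtain ⟨f, g, hu⟩ := this
  exact SR.of_isUnit f g hu h0

/-- exactness from rank factorizations of complementary ranks -/
lemma SR.exact {A : Matrix m n R} {B : Matrix n p R} {r s : ℕ} (hA : SR A r) (hB : SR B s)
    (hAB : A * B = 0) (hrs : r + s = Fintype.card n) (v : n → R) (hv : A *ᵥ v = 0) :
    ∃ u : p → R, B *ᵥ u = v := by
  classical
  obtain ⟨P, Q, L, S, rfl, hL, hS⟩ := hA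
  obtain ⟨P', Q', L', S', rfl, hL', hS'⟩ := hB
  have hQP : Q * P' = 0 := by
    have : L * (P * Q * (P' * Q')) * S' = Q * P' := by
      calc L * (P * Q * (P' * Q')) * S' = (L * P) * (Q * P') * (Q' * S') := by
            simp only [Matrix.mul_assoc]
        _ = Q * P' := by rw [hL, hS', Matrix.one_mul, Matrix.mul_one]
    rw [← this, hAB, Matrix.mul_zero, Matrix.zero_mul]
  -- the square matrices
  let e : (Fin r ⊕ Fin s) ≃ n := Fintype.equivOfCardEq (by simp [hrs])
  let X : Matrix n (Fin r ⊕ Fin s) R := Matrix.fromCols S P'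
  let Y : Matrix (Fin r ⊕ Fin s) n R := Matrix.fromRows Q (L' * (1 - S * Q))
  have hYX : Y * X = 1 := by
    have h1 : L' * (1 - S * Q) * S = 0 := by
      rw [Matrix.mul_assoc, Matrix.sub_mul, Matrix.one_mul, Matrix.mul_assoc, hS, Matrix.mul_one,
        sub_self, Matrix.mul_zero]
    have h2 : L' * (1 - S * Q) * P' = 1 := by
      rw [Matrix.mul_assoc, Matrix.sub_mul, Matrix.one_mul, Matrix.mul_assoc, hQP, Matrix.mul_zero,
        sub_zero, hL']
    simp only [X, Y, Matrix.fromRows_mul_fromCols, hS, hQP, h1, h2]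
    exact Matrix.fromBlocks_one
  have hXY : X * Y = 1 := (Matrix.mul_eq_one_comm_of_equiv e).mp hYX
  have hQv : Q *ᵥ v = 0 := by
    have : L *ᵥ ((P * Q) *ᵥ v) = Q *ᵥ v := by
      rw [Matrix.mulVec_mulVec, ← Matrix.mul_assoc, hL, Matrix.one_mul]
    rw [← this, hv, Matrix.mulVec_zero]
  have hv' : v = P' *ᵥ (L' *ᵥ v) := by
    have h7 : S * Q + P' * (L' * (1 - S * Q)) = 1 :=
      (Matrix.fromCols_mul_fromRows _ _ _ _).symm.trans hXY
    calc v = (1 : Matrix n n R) *ᵥ v := (Matrix.one_mulVec v).symm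
      _ = (S * Q + P' * (L' * (1 - S * Q))) *ᵥ v := by rw [h7]
      _ = S *ᵥ (Q *ᵥ v) + P' *ᵥ (L' *ᵥ (v - S *ᵥ (Q *ᵥ v))) := by
        simp only [Matrix.add_mulVec, ← Matrix.mulVec_mulVec, Matrix.sub_mulVec, Matrix.one_mulVec]
      _ = P' *ᵥ (L' *ᵥ v) := by rw [hQv]; simp
  refine ⟨S' *ᵥ (L' *ᵥ v), ?_⟩
  rw [Matrix.mulVec_mulVec, Matrix.mul_assoc, hS', Matrix.mul_one, ← hv']

end Groth.Agent.CalgB.Minors
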