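import Groth.Agent.CalgB.NNoeth
import Groth.Agent.FlatA.FlatLocalize
import Mathlib.Algebra.Module.LocalizedModule.Submodule
import Mathlib.RingTheory.LocalProperties.Basic
import Mathlib.RingTheory.Localization.AtPrime.Basic

/-!
# The Noetherian case of Stacks 046Y before localization, and elementwise flatness
-/

set_option autoImplicit false

namespace Groth.Agent.CalgB.NStageThm

open IsLocalRing

universe u v w

/-- Elementwise form of "`(F / V)_q` is flat over `R`". -/
def RelFlat (R : Type u) {A : Type v} [CommRing R] [CommRing A] [Algebra R A] (q : Ideal A)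
    {F : Type w} [AddCommGroup F] [Module A F] [Module R F] (V : Submodule A F) : Prop :=
  ∀ (l : ℕ) (r : Fin l → R) (f : Fin l → F), (∃ t, t ∉ q ∧ t • ∑ i, r i • f i ∈ V) →
    ∃ (k : ℕ) (c : Fin l → Fin k → R) (y : Fin k → F) (t : A), t ∉ q ∧
      (∀ i, t • f i - ∑ j, c i j • y j ∈ V) ∧ ∀ j, ∑ i, r i * c i j = 0

section RelFlat

variable {R : Type u} {A : Type v} [CommRing R] [CommRing A] [Algebra R A] (q : Ideal A) [q.IsPrime]
  {F : Type w} [AddCommGroup F] [Module A F] [Module R F] [IsScalarTower R A F] (V : Submodule A F)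

/-- from flatness to relations -/
theorem relFlat_of_flat {M : Type*} [AddCommGroup M] [Module A M] [Module R M] [IsScalarTower R A M]
    (π : F →ₗ[A] M) (h1 : ∀ x, π x = 0 → ∃ t, t ∉ q ∧ t • x ∈ V) (h1' : ∀ x ∈ V, π x = 0)
    (h2 : ∀ z : M, ∃ s, s ∉ q ∧ ∃ x : F, s • z = π x)
    (h3 : ∀ s, s ∉ q → ∀ z : M, s • z = 0 → z = 0)
    [Module.Flat R M] : RelFlat R q V := by
  classical
  intro l r f ⟨t, ht, htf⟩
  have h4 : ∑ i, r i • π (f i) = 0 := by
    apply h3 t ht
    have : t • ∑ i, r i • π (f i) = π (t • ∑ i, r i • f i) := by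
      rw [map_smul, map_sum]
      congr 1
      refine Finset.sum_congr rfl fun i _ => ?_
      rw [← algebraMap_smul A (r i) (f i), map_smul, algebraMap_smul]
    rw [this]
    exact h1' _ htf
  obtain ⟨k, a, y, hy, ha⟩ := (Module.Flat.iff_forall_isTrivialRelation.mp ‹Module.Flat R M›) h4
  choose s hs x hx using fun j => h2 (y j)
  let S := ∏ j, s j
  have hS : S ∉ q := by
    rw [Ideal.IsPrime.prod_mem_iff]
    push Not
    exact fun j _ => hs j
  let y' : Fin k → F := fun j => (∏ j' ∈ Finset.univ.erase j, s j') • x j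
  have hy' : ∀ j, S • y j = π (y' j) := by
    intro j
    simp only [y', map_smul, ← hx, smul_smul]
    congr 1
    rw [Finset.prod_erase_mul _ _ (Finset.mem_univ j)]
  have h5 : ∀ i, ∃ t, t ∉ q ∧ t • (S • f i - ∑ j, a i j • y' j) ∈ V := by
    intro i
    apply h1
    rw [map_sub, map_smul, map_sum, show π (f i) = _ from hy i, Finset.smul_sum, sub_eq_zero]
    refine Finset.sum_congr rfl fun j _ => ?_
    rw [← algebraMap_smul A (a i j) (y' j), map_smul, ← hy' j, algebraMap_smul, smul_comm]
  choose t' ht' htV using h5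
  let T := ∏ i, t' i
  have hT : T ∉ q := by
    rw [Ideal.IsPrime.prod_mem_iff]
    push Not
    exact fun i _ => ht' i
  refine ⟨k, a, fun j => T • y' j, T * S, ?_, ?_, ha⟩
  · intro h
    rcases (‹q.IsPrime›).mem_or_mem h with h | h
    · exact hT h
    · exact hS h
  · intro i
    have : (T * S) • f i - ∑ j, a i j • T • y' j =
        (∏ i' ∈ Finset.univ.erase i, t' i') • t' i • (S • f i - ∑ j, a i j • y' j) := by
      rw [smul_smul, Finset.prod_erase_mul _ _ (Finset.mem_univ i), smul_sub, smul_smul,
        Finset.smul_sum]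
      congr 1
      refine Finset.sum_congr rfl fun j _ => ?_
      rw [smul_comm]
    rw [this]
    exact V.smul_mem _ (htV i)

/-- from relations to flatness -/
theorem flat_of_relFlat {M : Type*} [AddCommGroup M] [Module A M] [Module R M] [IsScalarTower R A M]
    (π : F →ₗ[A] M) (h1 : ∀ x, π x = 0 → ∃ t, t ∉ q ∧ t • x ∈ V) (h1' : ∀ x ∈ V, π x = 0)
    (h2 : ∀ z : M, ∃ s, s ∉ q ∧ ∃ x : F, s • z = π x)
    (h3 : ∀ s, s ∉ q → Function.Bijective fun z : M => s • z)
    (h : RelFlat R q V) : Module.Flat R M := by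
  classical
  refine Module.Flat.iff_forall_isTrivialRelation.mpr fun {l r z} hz => ?_
  choose s hs x hx using fun i => h2 (z i)
  let S := ∏ i, s i
  have hS : S ∉ q := by
    rw [Ideal.IsPrime.prod_mem_iff]
    push Not
    exact fun j _ => hs j
  let x' : Fin l → F := fun i => (∏ j ∈ Finset.univ.erase i, s j) • x i
  have hx' : ∀ i, S • z i = π (x' i) := by
    intro i
    simp only [x', map_smul, ← hx, smul_smul]
    congr 1
    rw [Finset.prod_erase_mul _ _ (Finset.mem_univ i)]
  have h4 : π (∑ i, r i • x' i) = 0 := by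
    have : π (∑ i, r i • x' i) = S • ∑ i, r i • z i := by
      rw [map_sum, Finset.smul_sum]
      refine Finset.sum_congr rfl fun i _ => ?_
      rw [← algebraMap_smul A (r i) (x' i), map_smul, ← hx' i, algebraMap_smul, smul_comm]
    rw [this, hz, smul_zero]
  obtain ⟨k, c, y, t, ht, hc1, hc2⟩ := h l r x' (h1 _ h4)
  have htS : t * S ∉ q := by
    intro h
    rcases (‹q.IsPrime›).mem_or_mem h with h | h
    · exact ht h
    · exact hS h
  choose y' hy' using fun j => (h3 _ htS).2 (π (y j))
  refine ⟨k, c, y', fun i => ?_, hc2⟩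
  apply (h3 _ htS).1
  have h5 := h1' _ (hc1 i)
  rw [map_sub, sub_eq_zero, map_smul, ← hx', smul_smul, map_sum] at h5
  change (t * S) • z i = (t * S) • ∑ j, c i j • y' j
  rw [h5, Finset.smul_sum]
  refine Finset.sum_congr rfl fun j _ => ?_
  have h6 : (t * S) • y' j = π (y j) := hy' j
  rw [smul_comm, h6, ← algebraMap_smul A (c i j) (y j), map_smul, algebraMap_smul]

end RelFlat

section Bridge

variable {A : Type v} [CommRing A] (p : Submonoid A)
  {F : Type w} [AddCommGroup F] [Module A F]

theorem mk'_mem_localized_iff (N : Submodule A F) (x : F) (s : p) :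
    IsLocalizedModule.mk' (LocalizedModule.mkLinearMap p F) x s ∈ N.localized p ↔ ∃ t : p, t • x ∈ N := by
  constructor
  · rintro ⟨y, hy, t, hyt⟩
    rw [IsLocalizedModule.mk'_eq_mk'_iff] at hyt
    obtain ⟨c, hc⟩ := hyt
    refine ⟨c * t, ?_⟩
    rw [mul_smul, hc]
    exact N.smul_mem _ (N.smul_mem _ hy)
  · rintro ⟨t, ht⟩
    refine ⟨t • x, ht, t * s, ?_⟩
    rw [IsLocalizedModule.mk'_cancel_left]

end Bridge

section Main

variable {R : Type u} {A : Type v} [CommRing R] [CommRing A] [Algebra R A] [IsLocalRing R]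
  [IsNoetherianRing R] [IsNoetherianRing A] (q : Ideal A) [q.IsPrime]
  (hq : q.comap (algebraMap R A) = maximalIdeal R)
  {E F : Type w} [AddCommGroup E] [Module A E] [Module R E] [IsScalarTower R A E] [Module.Finite A E]
  [Module.Flat R E]
  [AddCommGroup F] [Module A F] [Module R F] [IsScalarTower R A F] [Module.Finite A F] [Module.Flat R F]
  (W : Submodule A E) (Q : Submodule A F) (U : E →ₗ[A] F) (hWQ : W ≤ Q.comap U)
  (hT : ∀ v ∈ Q ⊓ ((maximalIdeal R).map (algebraMap R A) • ⊤),
    ∃ t, t ∉ q ∧ t • v ∈ (maximalIdeal R).map (algebraMap R A) • Q)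
  (hI : ∀ x : E, (∃ t, t ∉ q ∧ t • U x ∈ Q ⊔ ((maximalIdeal R).map (algebraMap R A) • ⊤)) →
    ∃ t, t ∉ q ∧ t • x ∈ W ⊔ ((maximalIdeal R).map (algebraMap R A) • ⊤))

include hq hWQ hT hI

theorem main :
    (∀ x, (∃ t, t ∉ q ∧ t • U x ∈ Q) → ∃ t, t ∉ q ∧ t • x ∈ W) ∧
      RelFlat R q (Q ⊔ LinearMap.range U) := by
  set mA := (maximalIdeal R).map (algebraMap R A) with hmA
  let p := q.primeCompl
  let B := Localization.AtPrime q
  have hmB : (maximalIdeal R).map (algebraMap R B) =
      mA.localized' B p (Algebra.linearMap A B) := by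
    rw [Ideal.localized'_eq_map, hmA, Ideal.map_map, ← IsScalarTower.algebraMap_eq]
  have hloc : IsLocalHom (algebraMap R B) := by
    constructor
    intro a ha
    by_contra hna
    have h1 : a ∈ maximalIdeal R := hna
    rw [← hq, Ideal.mem_comap] at h1
    have h2 : algebraMap A B (algebraMap R A a) ∈ maximalIdeal B :=
      (IsLocalization.AtPrime.to_map_mem_maximal_iff B q _).mpr h1
    rw [← IsScalarTower.algebraMap_apply] at h2
    exact h2 ha
  have hNB : IsNoetherianRing B := IsLocalization.isNoetherianRing p B inferInstance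
  let E' := LocalizedModule p E
  let F' := LocalizedModule p F
  have hE' : Module.Flat R E' :=
    Groth.Agent.FlatA.FlatLocalize.flat_of_isLocalizedModule_tower p (LocalizedModule.mkLinearMap p E)
  have hF' : Module.Flat R F' :=
    Groth.Agent.FlatA.FlatLocalize.flat_of_isLocalizedModule_tower p (LocalizedModule.mkLinearMap p F)
  have hE'f : Module.Finite B E' := Module.Finite.of_isLocalizedModule p (LocalizedModule.mkLinearMap p E)
  have hF'f : Module.Finite B F' := Module.Finite.of_isLocalizedModule p (LocalizedModule.mkLinearMap p F)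
  let U₀ : E' →ₗ[A] F' := IsLocalizedModule.map p (LocalizedModule.mkLinearMap p E)
    (LocalizedModule.mkLinearMap p F) U
  let U' : E' →ₗ[B] F' := U₀.extendScalarsOfIsLocalization p B
  have hU' : ∀ (x : E) (s : p), U' (IsLocalizedModule.mk' (LocalizedModule.mkLinearMap p E) x s) =
      IsLocalizedModule.mk' (LocalizedModule.mkLinearMap p F) (U x) s := by
    intro x s
    exact IsLocalizedModule.map_mk' p _ _ U x s
  have hrange : LinearMap.range U' = (LinearMap.range U).localized p :=
    (LinearMap.localized'_range_eq_range_localizedMap B p _ _ U).symm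
  have hsup : ∀ {G : Type w} [AddCommGroup G] [Module A G] (N P : Submodule A G),
      (N ⊔ P).localized p = N.localized p ⊔ P.localized p := by
    intro G _ _ N P
    exact map_sup (Submodule.localized'FrameHom B p (LocalizedModule.mkLinearMap p G)) N P
  have hWQ' : W.localized p ≤ (Q.localized p).comap U' := by
    rintro _ ⟨x, hx, s, rfl⟩
    rw [Submodule.mem_comap, hU', mk'_mem_localized_iff]
    exact ⟨1, by rw [one_smul]; exact hWQ hx⟩
  have hT' : Q.localized p ⊓ ((maximalIdeal R).map (algebraMap R B) • ⊤) ≤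
      (maximalIdeal R).map (algebraMap R B) • Q.localized p := by
    have h1 : ((maximalIdeal R).map (algebraMap R B) • (⊤ : Submodule B F')) =
        (mA • (⊤ : Submodule A F)).localized p := by
      rw [hmB]
      change _ = Submodule.localized' B p (LocalizedModule.mkLinearMap p F) (mA • ⊤)
      rw [Submodule.localized'_smul, Submodule.localized'_top]
    have h2 : (maximalIdeal R).map (algebraMap R B) • Q.localized p = (mA • Q).localized p := by
      rw [hmB]
      change _ = Submodule.localized' B p (LocalizedModule.mkLinearMap p F) (mA • Q)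
      rw [Submodule.localized'_smul]
    rw [h1, h2]
    change Submodule.localized' B p (LocalizedModule.mkLinearMap p F) Q ⊓
      Submodule.localized' B p (LocalizedModule.mkLinearMap p F) (mA • ⊤) ≤ _
    rw [← Submodule.localized'_inf]
    rintro _ ⟨x, hx, s, rfl⟩
    rw [mk'_mem_localized_iff]
    obtain ⟨t, ht, htx⟩ := hT x hx
    exact ⟨⟨t, ht⟩, htx⟩
  have hI' : ∀ x : E', U' x ∈ Q.localized p ⊔ ((maximalIdeal R).map (algebraMap R B) • ⊤) →
      x ∈ W.localized p ⊔ ((maximalIdeal R).map (algebraMap R B) • ⊤) := by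
    have h1 : ((maximalIdeal R).map (algebraMap R B) • (⊤ : Submodule B F')) =
        (mA • (⊤ : Submodule A F)).localized p := by
      rw [hmB]
      change _ = Submodule.localized' B p (LocalizedModule.mkLinearMap p F) (mA • ⊤)
      rw [Submodule.localized'_smul, Submodule.localized'_top]
    have h2 : ((maximalIdeal R).map (algebraMap R B) • (⊤ : Submodule B E')) =
        (mA • (⊤ : Submodule A E)).localized p := by
      rw [hmB]
      change _ = Submodule.localized' B p (LocalizedModule.mkLinearMap p E) (mA • ⊤)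
      rw [Submodule.localized'_smul, Submodule.localized'_top]
    rw [h1, h2, ← hsup, ← hsup]
    intro x hx
    obtain ⟨⟨x, s⟩, rfl⟩ := IsLocalizedModule.mk'_surjective p (LocalizedModule.mkLinearMap p E) x
    simp only [Function.uncurry_apply_pair] at hx ⊢
    rw [hU', mk'_mem_localized_iff] at hx
    rw [mk'_mem_localized_iff]
    obtain ⟨t, ht⟩ := hx
    obtain ⟨t', ht', h'⟩ := hI x ⟨t, t.2, ht⟩
    exact ⟨⟨t', ht'⟩, h'⟩
  refine ⟨?_, ?_⟩
  · rintro x ⟨t, ht, htx⟩
    have h1 : U' (IsLocalizedModule.mk' (LocalizedModule.mkLinearMap p E) x (1 : p)) ∈ Q.localized p := by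
      rw [hU', mk'_mem_localized_iff]
      exact ⟨⟨t, ht⟩, htx⟩
    have h2 := Groth.Agent.CalgB.NNoeth.mem_of_map_mem (R := R) (B := B) (W.localized p) (Q.localized p) U'
      hWQ' hT' hI' _ h1
    rw [mk'_mem_localized_iff] at h2
    obtain ⟨t', ht'⟩ := h2
    exact ⟨t', t'.2, ht'⟩
  · have h1 := Groth.Agent.CalgB.NNoeth.flat_coker (R := R) (B := B) (W.localized p) (Q.localized p) U'
      hWQ' hT' hI'
    have h2 : Q.localized p ⊔ LinearMap.range U' = (Q ⊔ LinearMap.range U).localized p := by
      rw [hrange, hsup]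
    rw [h2] at h1
    refine relFlat_of_flat (R := R) q (Q ⊔ LinearMap.range U)
      ((((Q ⊔ LinearMap.range U).localized p).mkQ.restrictScalars A) ∘ₗ (LocalizedModule.mkLinearMap p F))
      ?_ ?_ ?_ ?_
    · intro x hx
      have h3 : LocalizedModule.mkLinearMap p F x ∈ (Q ⊔ LinearMap.range U).localized p := by
        simpa using hx
      rw [← IsLocalizedModule.mk'_one p, mk'_mem_localized_iff] at h3
      obtain ⟨t, ht⟩ := h3
      exact ⟨t, t.2, ht⟩
    · intro x hx
      have h3 : LocalizedModule.mkLinearMap p F x ∈ (Q ⊔ LinearMap.range U).localized p :=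
        ⟨x, hx, 1, by rw [IsLocalizedModule.mk'_one]⟩
      simpa using h3
    · intro z
      obtain ⟨z, rfl⟩ := Submodule.mkQ_surjective _ z
      obtain ⟨⟨x, s⟩, rfl⟩ := IsLocalizedModule.mk'_surjective p (LocalizedModule.mkLinearMap p F) z
      refine ⟨s, s.2, x, ?_⟩
      simp only [Function.uncurry_apply_pair, LinearMap.comp_apply, LinearMap.restrictScalars_apply]
      rw [← IsLocalizedModule.mk'_cancel' (LocalizedModule.mkLinearMap p F) x s]
      rfl
    · intro s hs z hz
      have hu : IsUnit (algebraMap A B s) := IsLocalization.map_units B (⟨s, hs⟩ : p)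
      rw [← algebraMap_smul B s z] at hz
      exact (hu.smul_eq_zero).mp hz

end Main

end Groth.Agent.CalgB.NStageThm
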