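import Groth.Agent.CalgB.NSystem
import Groth.Agent.CalgB.NStageThm
import Mathlib.Algebra.MvPolynomial.Basic

/-!
# Passage to the limit in Stacks 046Y for polynomial rings over a local ring
-/

set_option autoImplicit false

namespace Groth.Agent.CalgB.NLimit

open IsLocalRing MvPolynomial Groth.Agent.CalgB.NSystem Groth.Agent.CalgB.NStageThm

universe u

variable {R : Type u} [CommRing R] {n : ℕ}

/-- the inclusion of polynomial rings -/
noncomputable abbrev inc (n : ℕ) (S : Subring R) : MvPolynomial (Fin n) S →+* MvPolynomial (Fin n) R :=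
  MvPolynomial.map S.subtype

theorem inc_injective (S : Subring R) : Function.Injective (inc n S) :=
  MvPolynomial.map_injective _ Subtype.val_injective

/-- transition maps -/
noncomputable abbrev trans (n : ℕ) {S S' : Subring R} (h : S ≤ S') :
    MvPolynomial (Fin n) S →+* MvPolynomial (Fin n) S' :=
  MvPolynomial.map (Subring.inclusion h)

theorem inc_trans {S S' : Subring R} (h : S ≤ S') (p : MvPolynomial (Fin n) S) :
    inc n S' (trans n h p) = inc n S p := by
  have h1 : S'.subtype.comp (Subring.inclusion h) = S.subtype := rfl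
  rw [inc, trans, MvPolynomial.map_map, h1]

theorem isLocalHom_inclusion {S S' : Subring R} (h : S ≤ S') [IsLocalHom S.subtype] :
    IsLocalHom (Subring.inclusion h) := by
  constructor
  intro a ha
  have h1 : IsUnit (S'.subtype (Subring.inclusion h a)) := ha.map _
  have h2 : IsUnit (S.subtype a) := h1
  exact isUnit_of_map_unit S.subtype a h2

theorem mem_range_inc_iff (S : Subring R) (p : MvPolynomial (Fin n) R) :
    p ∈ (inc n S).range ↔ ∀ m, coeff m p ∈ S := by
  constructor
  · rintro ⟨q, rfl⟩ m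
    rw [coeff_map]
    exact (coeff m q).2
  · intro h
    rw [p.as_sum]
    refine Subring.sum_mem _ fun m _ => ⟨monomial m ⟨coeff m p, h m⟩, ?_⟩
    simp [inc, map_monomial]

theorem range_inc_mono {S S' : Subring R} (h : S ≤ S') : (inc n S).range ≤ (inc n S').range := by
  intro p hp
  rw [mem_range_inc_iff] at hp ⊢
  exact fun m => h (hp m)

/-- finitely many polynomials are defined over some stage -/
theorem exists_range (st : Finset R → Subring R) (hmono : ∀ T T', T ⊆ T' → st T ≤ st T')
    (hmem : ∀ T, ∀ a ∈ T, a ∈ st T) (T : Finset R) (S : Set (MvPolynomial (Fin n) R)) (hS : S.Finite) :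
    ∃ T' : Finset R, T ⊆ T' ∧ ∀ p ∈ S, p ∈ (inc n (st T')).range := by
  classical
  induction S, hS using Set.Finite.induction_on with
  | empty => exact ⟨T, Finset.Subset.refl _, fun _ h => absurd h (Set.notMem_empty _)⟩
  | @insert p S _ _ ih =>
    obtain ⟨T', hT', hp⟩ := ih
    let T'' := T' ∪ p.support.image (fun m => coeff m p)
    refine ⟨T'', hT'.trans Finset.subset_union_left, ?_⟩
    rintro r (rfl | hr)
    · rw [mem_range_inc_iff]
      intro m
      by_cases hm : coeff m r = 0
      · rw [hm]; exact Subring.zero_mem _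
      · exact hmem _ _ (Finset.mem_union_right _
          (Finset.mem_image.mpr ⟨m, mem_support_iff.mpr hm, rfl⟩))
    · exact range_inc_mono (hmono _ _ Finset.subset_union_left) (hp r hr)

/-! ### vectors of polynomials -/

section Vec

variable {A B : Type*} [CommRing A] [CommRing B]

/-- apply a ring homomorphism to all entries of a vector -/
abbrev vm (φ : A →+* B) (d : ℕ) : (Fin d → A) →+* (Fin d → B) := φ.compLeft (Fin d)

theorem vm_apply (φ : A →+* B) {d : ℕ} (v : Fin d → A) (i : Fin d) : vm φ d v i = φ (v i) := rfl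

theorem vm_smul (φ : A →+* B) {d : ℕ} (a : A) (v : Fin d → A) : vm φ d (a • v) = φ a • vm φ d v := by
  funext i; simp

theorem vm_injective {φ : A →+* B} (hφ : Function.Injective φ) (d : ℕ) : Function.Injective (vm φ d) := by
  intro v w h
  funext i
  exact hφ (congrFun h i)

theorem vm_mem_span (φ : A →+* B) {d r : ℕ} (g : Fin r → Fin d → A) {v : Fin d → A}
    (hv : v ∈ Submodule.span A (Set.range g)) :
    vm φ d v ∈ Submodule.span B (Set.range fun j => vm φ d (g j)) := by
  rw [Submodule.mem_span_range_iff_exists_fun] at hv ⊢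
  obtain ⟨c, rfl⟩ := hv
  refine ⟨fun j => φ (c j), ?_⟩
  rw [map_sum]
  exact Finset.sum_congr rfl fun j _ => (vm_smul φ _ _).symm

theorem vm_linearCombination (φ : A →+* B) {d b : ℕ} (U : Fin b → Fin d → A) (x : Fin b → A) :
    vm φ d (Fintype.linearCombination A U x) =
      Fintype.linearCombination B (fun k => vm φ d (U k)) (vm φ b x) := by
  rw [Fintype.linearCombination_apply, Fintype.linearCombination_apply, map_sum]
  exact Finset.sum_congr rfl fun j _ => vm_smul φ _ _

theorem mem_smul_top_iff (I : Ideal A) {d : ℕ} (v : Fin d → A) :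
    v ∈ I • (⊤ : Submodule A (Fin d → A)) ↔ ∀ i, v i ∈ I := by
  constructor
  · intro hv i
    refine Submodule.smul_induction_on hv ?_ ?_
    · intro a ha w _
      simpa using I.mul_mem_right _ ha
    · intro x y hx hy
      simpa using I.add_mem hx hy
  · intro h
    have : v = ∑ i, v i • (Pi.single i (1 : A) : Fin d → A) := by
      funext j
      simp [Finset.sum_apply, Pi.single_apply]
    rw [this]
    exact Submodule.sum_mem _ fun i _ => Submodule.smul_mem_smul (h i) Submodule.mem_top

theorem mem_smul_span_iff (I : Ideal A) {M : Type*} [AddCommGroup M] [Module A M] {r : ℕ} (g : Fin r → M) (v : M) :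
    v ∈ I • Submodule.span A (Set.range g) ↔ ∃ c : Fin r → A, (∀ j, c j ∈ I) ∧ ∑ j, c j • g j = v := by
  rw [Submodule.mem_ideal_smul_span_iff_exists_sum]
  constructor
  · rintro ⟨a, ha, rfl⟩
    refine ⟨a, ha, ?_⟩
    rw [Finsupp.sum_fintype _ _ (by simp)]
  · rintro ⟨c, hc, rfl⟩
    refine ⟨Finsupp.equivFunOnFinite.symm c, by simpa using hc, ?_⟩
    rw [Finsupp.sum_fintype _ _ (by simp)]
    simp

end Vec

section Hyp

/-- the extended maximal ideal -/
noncomputable abbrev mA (R : Type u) [CommRing R] [IsLocalRing R] (n : ℕ) : Ideal (MvPolynomial (Fin n) R) :=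
  (maximalIdeal R).map (algebraMap R (MvPolynomial (Fin n) R))

variable [IsLocalRing R]

theorem mem_mA_iff (p : MvPolynomial (Fin n) R) : p ∈ mA R n ↔ red R (Fin n) p = 0 :=
  (red_eq_zero_iff p).symm

theorem map_mem_mA_iff {R₁ : Type u} [CommRing R₁] [IsLocalRing R₁] (φ : R₁ →+* R) [IsLocalHom φ]
    (p : MvPolynomial (Fin n) R₁) : MvPolynomial.map φ p ∈ mA R n ↔ p ∈ mA R₁ n := by
  rw [mem_mA_iff, mem_mA_iff, red_map]
  exact map_eq_zero_iff _ (MvPolynomial.map_injective _ (RingHom.injective _))

/-- hypotheses of the main theorem -/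
structure Hyp (q : Ideal (MvPolynomial (Fin n) R)) {b d r s : ℕ} (g : Fin r → Fin d → MvPolynomial (Fin n) R)
    (w : Fin s → Fin b → MvPolynomial (Fin n) R) (U : Fin b → Fin d → MvPolynomial (Fin n) R) : Prop where
  hWQ : Submodule.span (MvPolynomial (Fin n) R) (Set.range w) ≤ (Submodule.span (MvPolynomial (Fin n) R) (Set.range g)).comap
    (Fintype.linearCombination (MvPolynomial (Fin n) R) U)
  hT : ∀ v ∈ Submodule.span (MvPolynomial (Fin n) R) (Set.range g) ⊓ (mA R n • ⊤),
    ∃ t, t ∉ q ∧ t • v ∈ mA R n • Submodule.span (MvPolynomial (Fin n) R) (Set.range g)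
  hI : ∀ x : Fin b → MvPolynomial (Fin n) R,
    (∃ t, t ∉ q ∧ t • (Fintype.linearCombination (MvPolynomial (Fin n) R) U) x ∈
      Submodule.span (MvPolynomial (Fin n) R) (Set.range g) ⊔ (mA R n • ⊤)) →
    ∃ t, t ∉ q ∧ t • x ∈ Submodule.span (MvPolynomial (Fin n) R) (Set.range w) ⊔ (mA R n • ⊤)

/-- conclusions of the main theorem -/
structure Concl (q : Ideal (MvPolynomial (Fin n) R)) {b d r s : ℕ} (g : Fin r → Fin d → MvPolynomial (Fin n) R)
    (w : Fin s → Fin b → MvPolynomial (Fin n) R) (U : Fin b → Fin d → MvPolynomial (Fin n) R) : Prop where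
  inj : ∀ x, (∃ t, t ∉ q ∧ t • (Fintype.linearCombination (MvPolynomial (Fin n) R) U) x ∈
    Submodule.span (MvPolynomial (Fin n) R) (Set.range g)) → ∃ t, t ∉ q ∧ t • x ∈ Submodule.span (MvPolynomial (Fin n) R) (Set.range w)
  flat : RelFlat R q (Submodule.span (MvPolynomial (Fin n) R) (Set.range g) ⊔
    LinearMap.range (Fintype.linearCombination (MvPolynomial (Fin n) R) U))

theorem Hyp.concl [IsNoetherianRing R] (q : Ideal (MvPolynomial (Fin n) R)) [q.IsPrime]
    (hq : q.comap (algebraMap R (MvPolynomial (Fin n) R)) = maximalIdeal R) {b d r s : ℕ}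
    {g : Fin r → Fin d → MvPolynomial (Fin n) R}
    {w : Fin s → Fin b → MvPolynomial (Fin n) R} {U : Fin b → Fin d → MvPolynomial (Fin n) R}
    (h : Hyp q g w U) : Concl q g w U := by
  obtain ⟨h1, h2⟩ := Groth.Agent.CalgB.NStageThm.main q hq _ _ _ h.hWQ h.hT h.hI
  exact ⟨h1, h2⟩

end Hyp

end Groth.Agent.CalgB.NLimit
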