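import Groth.Agent.CalgB.NLimit

/-!
# Passage to the limit in Stacks 046Y, continued
-/

set_option autoImplicit false

namespace Groth.Agent.CalgB.NLimit2

open IsLocalRing MvPolynomial Groth.Agent.CalgB.NSystem Groth.Agent.CalgB.NStageThm
  Groth.Agent.CalgB.NLimit

universe u

variable {R : Type u} [CommRing R] [IsLocalRing R] {n : ℕ}

theorem comap_inc_comap (q : Ideal (MvPolynomial (Fin n) R))
    (hq : q.comap (algebraMap R (MvPolynomial (Fin n) R)) = maximalIdeal R) (S : Subring R)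
    [IsLocalRing S] [IsLocalHom S.subtype] :
    (q.comap (inc n S)).comap (algebraMap S (MvPolynomial (Fin n) S)) = maximalIdeal S := by
  ext a
  rw [Ideal.mem_comap, Ideal.mem_comap]
  have h1 : inc n S (algebraMap S (MvPolynomial (Fin n) S) a) = algebraMap R (MvPolynomial (Fin n) R) (a : R) := by
    rw [MvPolynomial.algebraMap_eq, MvPolynomial.algebraMap_eq, inc, map_C]
    rfl
  rw [h1, ← Ideal.mem_comap, hq]
  exact map_mem_nonunits_iff S.subtype a

theorem mA_le (q : Ideal (MvPolynomial (Fin n) R))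
    (hq : q.comap (algebraMap R (MvPolynomial (Fin n) R)) = maximalIdeal R) : mA R n ≤ q :=
  Ideal.map_le_iff_le_comap.mpr hq.ge

section Step

variable {b d r s : ℕ} {q : Ideal (MvPolynomial (Fin n) R)} [q.IsPrime]
  (hq : q.comap (algebraMap R (MvPolynomial (Fin n) R)) = maximalIdeal R)
  {g : Fin r → Fin d → MvPolynomial (Fin n) R}
  {w : Fin s → Fin b → MvPolynomial (Fin n) R} {U : Fin b → Fin d → MvPolynomial (Fin n) R}

/-- descent of hypothesis `hI` to a stage -/
theorem hI_stage (S : Subring R) [IsLocalRing S] [IsLocalHom S.subtype]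
    (gS : Fin r → Fin d → MvPolynomial (Fin n) S) (wS : Fin s → Fin b → MvPolynomial (Fin n) S)
    (US : Fin b → Fin d → MvPolynomial (Fin n) S)
    (hg : ∀ j, vm (inc n S) d (gS j) = g j) (hw : ∀ l, vm (inc n S) b (wS l) = w l)
    (hU : ∀ k, vm (inc n S) d (US k) = U k)
    (hq : q.comap (algebraMap R (MvPolynomial (Fin n) R)) = maximalIdeal R)
    (hI : ∀ x : Fin b → MvPolynomial (Fin n) R,
      (∃ t, t ∉ q ∧ t • (Fintype.linearCombination (MvPolynomial (Fin n) R) U) x ∈
        Submodule.span (MvPolynomial (Fin n) R) (Set.range g) ⊔ (mA R n • ⊤)) →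
      ∃ t, t ∉ q ∧ t • x ∈ Submodule.span (MvPolynomial (Fin n) R) (Set.range w) ⊔ (mA R n • ⊤))
    (x : Fin b → MvPolynomial (Fin n) S)
    (hx : ∃ t, t ∉ q.comap (inc n S) ∧ t • (Fintype.linearCombination (MvPolynomial (Fin n) S) US) x ∈
        Submodule.span (MvPolynomial (Fin n) S) (Set.range gS) ⊔ (mA S n • ⊤)) :
    ∃ t, t ∉ q.comap (inc n S) ∧
      t • x ∈ Submodule.span (MvPolynomial (Fin n) S) (Set.range wS) ⊔ (mA S n • ⊤) := by
  obtain ⟨t, ht, htx⟩ := hx
  obtain ⟨y, hy, z, hz, hyz⟩ := Submodule.mem_sup.mp htx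
  have hgr : (fun j => vm (inc n S) d (gS j)) = g := funext hg
  have hUr : (fun k => vm (inc n S) d (US k)) = U := funext hU
  have h1 : inc n S t • (Fintype.linearCombination (MvPolynomial (Fin n) R) U) (vm (inc n S) b x) ∈
      Submodule.span (MvPolynomial (Fin n) R) (Set.range g) ⊔ (mA R n • ⊤) := by
    rw [← hUr, ← vm_linearCombination, ← vm_smul, ← hyz, map_add]
    refine Submodule.add_mem_sup ?_ ?_
    · have := vm_mem_span (inc n S) gS hy
      rwa [hgr] at this
    · rw [mem_smul_top_iff] at hz ⊢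
      intro i
      rw [vm_apply]
      exact (map_mem_mA_iff S.subtype _).mpr (hz i)
  obtain ⟨t', ht', ht'x⟩ := hI _ ⟨_, ht, h1⟩
  obtain ⟨y', hy', z', hz', hyz'⟩ := Submodule.mem_sup.mp ht'x
  rw [Submodule.mem_span_range_iff_exists_fun] at hy'
  obtain ⟨c, rfl⟩ := hy'
  -- apply the lemma on linear systems
  let v : Option (Fin s) → Fin b → MvPolynomial (Fin n) S := fun j => j.elim x wS
  let p : Option (Fin s) → MvPolynomial (Fin n) R := fun j => j.elim t' (fun l => - c l)
  have hv : ∀ i, red R (Fin n) (∑ j, p j * MvPolynomial.map S.subtype (v j i)) = 0 := by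
    intro i
    have h2 : ∑ j, p j * MvPolynomial.map S.subtype (v j i) = z' i := by
      rw [Fintype.sum_option]
      have h3 := congrFun hyz' i
      have h4 : t' * MvPolynomial.map S.subtype (x i) = (t' • vm (inc n S) b x) i := rfl
      simp only [p, v, Option.elim_none, Option.elim_some]
      rw [h4, ← h3]
      have h5 : ∀ l, MvPolynomial.map S.subtype (wS l i) = w l i := fun l => by rw [← hw l]; rfl
      simp only [h5, Pi.add_apply, Finset.sum_apply, Pi.smul_apply, smul_eq_mul, neg_mul,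
        Finset.sum_neg_distrib]
      ring
    rw [h2]
    exact (mem_mA_iff _).mp ((mem_smul_top_iff _ _).mp hz' i)
  obtain ⟨L, e, y, h6, h7⟩ := exists_relations S.subtype v p hv
  have h8 : ∃ l, e l none ∉ q.comap (inc n S) := by
    by_contra hcon
    push Not at hcon
    apply ht'
    have h9 : t' = (p none - ∑ l, y l * MvPolynomial.map S.subtype (e l none)) +
        ∑ l, y l * inc n S (e l none) := by
      simp [p, inc]
    rw [h9]
    refine q.add_mem (mA_le q hq ((mem_mA_iff _).mpr (h6 none))) (q.sum_mem fun l _ => ?_)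
    exact q.mul_mem_left _ (hcon l)
  obtain ⟨l, hl⟩ := h8
  refine ⟨e l none, hl, ?_⟩
  have h10 : e l none • x = ∑ j, (- e l (some j)) • wS j + (fun i => ∑ j, e l j * v j i) := by
    funext i
    simp only [Fintype.sum_option, v, Option.elim_none, Option.elim_some, Pi.add_apply,
      Finset.sum_apply, Pi.smul_apply, smul_eq_mul, neg_mul, Finset.sum_neg_distrib]
    ring
  rw [h10]
  refine Submodule.add_mem_sup (Submodule.sum_mem _ fun j _ =>
    Submodule.smul_mem _ _ (Submodule.subset_span ⟨j, rfl⟩)) ?_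
  rw [mem_smul_top_iff]
  exact fun i => (mem_mA_iff _).mpr (h7 l i)

/-- descent of the `Tor` condition `hT` to all large stages -/
theorem hT_stage (st : Finset R → Subring R) (hmono : ∀ T T', T ⊆ T' → st T ≤ st T')
    (hmem : ∀ T, ∀ a ∈ T, a ∈ st T) [∀ T, IsNoetherianRing (st T)] [∀ T, IsLocalRing (st T)]
    [∀ T, IsLocalHom (st T).subtype] (T₁ : Finset R)
    (g₁ : Fin r → Fin d → MvPolynomial (Fin n) (st T₁))
    (hg : ∀ j, vm (inc n (st T₁)) d (g₁ j) = g j)
    (hT : ∀ v ∈ Submodule.span (MvPolynomial (Fin n) R) (Set.range g) ⊓ (mA R n • ⊤),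
      ∃ t, t ∉ q ∧ t • v ∈ mA R n • Submodule.span (MvPolynomial (Fin n) R) (Set.range g)) :
    ∃ T₂, T₁ ⊆ T₂ ∧ ∀ (T : Finset R) (h12 : T₁ ⊆ T) (_ : T₂ ⊆ T),
      ∀ v ∈ Submodule.span (MvPolynomial (Fin n) (st T)) (Set.range fun j =>
          vm (trans n (hmono _ _ h12)) d (g₁ j)) ⊓ (mA (st T) n • ⊤),
        ∃ t, t ∉ q.comap (inc n (st T)) ∧ t • v ∈ mA (st T) n •
          Submodule.span (MvPolynomial (Fin n) (st T)) (Set.range fun j =>
            vm (trans n (hmono _ _ h12)) d (g₁ j)) := by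
  classical
  -- generators of `Q₁ ⊓ 𝔪₁ F₁`
  let N₁ : Submodule (MvPolynomial (Fin n) (st T₁)) (Fin d → MvPolynomial (Fin n) (st T₁)) :=
    Submodule.span _ (Set.range g₁) ⊓ (mA (st T₁) n • ⊤)
  have hfg : N₁.FG := IsNoetherian.noetherian N₁
  obtain ⟨k, h, hh⟩ := Submodule.fg_iff_exists_fin_generating_family.mp hfg
  have hhN : ∀ i, h i ∈ N₁ := fun i => hh ▸ Submodule.subset_span ⟨i, rfl⟩
  have hgr : (fun j => vm (inc n (st T₁)) d (g₁ j)) = g := funext hg
  have h1 : ∀ i, vm (inc n (st T₁)) d (h i) ∈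
      Submodule.span (MvPolynomial (Fin n) R) (Set.range g) ⊓ (mA R n • ⊤) := by
    intro i
    refine ⟨?_, ?_⟩
    · have := vm_mem_span (inc n (st T₁)) g₁ (hhN i).1
      rwa [hgr] at this
    · have := (hhN i).2
      simp only [SetLike.mem_coe] at this ⊢
      rw [mem_smul_top_iff] at this ⊢
      intro l
      rw [vm_apply]
      exact (map_mem_mA_iff (st T₁).subtype _).mpr (this l)
  have h2 : ∀ i, ∃ t, t ∉ q ∧ ∃ c : Fin r → MvPolynomial (Fin n) R, (∀ j, c j ∈ mA R n) ∧
      ∑ j, c j • g j = t • vm (inc n (st T₁)) d (h i) := by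
    intro i
    obtain ⟨t, ht, htv⟩ := hT _ (h1 i)
    rw [mem_smul_span_iff] at htv
    exact ⟨t, ht, htv⟩
  choose t ht c hc hct using h2
  obtain ⟨T₂, hT₂, hT₂'⟩ := exists_range (n := n) st hmono hmem T₁
    (Set.range t ∪ Set.range (fun ij : Fin k × Fin r => c ij.1 ij.2))
    ((Set.finite_range _).union (Set.finite_range _))
  refine ⟨T₂, hT₂, fun T h12 hT2 v hv => ?_⟩
  -- lift `t` and `c` to stage `T`
  have hle : (inc n (st T₂)).range ≤ (inc n (st T)).range := range_inc_mono (hmono _ _ hT2)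
  have ht' : ∀ i, ∃ t' : MvPolynomial (Fin n) (st T), inc n (st T) t' = t i :=
    fun i => hle (hT₂' (t i) (Or.inl ⟨i, rfl⟩))
  have hc' : ∀ i j, ∃ c' : MvPolynomial (Fin n) (st T), inc n (st T) c' = c i j :=
    fun i j => hle (hT₂' (c i j) (Or.inr ⟨(i, j), rfl⟩))
  choose t' ht' using ht'
  choose c' hc' using hc'
  set τ := trans n (hmono _ _ h12) with hτ
  set gT : Fin r → Fin d → MvPolynomial (Fin n) (st T) := fun j => vm τ d (g₁ j) with hgT
  have hgT' : ∀ j, vm (inc n (st T)) d (gT j) = g j := by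
    intro j
    rw [← hg j]
    funext i
    exact inc_trans (hmono _ _ h12) _
  have h3 : ∀ i, t' i • vm τ d (h i) = ∑ j, c' i j • gT j := by
    intro i
    apply vm_injective (inc_injective (n := n) (st T)) d
    rw [vm_smul, ht', map_sum]
    have h4 : vm (inc n (st T)) d (vm τ d (h i)) = vm (inc n (st T₁)) d (h i) := by
      funext l
      exact inc_trans (hmono _ _ h12) _
    rw [h4, ← hct i]
    refine Finset.sum_congr rfl fun j _ => ?_
    rw [vm_smul, hc', hgT']
  have h5 : ∀ i, t' i • vm τ d (h i) ∈ mA (st T) n •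
      Submodule.span (MvPolynomial (Fin n) (st T)) (Set.range gT) := by
    intro i
    rw [h3 i, mem_smul_span_iff]
    refine ⟨c' i, fun j => ?_, rfl⟩
    rw [← map_mem_mA_iff (st T).subtype]
    have := hc i j
    rwa [← hc' i j] at this
  -- decompose `v`
  obtain ⟨hv1, hv2⟩ := hv
  simp only [SetLike.mem_coe] at hv1 hv2
  rw [Submodule.mem_span_range_iff_exists_fun] at hv1
  obtain ⟨p, rfl⟩ := hv1
  have hloc : IsLocalHom (Subring.inclusion (hmono _ _ h12)) := isLocalHom_inclusion (hmono _ _ h12)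
  have hp : ∀ i, red (st T) (Fin n) (∑ j, p j * MvPolynomial.map (Subring.inclusion (hmono _ _ h12)) (g₁ j i)) = 0 := by
    intro i
    rw [mem_smul_top_iff] at hv2
    have := (mem_mA_iff _).mp (hv2 i)
    rw [← this]
    congr 1
    simp only [Finset.sum_apply, Pi.smul_apply, smul_eq_mul]
    rfl
  obtain ⟨L, e, y, h6, h7⟩ := exists_relations (Subring.inclusion (hmono _ _ h12)) g₁ p hp
  -- the product of the `t'`
  let tt := ∏ i, t' i
  have htt : tt ∉ q.comap (inc n (st T)) := by
    rw [Ideal.IsPrime.prod_mem_iff]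
    push Not
    intro i _
    rw [Ideal.mem_comap, ht']
    exact ht i
  refine ⟨tt, htt, ?_⟩
  have h8 : ∀ l, (∑ j, e l j • g₁ j) ∈ N₁ := by
    intro l
    refine ⟨Submodule.sum_mem _ fun j _ => Submodule.smul_mem _ _ (Submodule.subset_span ⟨j, rfl⟩), ?_⟩
    simp only [SetLike.mem_coe]
    rw [mem_smul_top_iff]
    intro i
    rw [mem_mA_iff, ← h7 l i]
    simp
  have h9 : ∀ l, tt • vm τ d (∑ j, e l j • g₁ j) ∈ mA (st T) n •
      Submodule.span (MvPolynomial (Fin n) (st T)) (Set.range gT) := by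
    intro l
    have h10 := h8 l
    rw [← hh, Submodule.mem_span_range_iff_exists_fun] at h10
    obtain ⟨a, ha⟩ := h10
    rw [← ha, map_sum, Finset.smul_sum]
    refine Submodule.sum_mem _ fun i _ => ?_
    rw [vm_smul, smul_comm]
    refine Submodule.smul_mem _ _ ?_
    have h11 : tt = (∏ i' ∈ Finset.univ.erase i, t' i') * t' i :=
      (Finset.prod_erase_mul _ _ (Finset.mem_univ i)).symm
    rw [h11, mul_smul]
    exact Submodule.smul_mem _ _ (h5 i)
  have h12' : ∑ j, p j • gT j = ∑ j, (p j - ∑ l, y l * τ (e l j)) • gT j +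
      ∑ l, y l • vm τ d (∑ j, e l j • g₁ j) := by
    have h13 : ∀ l, y l • vm τ d (∑ j, e l j • g₁ j) = ∑ j, (y l * τ (e l j)) • gT j := by
      intro l
      rw [map_sum, Finset.smul_sum]
      refine Finset.sum_congr rfl fun j _ => ?_
      rw [vm_smul, smul_smul]
    simp only [h13]
    rw [Finset.sum_comm, ← Finset.sum_add_distrib]
    refine Finset.sum_congr rfl fun j _ => ?_
    rw [← Finset.sum_smul, ← add_smul, sub_add_cancel]
  have h14 : ∑ j, p j • gT j ∈ (⊤ : Submodule (MvPolynomial (Fin n) (st T)) (Fin d → MvPolynomial (Fin n) (st T))) :=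
    Submodule.mem_top
  rw [h12', smul_add]
  refine Submodule.add_mem _ ?_ ?_
  · refine Submodule.smul_mem _ _ (Submodule.sum_mem _ fun j _ => ?_)
    exact Submodule.smul_mem_smul ((mem_mA_iff _).mpr (h6 j)) (Submodule.subset_span ⟨j, rfl⟩)
  · rw [Finset.smul_sum]
    refine Submodule.sum_mem _ fun l _ => ?_
    rw [smul_comm]
    exact Submodule.smul_mem _ _ (h9 l)

end Step

end Groth.Agent.CalgB.NLimit2
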