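import Groth.Agent.CalgB.NLimit2

/-!
# Passage to the limit in Stacks 046Y, end
-/

set_option autoImplicit false

namespace Groth.Agent.CalgB.NLimit3

open IsLocalRing MvPolynomial Groth.Agent.CalgB.NSystem Groth.Agent.CalgB.NStageThm
  Groth.Agent.CalgB.NLimit Groth.Agent.CalgB.NLimit2

universe u

variable {R : Type u} [CommRing R] {n : ℕ}

theorem exists_lift_vec {S : Subring R} {ι : Type*} {d : ℕ} (g : ι → Fin d → MvPolynomial (Fin n) R)
    (h : ∀ j i, g j i ∈ (inc n S).range) :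
    ∃ g' : ι → Fin d → MvPolynomial (Fin n) S, ∀ j, vm (inc n S) d (g' j) = g j := by
  choose g' hg' using h
  exact ⟨g', fun j => funext fun i => hg' j i⟩

theorem vm_inc_smul (S : Subring R) {d : ℕ} (a : S) (v : Fin d → MvPolynomial (Fin n) S) :
    vm (inc n S) d (a • v) = (a : R) • vm (inc n S) d v := by
  funext i
  rw [Pi.smul_apply, vm_apply, vm_apply, Pi.smul_apply, MvPolynomial.smul_eq_C_mul,
    MvPolynomial.smul_eq_C_mul, map_mul, inc, map_C]
  rfl

variable [IsLocalRing R]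

section Limit

variable {b d r s : ℕ} {q : Ideal (MvPolynomial (Fin n) R)} [q.IsPrime]
  {g : Fin r → Fin d → MvPolynomial (Fin n) R}
  {w : Fin s → Fin b → MvPolynomial (Fin n) R} {U : Fin b → Fin d → MvPolynomial (Fin n) R}

theorem exists_concl (hq : q.comap (algebraMap R (MvPolynomial (Fin n) R)) = maximalIdeal R)
    (st : Finset R → Subring R) (hmono : ∀ T T', T ⊆ T' → st T ≤ st T')
    (hmem : ∀ T, ∀ a ∈ T, a ∈ st T) [∀ T, IsNoetherianRing (st T)] [∀ T, IsLocalRing (st T)]
    [∀ T, IsLocalHom (st T).subtype] (h : Hyp q g w U) :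
    ∃ T₂ : Finset R, ∀ T, T₂ ⊆ T → ∃ (gT : Fin r → Fin d → MvPolynomial (Fin n) (st T))
      (wT : Fin s → Fin b → MvPolynomial (Fin n) (st T)) (UT : Fin b → Fin d → MvPolynomial (Fin n) (st T)),
      (∀ j, vm (inc n (st T)) d (gT j) = g j) ∧ (∀ j, vm (inc n (st T)) b (wT j) = w j) ∧
      (∀ j, vm (inc n (st T)) d (UT j) = U j) ∧ Concl (q.comap (inc n (st T))) gT wT UT := by
  classical
  have hW : ∀ l, ∃ P : Fin r → MvPolynomial (Fin n) R,
      ∑ j, P j • g j = Fintype.linearCombination (MvPolynomial (Fin n) R) U (w l) := by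
    intro l
    have := h.hWQ (Submodule.subset_span ⟨l, rfl⟩)
    rwa [Submodule.mem_comap, Submodule.mem_span_range_iff_exists_fun] at this
  choose P hP using hW
  obtain ⟨T₁, -, hT₁⟩ := exists_range (n := n) st hmono hmem ∅
    (Set.range (fun ji : Fin r × Fin d => g ji.1 ji.2) ∪
      (Set.range (fun ji : Fin s × Fin b => w ji.1 ji.2) ∪
        (Set.range (fun ji : Fin b × Fin d => U ji.1 ji.2) ∪
          Set.range (fun ji : Fin s × Fin r => P ji.1 ji.2))))
    ((Set.finite_range _).union ((Set.finite_range _).union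
      ((Set.finite_range _).union (Set.finite_range _))))
  obtain ⟨g₁, hg₁⟩ := exists_lift_vec (S := st T₁) g fun j i => hT₁ _ (Or.inl ⟨(j, i), rfl⟩)
  obtain ⟨w₁, hw₁⟩ := exists_lift_vec (S := st T₁) w fun j i => hT₁ _ (Or.inr (Or.inl ⟨(j, i), rfl⟩))
  obtain ⟨U₁, hU₁⟩ := exists_lift_vec (S := st T₁) U
    fun j i => hT₁ _ (Or.inr (Or.inr (Or.inl ⟨(j, i), rfl⟩)))
  obtain ⟨T₂, hT12, hT₂⟩ := hT_stage (q := q) (g := g) st hmono hmem T₁ g₁ hg₁ h.hT
  refine ⟨T₂, fun T hT => ?_⟩
  have h12 : T₁ ⊆ T := hT12.trans hT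
  have hv : ∀ {d : ℕ} (v : Fin d → MvPolynomial (Fin n) (st T₁)),
      vm (inc n (st T)) d (vm (trans n (hmono _ _ h12)) d v) = vm (inc n (st T₁)) d v := by
    intro d v
    funext i
    exact inc_trans (hmono _ _ h12) _
  have hgT : ∀ j, vm (inc n (st T)) d (vm (trans n (hmono _ _ h12)) d (g₁ j)) = g j :=
    fun j => (hv _).trans (hg₁ j)
  have hwT : ∀ j, vm (inc n (st T)) b (vm (trans n (hmono _ _ h12)) b (w₁ j)) = w j :=
    fun j => (hv _).trans (hw₁ j)
  have hUT : ∀ j, vm (inc n (st T)) d (vm (trans n (hmono _ _ h12)) d (U₁ j)) = U j :=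
    fun j => (hv _).trans (hU₁ j)
  refine ⟨fun j => vm (trans n (hmono _ _ h12)) d (g₁ j), fun j => vm (trans n (hmono _ _ h12)) b (w₁ j),
    fun j => vm (trans n (hmono _ _ h12)) d (U₁ j), hgT, hwT, hUT, ?_⟩
  have hqT := comap_inc_comap q hq (st T)
  refine Hyp.concl (q.comap (inc n (st T))) hqT ⟨?_, hT₂ T h12 hT, ?_⟩
  · rw [Submodule.span_le]
    rintro _ ⟨l, rfl⟩
    simp only [SetLike.mem_coe, Submodule.mem_comap]
    have hP' : ∀ j, ∃ p : MvPolynomial (Fin n) (st T), inc n (st T) p = P l j := fun j =>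
      range_inc_mono (hmono _ _ h12) (hT₁ (P l j) (Or.inr (Or.inr (Or.inr ⟨(l, j), rfl⟩))))
    choose P' hP' using hP'
    rw [Submodule.mem_span_range_iff_exists_fun]
    refine ⟨P', ?_⟩
    apply vm_injective (inc_injective (n := n) (st T)) d
    rw [vm_linearCombination, hwT, map_sum]
    simp only [hUT]
    rw [← hP]
    refine Finset.sum_congr rfl fun j _ => ?_
    rw [vm_smul, hP', hgT]
  · exact hI_stage (q := q) (g := g) (w := w) (U := U) (st T) _ _ _ hgT hwT hUT hq h.hI

theorem limit (hq : q.comap (algebraMap R (MvPolynomial (Fin n) R)) = maximalIdeal R)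
    (st : Finset R → Subring R) (hmono : ∀ T T', T ⊆ T' → st T ≤ st T')
    (hmem : ∀ T, ∀ a ∈ T, a ∈ st T) [∀ T, IsNoetherianRing (st T)] [∀ T, IsLocalRing (st T)]
    [∀ T, IsLocalHom (st T).subtype] (h : Hyp q g w U) : Concl q g w U := by
  classical
  obtain ⟨T₂, hT₂⟩ := exists_concl hq st hmono hmem h
  refine ⟨?_, ?_⟩
  · rintro x ⟨t, ht, htx⟩
    rw [Submodule.mem_span_range_iff_exists_fun] at htx
    obtain ⟨p, hp⟩ := htx
    obtain ⟨T, hT, hT'⟩ := exists_range (n := n) st hmono hmem T₂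
      ({t} ∪ (Set.range x ∪ Set.range p))
      ((Set.finite_singleton _).union ((Set.finite_range _).union (Set.finite_range _)))
    obtain ⟨gT, wT, UT, hg, hw, hU, hC⟩ := hT₂ T hT
    obtain ⟨t', ht'⟩ := hT' t (Or.inl rfl)
    choose x' hx' using fun i => hT' (x i) (Or.inr (Or.inl ⟨i, rfl⟩))
    choose p' hp' using fun i => hT' (p i) (Or.inr (Or.inr ⟨i, rfl⟩))
    have hx'' : vm (inc n (st T)) b x' = x := funext hx'
    have h1 : t' ∉ q.comap (inc n (st T)) := by
      rw [Ideal.mem_comap, ht']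
      exact ht
    have h2 : t' • (Fintype.linearCombination (MvPolynomial (Fin n) (st T)) UT) x' ∈
        Submodule.span (MvPolynomial (Fin n) (st T)) (Set.range gT) := by
      rw [Submodule.mem_span_range_iff_exists_fun]
      refine ⟨p', ?_⟩
      apply vm_injective (inc_injective (n := n) (st T)) d
      rw [vm_smul, vm_linearCombination, hx'', ht', map_sum, funext hU, ← hp]
      refine Finset.sum_congr rfl fun j _ => ?_
      rw [vm_smul, hp', hg]
    obtain ⟨t₂, ht₂, h₂⟩ := hC.inj x' ⟨t', h1, h2⟩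
    refine ⟨inc n (st T) t₂, ht₂, ?_⟩
    rw [← hx'', ← vm_smul]
    have := vm_mem_span (inc n (st T)) wT h₂
    rwa [funext hw] at this
  · rintro l a f ⟨t, ht, htf⟩
    obtain ⟨y, hy, _, ⟨x, rfl⟩, hyx⟩ := Submodule.mem_sup.mp htf
    rw [Submodule.mem_span_range_iff_exists_fun] at hy
    obtain ⟨p, rfl⟩ := hy
    obtain ⟨T, hT, hT'⟩ := exists_range (n := n) st hmono hmem (T₂ ∪ Finset.univ.image a)
      ({t} ∪ (Set.range x ∪ (Set.range p ∪ Set.range fun ij : Fin l × Fin d => f ij.1 ij.2)))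
      ((Set.finite_singleton _).union ((Set.finite_range _).union
        ((Set.finite_range _).union (Set.finite_range _))))
    obtain ⟨gT, wT, UT, hg, hw, hU, hC⟩ := hT₂ T (Finset.subset_union_left.trans hT)
    obtain ⟨t', ht'⟩ := hT' t (Or.inl rfl)
    choose x' hx' using fun i => hT' (x i) (Or.inr (Or.inl ⟨i, rfl⟩))
    choose p' hp' using fun i => hT' (p i) (Or.inr (Or.inr (Or.inl ⟨i, rfl⟩)))
    obtain ⟨f', hf'⟩ := exists_lift_vec (S := st T) f
      fun i j => hT' (f i j) (Or.inr (Or.inr (Or.inr ⟨(i, j), rfl⟩)))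
    have hx'' : vm (inc n (st T)) b x' = x := funext hx'
    have ha : ∀ i, a i ∈ st T := fun i => hmem T _ (hT (Finset.mem_union_right _
      (Finset.mem_image_of_mem _ (Finset.mem_univ i))))
    have key : t' • ∑ i, (⟨a i, ha i⟩ : st T) • f' i =
        ∑ j, p' j • gT j + Fintype.linearCombination (MvPolynomial (Fin n) (st T)) UT x' := by
      apply vm_injective (inc_injective (n := n) (st T)) d
      rw [vm_smul, map_sum, map_add, vm_linearCombination, map_sum, ht', hx'', funext hU]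
      simp only [vm_smul, vm_inc_smul, hp', hg, hf']
      exact hyx.symm
    obtain ⟨k, c, y, t₂, ht₂, hc1, hc2⟩ := hC.flat l (fun i => ⟨a i, ha i⟩) f' ⟨t', by
      rw [Ideal.mem_comap, ht']
      exact ht, by
      rw [key]
      exact Submodule.add_mem_sup (Submodule.sum_mem _ fun j _ =>
        Submodule.smul_mem _ _ (Submodule.subset_span ⟨j, rfl⟩)) ⟨x', rfl⟩⟩
    refine ⟨k, fun i j => (c i j : R), fun j => vm (inc n (st T)) d (y j), inc n (st T) t₂, ht₂, ?_, ?_⟩
    · intro i
      obtain ⟨z, hz, _, ⟨z', rfl⟩, hzz⟩ := Submodule.mem_sup.mp (hc1 i)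
      have h1 : inc n (st T) t₂ • f i - ∑ j, (c i j : R) • vm (inc n (st T)) d (y j) =
          vm (inc n (st T)) d z +
            Fintype.linearCombination (MvPolynomial (Fin n) R) U (vm (inc n (st T)) b z') := by
        have h2 := congrArg (vm (inc n (st T)) d) hzz
        rw [map_add, vm_linearCombination, map_sub, map_sum, vm_smul, funext hU, hf'] at h2
        simp only [vm_inc_smul] at h2
        exact h2.symm
      rw [h1]
      refine Submodule.add_mem_sup ?_ ⟨_, rfl⟩
      have := vm_mem_span (inc n (st T)) gT hz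
      rwa [funext hg] at this
    · intro j
      have := congrArg (Subtype.val) (hc2 j)
      simpa using this

end Limit

end Groth.Agent.CalgB.NLimit3
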