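import Groth.Agent.Flat2E.LocalCrit
import Mathlib.RingTheory.Smooth.Quotient
import Mathlib.LinearAlgebra.TensorProduct.Quotient
import Mathlib.LinearAlgebra.Basis.VectorSpace
import Mathlib.RingTheory.LocalRing.ResidueField.Basic

/-!
# Noetherian case of Stacks 046Y, in terms of submodules of a flat module

`R → B` local homomorphism of Noetherian local rings, `F` a finite `B`-module flat over `R`.
-/

set_option autoImplicit false

namespace Groth.Agent.CalgB.NNoeth

open IsLocalRing TensorProduct

universe u v w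

section Flat

variable {R : Type u} [CommRing R]

/-- The kernel of a surjection of flat modules is flat. -/
theorem flat_of_exact {K M P : Type*} [AddCommGroup K] [AddCommGroup M] [AddCommGroup P]
    [Module R K] [Module R M] [Module R P] [Module.Flat R M] [Module.Flat R P]
    {g : K →ₗ[R] M} (f : M →ₗ[R] P) (hg : Function.Injective g) (hf : Function.Surjective f)
    (H : Function.Exact g f) : Module.Flat R K := by
  rw [Module.Flat.iff_lTensor_injective']
  intro I
  have h1 : Function.Injective (I.subtype.lTensor M) :=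
    Module.Flat.lTensor_preserves_injective_linearMap _ Subtype.val_injective
  have h2 : Function.Injective (g.rTensor I) := by
    rw [← LinearMap.lTensor_inj_iff_rTensor_inj]
    exact LinearMap.lTensor_injective_of_exact_of_flat f hf g hg H I
  have h3 : (g.rTensor R) ∘ₗ (I.subtype.lTensor K) = (I.subtype.lTensor M) ∘ₗ (g.rTensor I) := by
    ext x y
    simp
  have h4 : Function.Injective ((g.rTensor R) ∘ₗ (I.subtype.lTensor K)) := by
    rw [h3]
    exact h1.comp h2
  rw [LinearMap.coe_comp] at h4
  exact Function.Injective.of_comp h4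

end Flat

variable {R : Type u} {B : Type v} [CommRing R] [CommRing B] [Algebra R B]

theorem mem_map_smul_top_iff {F : Type w} [AddCommGroup F] [Module B F] [Module R F] [IsScalarTower R B F]
    (I : Ideal R) (N : Submodule B F) (x : F) :
    x ∈ I.map (algebraMap R B) • N ↔ x ∈ I • N.restrictScalars R := by
  rw [← Ideal.smul_restrictScalars]; rfl

variable [IsLocalRing R] [IsLocalRing B] [IsNoetherianRing R] [IsNoetherianRing B]
  [IsLocalHom (algebraMap R B)]

omit [IsLocalRing B] [IsNoetherianRing B] in
theorem smul_mono_right' {F : Type w} [AddCommGroup F] [Module B F] (m : Ideal B) {N P : Submodule B F}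
    (h : N ≤ P) : m • N ≤ m • P := Submodule.smul_mono le_rfl h

theorem map_maximalIdeal_le_jacobson :
    (maximalIdeal R).map (algebraMap R B) ≤ (⊥ : Ideal B).jacobson := by
  rw [IsLocalRing.jacobson_eq_maximalIdeal (⊥ : Ideal B) bot_ne_top]
  exact Ideal.map_le_iff_le_comap.mpr fun x hx => (map_mem_nonunits_iff (algebraMap R B) x).mpr hx

/-- The local criterion in terms of a submodule `V` of a flat module `F`. -/
theorem flat_quotient {F : Type w} [AddCommGroup F] [Module B F] [Module R F] [IsScalarTower R B F]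
    [Module.Finite B F] [Module.Flat R F] (V : Submodule B F)
    (hV : V ⊓ ((maximalIdeal R).map (algebraMap R B) • ⊤) ≤ (maximalIdeal R).map (algebraMap R B) • V) :
    Module.Flat R (F ⧸ V) := by
  set I := maximalIdeal R with hI
  have h2 : Module.Flat (R ⧸ I) ((R ⧸ I) ⊗[R] (F ⧸ V)) := by
    let _ : Field (R ⧸ I) := Ideal.Quotient.field I
    infer_instance
  refine Groth.Agent.Flat2E.LocalCrit.flat_of_rTensor_injective (S := B) I
    map_maximalIdeal_le_jacobson ?_ h2
  rw [← LinearMap.lTensor_inj_iff_rTensor_inj]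
  let i : V.restrictScalars R →ₗ[R] F := (V.restrictScalars R).subtype
  let p : F →ₗ[R] F ⧸ V := V.mkQ.restrictScalars R
  have hip : Function.Exact i p := by
    intro x
    simp [i, p]
  refine Groth.Agent.Flat2E.LocalCrit.lTensor_injective_of_rTensor_injective i p I.subtype I.mkQ hip
    (Submodule.mkQ_surjective V) Subtype.val_injective (LinearMap.exact_subtype_mkQ I)
    I.mkQ_surjective ?_
  rw [injective_iff_map_eq_zero]
  intro x hx
  obtain ⟨v, hv⟩ := Submodule.mkQ_surjective _ (TensorProduct.tensorQuotEquivQuotSMul (V.restrictScalars R) I x)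
  have hxv : x = v ⊗ₜ[R] (Ideal.Quotient.mk I 1) := by
    apply (TensorProduct.tensorQuotEquivQuotSMul (V.restrictScalars R) I).injective
    rw [TensorProduct.tensorQuotEquivQuotSMul_tmul_mk, ← hv]
    simp
  rw [hxv, LinearMap.rTensor_tmul] at hx
  have h3 : (v : F) ∈ I • (⊤ : Submodule R F) := by
    have := congrArg (TensorProduct.tensorQuotEquivQuotSMul F I) hx
    rw [map_zero, TensorProduct.tensorQuotEquivQuotSMul_tmul_mk, one_smul] at this
    exact (Submodule.Quotient.mk_eq_zero _).mp this
  have h4 : (v : F) ∈ I • (V.restrictScalars R) := by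
    rw [← mem_map_smul_top_iff]
    refine hV ⟨v.2, ?_⟩
    have h5 : (v : F) ∈ I • (⊤ : Submodule B F).restrictScalars R := by
      rw [Submodule.restrictScalars_top]; exact h3
    exact (mem_map_smul_top_iff I ⊤ _).mpr h5
  have h6 : v ∈ I • (⊤ : Submodule R (V.restrictScalars R)) := by
    have h7 : I • (V.restrictScalars R) = (I • (⊤ : Submodule R (V.restrictScalars R))).map
        (V.restrictScalars R).subtype := by
      rw [Submodule.map_smul'', Submodule.map_top, Submodule.range_subtype]
    rw [h7] at h4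
    obtain ⟨w, hw, hwv⟩ := h4
    have : w = v := Subtype.ext hwv
    rwa [← this]
  rw [hxv]
  apply (TensorProduct.tensorQuotEquivQuotSMul (V.restrictScalars R) I).injective
  rw [TensorProduct.tensorQuotEquivQuotSMul_tmul_mk, map_zero, one_smul]
  exact (Submodule.Quotient.mk_eq_zero _).mpr h6

section Main

variable {E F : Type w} [AddCommGroup E] [Module B E] [Module R E] [IsScalarTower R B E]
  [Module.Finite B E] [Module.Flat R E]
  [AddCommGroup F] [Module B F] [Module R F] [IsScalarTower R B F] [Module.Finite B F] [Module.Flat R F]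
  (W : Submodule B E) (Q : Submodule B F) (U : E →ₗ[B] F) (hWQ : W ≤ Q.comap U)
  (hT : Q ⊓ ((maximalIdeal R).map (algebraMap R B) • ⊤) ≤ (maximalIdeal R).map (algebraMap R B) • Q)
  (hI : ∀ x : E, U x ∈ Q ⊔ ((maximalIdeal R).map (algebraMap R B) • ⊤) →
    x ∈ W ⊔ ((maximalIdeal R).map (algebraMap R B) • ⊤))

include hWQ hT hI

omit [IsNoetherianRing R] [IsLocalHom (algebraMap R B)] [Module R E] [IsScalarTower R B E]
  [Module.Finite B E] [Module.Flat R E] [Module R F] [IsScalarTower R B F] [Module.Finite B F] [Module.Flat R F] in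
theorem tor_sup :
    (Q ⊔ LinearMap.range U) ⊓ ((maximalIdeal R).map (algebraMap R B) • ⊤) ≤
      (maximalIdeal R).map (algebraMap R B) • (Q ⊔ LinearMap.range U) := by
  set m := (maximalIdeal R).map (algebraMap R B) with hm
  rintro v ⟨hv1, hv2⟩
  obtain ⟨y, hy, z, ⟨x, rfl⟩, rfl⟩ := Submodule.mem_sup.mp hv1
  have h1 : U x ∈ Q ⊔ m • ⊤ := by
    have : U x = -y + (y + U x) := by abel
    rw [this]
    exact Submodule.add_mem_sup (Q.neg_mem hy) hv2
  obtain ⟨w, hw, x', hx', rfl⟩ := Submodule.mem_sup.mp (hI x h1)
  have h2 : U x' ∈ m • LinearMap.range U := by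
    have : m • LinearMap.range U = (m • (⊤ : Submodule B E)).map U := by
      rw [Submodule.map_smul'', Submodule.map_top]
    rw [this]
    exact Submodule.mem_map_of_mem hx'
  have h3 : y + U w ∈ m • Q := by
    refine hT ⟨Q.add_mem hy (hWQ hw), ?_⟩
    have : y + U w = (y + U (w + x')) - U x' := by rw [map_add]; abel
    rw [this]
    exact Submodule.sub_mem _ hv2 (smul_mono_right' m le_top h2)
  have h4 : y + U (w + x') = (y + U w) + U x' := by rw [map_add]; abel
  rw [h4]
  exact Submodule.add_mem _ (smul_mono_right' m le_sup_left h3)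
    (smul_mono_right' m le_sup_right h2)

theorem flat_coker : Module.Flat R (F ⧸ (Q ⊔ LinearMap.range U)) :=
  flat_quotient _ (tor_sup W Q U hWQ hT hI)

theorem mem_of_map_mem (x : E) (hx : U x ∈ Q) : x ∈ W := by
  set m := (maximalIdeal R).map (algebraMap R B) with hm
  have hF1 : Module.Flat R (F ⧸ Q) := flat_quotient Q hT
  have hF2 : Module.Flat R (F ⧸ (Q ⊔ LinearMap.range U)) := flat_coker W Q U hWQ hT hI
  -- `K = U⁻¹ Q`
  set K := Q.comap U with hK
  -- `E / K → F / Q` injective with cokernel `F / (Q + im U)`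
  let g : (E ⧸ K) →ₗ[B] (F ⧸ Q) := K.mapQ Q U le_rfl
  let f : (F ⧸ Q) →ₗ[B] (F ⧸ (Q ⊔ LinearMap.range U)) := Submodule.factor le_sup_left
  have hg : Function.Injective g := by
    rw [← LinearMap.ker_eq_bot, Submodule.ker_mapQ, hK]
    rw [Submodule.mkQ_map_self]
  have hf : Function.Surjective f := Submodule.factor_surjective _
  have hgf : Function.Exact g f := by
    intro y
    constructor
    · intro hy
      obtain ⟨y, rfl⟩ := Submodule.mkQ_surjective _ y
      have h1 : y ∈ Q ⊔ LinearMap.range U := by
        simpa [f] using hy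
      obtain ⟨a, ha, b, ⟨c, rfl⟩, rfl⟩ := Submodule.mem_sup.mp h1
      refine ⟨K.mkQ c, ?_⟩
      have : Q.mkQ a = 0 := by simpa using ha
      rw [map_add, this, zero_add]
      rfl
    · rintro ⟨x, rfl⟩
      obtain ⟨x, rfl⟩ := Submodule.mkQ_surjective _ x
      have : f (g (K.mkQ x)) = (Q ⊔ LinearMap.range U).mkQ (U x) := rfl
      rw [this, Submodule.mkQ_apply, Submodule.Quotient.mk_eq_zero]
      exact Submodule.mem_sup_right ⟨x, rfl⟩
  have hEK : Module.Flat R (E ⧸ K) :=
    flat_of_exact (R := R) (K := E ⧸ K) (M := F ⧸ Q) (P := F ⧸ (Q ⊔ LinearMap.range U))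
      (g := g.restrictScalars R) (f.restrictScalars R) hg hf hgf
  have hTK : K ⊓ (m • ⊤) ≤ m • K := by
    intro z hz
    have h1 := (LinearMap.ker_inf_smul_top_eq_smul_of_flat (maximalIdeal R) (K.mkQ.restrictScalars R)
      (Submodule.mkQ_surjective K)).le
    have hker : LinearMap.ker (K.mkQ.restrictScalars R) = K.restrictScalars R := by
      ext z; simp
    rw [hker] at h1
    rw [hm, mem_map_smul_top_iff]
    refine h1 ⟨hz.1, ?_⟩
    have := (mem_map_smul_top_iff (maximalIdeal R) (⊤ : Submodule B E) z).mp hz.2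
    rwa [Submodule.restrictScalars_top] at this
  -- Nakayama
  have hKW : K ≤ W ⊔ m • K := by
    intro z hz
    obtain ⟨w, hw, z', hz', rfl⟩ := Submodule.mem_sup.mp (hI z (Submodule.mem_sup_left hz))
    refine Submodule.add_mem_sup hw (hTK ⟨?_, hz'⟩)
    have : z' = (w + z') - w := by abel
    rw [this]
    exact K.sub_mem hz (hWQ hw)
  have hKfg : K.FG := IsNoetherian.noetherian K
  have hle := Submodule.le_of_le_smul_of_le_jacobson_bot hKfg
    (map_maximalIdeal_le_jacobson (R := R) (B := B)) hKW
  exact hle hx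

end Main

end Groth.Agent.CalgB.NNoeth
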