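import Mathlib.RingTheory.LocalRing.ResidueField.Basic
import Mathlib.RingTheory.Localization.Submodule
import Mathlib.RingTheory.FiniteType
import Mathlib.RingTheory.Polynomial.Basic

/-!
# Noetherian local subrings of a local ring

For a finite subset `T` of a local ring `R`, `stage T` is the subring of fractions `a / s` with `a, s ∈ ℤ[T]`,
`s` a unit of `R`. It is Noetherian and local, the inclusion into `R` is local, and `R` is the directed union
of these subrings.
-/

set_option autoImplicit false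

namespace Groth.Agent.CalgB.NStage

universe u

variable {R : Type u} [CommRing R]

/-- `ℤ[T]` -/
abbrev ZT (T : Finset R) : Subalgebra ℤ R := Algebra.adjoin ℤ (T : Set R)

/-- the subring of fractions `a / s`, `a, s ∈ ℤ[T]`, `s` a unit in `R` -/
def stage (T : Finset R) : Subring R where
  carrier := {r | ∃ a ∈ ZT T, ∃ s ∈ ZT T, IsUnit s ∧ s * r = a}
  mul_mem' := by
    rintro x y ⟨a, ha, s, hs, hsu, hsa⟩ ⟨b, hb, t, ht, htu, htb⟩
    exact ⟨a * b, mul_mem ha hb, s * t, mul_mem hs ht, hsu.mul htu, by rw [← hsa, ← htb]; ring⟩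
  one_mem' := ⟨1, one_mem _, 1, one_mem _, isUnit_one, by simp⟩
  add_mem' := by
    rintro x y ⟨a, ha, s, hs, hsu, hsa⟩ ⟨b, hb, t, ht, htu, htb⟩
    exact ⟨t * a + s * b, add_mem (mul_mem ht ha) (mul_mem hs hb), s * t, mul_mem hs ht, hsu.mul htu,
      by rw [← hsa, ← htb]; ring⟩
  zero_mem' := ⟨0, zero_mem _, 1, one_mem _, isUnit_one, by simp⟩
  neg_mem' := by
    rintro x ⟨a, ha, s, hs, hsu, hsa⟩
    exact ⟨-a, neg_mem ha, s, hs, hsu, by rw [← hsa]; ring⟩

theorem mem_stage {T : Finset R} {r : R} :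
    r ∈ stage T ↔ ∃ a ∈ ZT T, ∃ s ∈ ZT T, IsUnit s ∧ s * r = a := Iff.rfl

theorem ZT_le {T : Finset R} {a : R} (ha : a ∈ ZT T) : a ∈ stage T :=
  ⟨a, ha, 1, one_mem _, isUnit_one, by simp⟩

theorem mem_stage_of_mem {T : Finset R} {a : R} (ha : a ∈ T) : a ∈ stage T :=
  ZT_le (Algebra.subset_adjoin ha)

theorem stage_mono {T T' : Finset R} (h : T ⊆ T') : stage T ≤ stage T' := by
  rintro r ⟨a, ha, s, hs, hsu, hsa⟩
  have hle : ZT T ≤ ZT T' := Algebra.adjoin_mono (by exact_mod_cast h)
  exact ⟨a, hle ha, s, hle hs, hsu, hsa⟩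

theorem exists_inv {T : Finset R} {r : R} (hr : r ∈ stage T) (hu : IsUnit r) :
    ∃ t ∈ stage T, t * r = 1 := by
  obtain ⟨a, ha, s, hs, hsu, hsa⟩ := hr
  obtain ⟨v, rfl⟩ := hu
  refine ⟨↑v⁻¹, ⟨s, hs, a, ha, ?_, ?_⟩, by simp⟩
  · rw [← hsa]; exact hsu.mul v.isUnit
  · rw [← hsa]; simp [mul_assoc]

instance isLocalHom_subtype (T : Finset R) : IsLocalHom (stage T).subtype where
  map_nonunit := by
    rintro ⟨r, hr⟩ hu
    obtain ⟨t, ht, htr⟩ := exists_inv hr hu
    exact IsUnit.of_mul_eq_one ⟨t, ht⟩ (Subtype.ext (by simpa [mul_comm] using htr))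

instance isLocalRing_stage [IsLocalRing R] (T : Finset R) : IsLocalRing (stage T) :=
  RingHom.domain_isLocalRing (stage T).subtype

/-- the submonoid of `ℤ[T]` of elements that are units in `R` -/
def unitsSub (T : Finset R) : Submonoid (ZT T) where
  carrier := {s | IsUnit (s : R)}
  mul_mem' := fun ha hb => by simpa using IsUnit.mul ha hb
  one_mem' := by simp

instance algebra_stage (T : Finset R) : Algebra (ZT T) (stage T) :=
  RingHom.toAlgebra
    { toFun := fun x => ⟨x, ZT_le x.2⟩
      map_one' := rfl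
      map_mul' := fun _ _ => rfl
      map_zero' := rfl
      map_add' := fun _ _ => rfl }

theorem coe_algebraMap_stage (T : Finset R) (x : ZT T) : ((algebraMap (ZT T) (stage T) x : stage T) : R) = x :=
  rfl

instance isLocalization_stage (T : Finset R) : IsLocalization (unitsSub T) (stage T) where
  map_units := by
    rintro ⟨x, hx⟩
    have hu : IsUnit (((algebraMap (ZT T) (stage T) x : stage T) : R)) := hx
    obtain ⟨t, ht, htr⟩ := exists_inv (algebraMap (ZT T) (stage T) x).2 hu
    exact IsUnit.of_mul_eq_one ⟨t, ht⟩ (Subtype.ext (by simpa [mul_comm] using htr))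
  surj := by
    rintro ⟨r, hr⟩
    obtain ⟨a, ha, s, hs, hsu, hsa⟩ := mem_stage.mp hr
    refine ⟨⟨⟨a, ha⟩, ⟨⟨s, hs⟩, hsu⟩⟩, Subtype.ext ?_⟩
    change r * s = a
    rw [← hsa, mul_comm]
  exists_of_eq := by
    intro x y hxy
    refine ⟨1, ?_⟩
    have : (x : R) = y := by
      rw [← coe_algebraMap_stage, ← coe_algebraMap_stage, hxy]
    rw [Subtype.ext this]

instance isNoetherianRing_ZT (T : Finset R) : IsNoetherianRing (ZT T) := by
  have h : Algebra.FiniteType ℤ (ZT T) := by
    rw [← Subalgebra.fg_iff_finiteType]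
    exact Subalgebra.fg_adjoin_finset T
  exact Algebra.FiniteType.isNoetherianRing ℤ (ZT T)

instance isNoetherianRing_stage (T : Finset R) : IsNoetherianRing (stage T) :=
  IsLocalization.isNoetherianRing (unitsSub T) (stage T) inferInstance

/-- every finite family of elements lies in some larger stage -/
theorem exists_stage_of_finite (T : Finset R) (s : Finset R) :
    ∃ T' : Finset R, T ⊆ T' ∧ ∀ r ∈ s, r ∈ stage T' := by
  classical
  exact ⟨T ∪ s, Finset.subset_union_left, fun r hr => mem_stage_of_mem (Finset.mem_union_right _ hr)⟩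

end Groth.Agent.CalgB.NStage
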