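import Groth.Agent.CalgB.NLimit3
import Groth.Agent.CalgB.NStage
import Mathlib.Algebra.Module.FinitePresentation
import Mathlib.RingTheory.FinitePresentation
import Mathlib.RingTheory.Finiteness.Ideal

/-!
# Reduction of Stacks 046Y to submodules of free modules over a polynomial ring
-/

set_option autoImplicit false

namespace Groth.Agent.CalgB.NReduce

open IsLocalRing Groth.Agent.CalgB.NLimit Groth.Agent.CalgB.NStageThm

universe u v w

theorem exists_common_smul {A : Type*} [CommRing A] (q : Ideal A) [q.IsPrime] {ι : Type*} [Finite ι]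
    (P : ι → A → Prop) (hP : ∀ i a c, P i a → P i (c * a)) (h : ∀ i, ∃ s, s ∉ q ∧ P i s) :
    ∃ s, s ∉ q ∧ ∀ i, P i s := by
  classical
  cases nonempty_fintype ι
  choose s hs hsP using h
  refine ⟨∏ i, s i, ?_, fun i => ?_⟩
  · rw [Ideal.IsPrime.prod_mem_iff]
    push Not
    exact fun i _ => hs i
  · rw [← Finset.prod_erase_mul _ _ (Finset.mem_univ i)]
    exact hP _ _ _ (hsP i)

section LocQuot

variable {A : Type u} {S : Type v} [CommRing A] [CommRing S] [Algebra A S] (q : Ideal A) [hqp : q.IsPrime]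
  (J : Ideal A)

/-- `S` is the localization of `A / J` at `q` -/
structure IsLocQuot (S : Type v) [CommRing S] [Algebra A S] : Prop where
  surj : ∀ z : S, ∃ s, s ∉ q ∧ ∃ a : A, algebraMap A S s * z = algebraMap A S a
  ker : ∀ a : A, algebraMap A S a = 0 → ∃ t, t ∉ q ∧ t * a ∈ J
  le : ∀ a ∈ J, algebraMap A S a = 0
  unit : ∀ s, s ∉ q → IsUnit (algebraMap A S s)

/-- `M` is the localization of `F / W` at `q` -/
structure LocPres {F : Type*} [AddCommGroup F] [Module A F] (W : Submodule A F) {M : Type*} [AddCommGroup M]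
    [Module A M] (π : F →ₗ[A] M) : Prop where
  h1 : ∀ x, π x = 0 → ∃ t, t ∉ q ∧ t • x ∈ W
  h1' : ∀ x ∈ W, π x = 0
  h2 : ∀ z : M, ∃ s, s ∉ q ∧ ∃ x : F, s • z = π x
  h3 : ∀ s, s ∉ q → Function.Bijective fun z : M => s • z

variable {q J}

theorem mul_notMem {a b : A} (ha : a ∉ q) (hb : b ∉ q) : a * b ∉ q := fun h =>
  (hqp.mem_or_mem h).elim ha hb

theorem LocPres.exists_common {F : Type*} [AddCommGroup F] [Module A F] {W : Submodule A F} {M : Type*}
    [AddCommGroup M] [Module A M] {π : F →ₗ[A] M} (h : LocPres q W π) {ι : Type*} [Finite ι] (z : ι → M) :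
    ∃ s, s ∉ q ∧ ∃ x : ι → F, ∀ i, s • z i = π (x i) := by
  obtain ⟨s, hs, h⟩ := exists_common_smul q (fun i s => ∃ x : F, s • z i = π x)
    (by
      rintro i a c ⟨x, hx⟩
      exact ⟨c • x, by rw [mul_smul, hx, map_smul]⟩) (fun i => h.h2 (z i))
  choose x hx using h
  exact ⟨s, hs, x, hx⟩

theorem IsLocQuot.exists_common (h : IsLocQuot q J S) {ι : Type*} [Finite ι] (z : ι → S) :
    ∃ s, s ∉ q ∧ ∃ x : ι → A, ∀ i, algebraMap A S s * z i = algebraMap A S (x i) := by
  obtain ⟨s, hs, h⟩ := exists_common_smul q (fun i s => ∃ x : A, algebraMap A S s * z i = algebraMap A S x)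
    (by
      rintro i a c ⟨x, hx⟩
      exact ⟨c * x, by rw [map_mul, mul_assoc, hx, map_mul]⟩) (fun i => h.surj (z i))
  choose x hx using h
  exact ⟨s, hs, x, hx⟩

theorem bijective_smul {N : Type*} [AddCommGroup N] [Module S N] [Module A N] [IsScalarTower A S N]
    {s : A} (hs : IsUnit (algebraMap A S s)) : Function.Bijective fun z : N => s • z := by
  obtain ⟨v, hv⟩ := hs
  have h : ∀ z : N, s • z = v • z := by
    intro z
    rw [← algebraMap_smul S s z, ← hv]
    rfl
  constructor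
  · intro y z hyz
    simp only [h] at hyz
    exact (MulAction.injective v) hyz
  · intro y
    refine ⟨v⁻¹ • y, ?_⟩
    simp only [h]
    exact smul_inv_smul v y

theorem exists_locPres (hJ : J.FG) (h : IsLocQuot q J S) {M : Type w} [AddCommGroup M] [Module S M] [Module A M]
    [IsScalarTower A S M] [Module.FinitePresentation S M] :
    ∃ (b : ℕ) (W : Submodule A (Fin b → A)) (π : (Fin b → A) →ₗ[A] M), W.FG ∧ LocPres q W π := by
  classical
  obtain ⟨n, m, f, g, hf, hfg⟩ := Module.FinitePresentation.exists_fin' S M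
  obtain ⟨s₀, hs₀, w, hw⟩ := h.exists_common (fun ji : Fin m × Fin n => g (Pi.single ji.1 1) ji.2)
  let ι : (Fin n → A) →ₗ[A] (Fin n → S) := (Algebra.linearMap A S).compLeft (Fin n)
  have hι : ∀ x i, ι x i = algebraMap A S (x i) := fun _ _ => rfl
  let π : (Fin n → A) →ₗ[A] M := (f.restrictScalars A) ∘ₗ ι
  have hπ : ∀ x, π x = f (ι x) := fun _ => rfl
  let w' : Fin m → Fin n → A := fun j i => w (j, i)
  have hw' : ∀ j, ι (w' j) = algebraMap A S s₀ • g (Pi.single j 1) := by
    intro j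
    funext i
    exact (hw (j, i)).symm
  refine ⟨n, Submodule.span A (Set.range w') ⊔ J • ⊤, π, ?_, ?_, ?_, ?_, ?_⟩
  · exact (Submodule.fg_span (Set.finite_range _)).sup (Submodule.FG.smul hJ Module.Finite.fg_top)
  · intro x hx
    rw [hπ] at hx
    obtain ⟨c, hc⟩ := (hfg (ι x)).mp hx
    have hc' : g c = ∑ j, c j • g (Pi.single j 1) := by
      conv_lhs => rw [pi_eq_sum_univ' c, map_sum]
      exact Finset.sum_congr rfl fun j _ => map_smul _ _ _
    obtain ⟨s, hs, c', hc''⟩ := h.exists_common c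
    have h1 : ∀ i, algebraMap A S (s₀ * s * x i - ∑ j, c' j * w' j i) = 0 := by
      intro i
      have h2 : algebraMap A S (x i) = ∑ j, c j * g (Pi.single j 1) i := by
        rw [← hι, ← hc, hc']
        simp
      rw [map_sub, map_mul, map_mul, h2, map_sum, sub_eq_zero, Finset.mul_sum]
      refine Finset.sum_congr rfl fun j _ => ?_
      rw [map_mul, ← hc'', ← hι, hw', Pi.smul_apply, smul_eq_mul]
      ring
    obtain ⟨t, ht, htJ⟩ := exists_common_smul q
      (fun (i : Fin n) t => t * (s₀ * s * x i - ∑ j, c' j * w' j i) ∈ J)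
      (fun i a c h => by rw [mul_assoc]; exact J.mul_mem_left _ h)
      (fun i => h.ker _ (h1 i))
    refine ⟨t * (s₀ * s), mul_notMem ht (mul_notMem hs₀ hs), ?_⟩
    have h3 : (t * (s₀ * s)) • x = ∑ j, (t * c' j) • w' j +
        (fun i => t * (s₀ * s * x i - ∑ j, c' j * w' j i)) := by
      funext i
      simp only [Pi.smul_apply, smul_eq_mul, Pi.add_apply, Finset.sum_apply, mul_sub, Finset.mul_sum,
        mul_assoc]
      ring
    rw [h3]
    refine Submodule.add_mem_sup (Submodule.sum_mem _ fun j _ =>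
      Submodule.smul_mem _ _ (Submodule.subset_span ⟨j, rfl⟩)) ?_
    rw [mem_smul_top_iff]
    exact htJ
  · intro x hx
    have hle : Submodule.span A (Set.range w') ⊔ J • ⊤ ≤ LinearMap.ker π := by
      refine sup_le ?_ ?_
      · rw [Submodule.span_le]
        rintro _ ⟨j, rfl⟩
        simp only [SetLike.mem_coe, LinearMap.mem_ker]
        rw [hπ, hw', map_smul, hfg.apply_apply_eq_zero, smul_zero]
      · rw [Submodule.smul_le]
        intro a ha y _
        rw [LinearMap.mem_ker, map_smul, ← algebraMap_smul S a (π y), h.le a ha, zero_smul]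
    exact hle hx
  · intro z
    obtain ⟨y, rfl⟩ := hf z
    obtain ⟨s, hs, x, hx⟩ := h.exists_common y
    refine ⟨s, hs, x, ?_⟩
    rw [hπ, ← algebraMap_smul S s (f y), ← map_smul]
    congr 1
    funext i
    exact hx i
  · exact fun s hs => bijective_smul (S := S) (h.unit s hs)

end LocQuot

section Tor

variable {R : Type*} {A : Type*} [CommRing R] [CommRing A] [Algebra R A]
  {F : Type*} [AddCommGroup F] [Module A F] [Module R F] [IsScalarTower R A F]

theorem exists_sum_of_mem (I : Ideal R) (v : F) (hv : v ∈ (I.map (algebraMap R A)) • (⊤ : Submodule A F)) :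
    ∃ (l : ℕ) (r : Fin l → R) (f : Fin l → F), (∀ i, r i ∈ I) ∧ v = ∑ i, r i • f i := by
  have h1 : v ∈ I • (⊤ : Submodule R F) := by
    have h2 := Ideal.smul_restrictScalars (S := A) I (⊤ : Submodule A F)
    rw [Submodule.restrictScalars_top] at h2
    rw [← h2]
    exact hv
  refine Submodule.smul_induction_on h1 ?_ ?_
  · intro a ha w _
    exact ⟨1, fun _ => a, fun _ => w, fun _ => ha, by simp⟩
  · rintro x y ⟨l, r, f, hr, rfl⟩ ⟨l', r', f', hr', rfl⟩
    refine ⟨l + l', Fin.append r r', Fin.append f f', ?_, by simp [Fin.sum_univ_add]⟩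
    intro i
    refine Fin.addCases (fun i => ?_) (fun i => ?_) i
    · rw [Fin.append_left]; exact hr i
    · rw [Fin.append_right]; exact hr' i

theorem smul_mem_map_smul {I : Ideal R} {r : R} (hr : r ∈ I) {Q : Submodule A F} {z : F} (hz : z ∈ Q) :
    r • z ∈ I.map (algebraMap R A) • Q := by
  rw [← algebraMap_smul A r z]
  exact Submodule.smul_mem_smul (Ideal.mem_map_of_mem _ hr) hz

theorem tor_of_relFlat (q : Ideal A) [hqp : q.IsPrime] (Q : Submodule A F) (h : RelFlat R q Q) (I : Ideal R) :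
    ∀ v ∈ Q ⊓ (I.map (algebraMap R A) • ⊤), ∃ t, t ∉ q ∧ t • v ∈ I.map (algebraMap R A) • Q := by
  rintro v ⟨hv1, hv2⟩
  obtain ⟨l, r, f, hr, rfl⟩ := exists_sum_of_mem I v hv2
  obtain ⟨k, c, y, t, ht, h1, h2⟩ := h l r f ⟨1, fun h => hqp.ne_top ((Ideal.eq_top_iff_one q).mpr h),
    by simpa using hv1⟩
  refine ⟨t, ht, ?_⟩
  have h3 : ∑ i, r i • ∑ j, c i j • y j = 0 := by
    simp only [Finset.smul_sum, smul_smul]
    rw [Finset.sum_comm]
    refine Finset.sum_eq_zero fun j _ => ?_
    rw [← Finset.sum_smul, h2 j, zero_smul]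
  have h4 : t • ∑ i, r i • f i = ∑ i, r i • (t • f i - ∑ j, c i j • y j) := by
    simp only [smul_sub]
    rw [Finset.sum_sub_distrib, h3, sub_zero, Finset.smul_sum]
    refine Finset.sum_congr rfl fun i _ => ?_
    rw [← algebraMap_smul A (r i) (t • f i), ← algebraMap_smul A (r i) (f i), smul_comm]
  rw [h4]
  exact Submodule.sum_mem _ fun i _ => smul_mem_map_smul (hr i) (h1 i)

end Tor

section General

variable {R A S M N : Type*} [CommRing R] [CommRing A] [CommRing S] [Algebra R S]
  [Algebra R A] [Algebra A S] [IsScalarTower R A S]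
  {q : Ideal A} [hqp : q.IsPrime]
  [AddCommGroup M] [Module S M] [Module R M] [IsScalarTower R S M] [Module A M]
  [IsScalarTower A S M]
  [AddCommGroup N] [Module S N] [Module R N] [IsScalarTower R S N] [Module A N]
  [IsScalarTower A S N]

omit [CommRing S] [Algebra R S] [Algebra R A] [Algebra A S] [IsScalarTower R A S] [AddCommGroup M] [Module S M]
  [Module R M] [IsScalarTower R S M] [Module A M] [IsScalarTower A S M] in
theorem tower (S : Type*) [CommRing S] [Algebra R S] [Algebra R A] [Algebra A S] [IsScalarTower R A S]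
    {M : Type*} [AddCommGroup M] [Module S M] [Module R M] [IsScalarTower R S M] [Module A M]
    [IsScalarTower A S M] : IsScalarTower R A M := by
  refine ⟨fun r a m => ?_⟩
  rw [← algebraMap_smul S (r • a) m, ← algebraMap_smul S a m, ← algebraMap_smul S r (algebraMap A S a • m),
    smul_smul, Algebra.smul_def r a, map_mul, ← IsScalarTower.algebraMap_apply]

variable {E F : Type*} [AddCommGroup E] [Module A E] [Module R E] [IsScalarTower R A E]
  [AddCommGroup F] [Module A F] [Module R F] [IsScalarTower R A F]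
  {W : Submodule A E} {Q : Submodule A F} {πM : E →ₗ[A] M} {πN : F →ₗ[A] N} (hM : LocPres q W πM)
  (hN : LocPres q Q πN) {u : M →ₗ[S] N} {U : E →ₗ[A] F} {s : A} (hs : s ∉ q)
  (hU : ∀ x, πN (U x) = s • u (πM x))

section

include hM hN hs hU

/-- the hypothesis `hI` -/
theorem hI_of [IsScalarTower R A M] [IsScalarTower R A N] (I : Ideal R) (hunit : ∀ s, s ∉ q → IsUnit (algebraMap A S s))
    (hu : ∀ x : M, u x ∈ I.map (algebraMap R S) • (⊤ : Submodule S N) →
      x ∈ I.map (algebraMap R S) • (⊤ : Submodule S M)) (x : E)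
    (hx : ∃ t, t ∉ q ∧ t • U x ∈ Q ⊔ (I.map (algebraMap R A) • ⊤)) :
    ∃ t, t ∉ q ∧ t • x ∈ W ⊔ (I.map (algebraMap R A) • ⊤) := by
  obtain ⟨t, ht, htx⟩ := hx
  obtain ⟨y, hy, z, hz, hyz⟩ := Submodule.mem_sup.mp htx
  obtain ⟨l, r, f, hr, rfl⟩ := exists_sum_of_mem I z hz
  have h1 : (t * s) • u (πM x) = ∑ i, r i • πN (f i) := by
    rw [mul_smul, ← hU, ← map_smul, ← hyz, map_add, hN.h1' y hy, zero_add, map_sum]
    refine Finset.sum_congr rfl fun i _ => ?_
    rw [← algebraMap_smul A (r i) (f i), map_smul, algebraMap_smul]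
  have h2 : (t * s) • u (πM x) ∈ I.map (algebraMap R S) • (⊤ : Submodule S N) := by
    rw [h1]
    exact Submodule.sum_mem _ fun i _ => smul_mem_map_smul (hr i) Submodule.mem_top
  have h3 : u (πM x) ∈ I.map (algebraMap R S) • (⊤ : Submodule S N) := by
    obtain ⟨v, hv⟩ := hunit _ (mul_notMem ht hs)
    rw [← algebraMap_smul S (t * s), ← hv] at h2
    have h4 := Submodule.smul_mem _ (↑v⁻¹ : S) h2
    rwa [smul_smul, Units.inv_mul, one_smul] at h4
  obtain ⟨l', r', f', hr', hx'⟩ := exists_sum_of_mem I _ (hu _ h3)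
  obtain ⟨s', hs', x', hx''⟩ := hM.exists_common f'
  have h4 : πM (s' • x - ∑ i, r' i • x' i) = 0 := by
    rw [map_sub, map_smul, hx', map_sum, sub_eq_zero, Finset.smul_sum]
    refine Finset.sum_congr rfl fun i _ => ?_
    rw [← algebraMap_smul A (r' i) (x' i), map_smul, ← hx'', ← algebraMap_smul A (r' i) (f' i), smul_comm]
  obtain ⟨t', ht', htW⟩ := hM.h1 _ h4
  refine ⟨t' * s', mul_notMem ht' hs', ?_⟩
  have h5 : (t' * s') • x = t' • (s' • x - ∑ i, r' i • x' i) + t' • ∑ i, r' i • x' i := by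
    rw [← smul_add, sub_add_cancel, mul_smul]
  rw [h5]
  exact Submodule.add_mem_sup htW (Submodule.smul_mem _ _
    (Submodule.sum_mem _ fun i _ => smul_mem_map_smul (hr' i) Submodule.mem_top))

theorem injective_of (hinj : ∀ x, (∃ t, t ∉ q ∧ t • U x ∈ Q) → ∃ t, t ∉ q ∧ t • x ∈ W) :
    Function.Injective u := by
  rw [injective_iff_map_eq_zero]
  intro z hz
  obtain ⟨s', hs', x, hx⟩ := hM.h2 z
  have h1 : πN (U x) = 0 := by
    rw [hU, ← hx, LinearMap.map_smul_of_tower, hz, smul_zero, smul_zero]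
  obtain ⟨t, ht, htW⟩ := hinj x (hN.h1 _ h1)
  have h2 := hM.h1' _ htW
  rw [map_smul, ← hx, smul_smul] at h2
  exact (hM.h3 _ (mul_notMem ht hs')).1 (by simpa using h2)

theorem flat_of [IsScalarTower R A (N ⧸ LinearMap.range u)] (hunit : ∀ s, s ∉ q → IsUnit (algebraMap A S s))
    (h : RelFlat R q (Q ⊔ LinearMap.range U)) :
    Module.Flat R (N ⧸ LinearMap.range u) := by
  let π : F →ₗ[A] (N ⧸ LinearMap.range u) := ((LinearMap.range u).mkQ.restrictScalars A) ∘ₗ πN
  have hπ : ∀ x, π x = (LinearMap.range u).mkQ (πN x) := fun _ => rfl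
  refine flat_of_relFlat q (Q ⊔ LinearMap.range U) π ?_ ?_ ?_ ?_ h
  · intro x hx
    rw [hπ, Submodule.mkQ_apply, Submodule.Quotient.mk_eq_zero] at hx
    obtain ⟨z, hz⟩ := hx
    obtain ⟨s', hs', y, hy⟩ := hM.h2 z
    have h1 : πN ((s * s') • x - U y) = 0 := by
      rw [map_sub, map_smul, ← hz, hU, ← hy, LinearMap.map_smul_of_tower, mul_smul, sub_self]
    obtain ⟨t, ht, htQ⟩ := hN.h1 _ h1
    refine ⟨t * (s * s'), mul_notMem ht (mul_notMem hs hs'), ?_⟩
    have h2 : (t * (s * s')) • x = t • ((s * s') • x - U y) + U (t • y) := by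
      rw [map_smul, ← smul_add, sub_add_cancel, mul_smul]
    rw [h2]
    exact Submodule.add_mem_sup htQ ⟨_, rfl⟩
  · intro x hx
    obtain ⟨y, hy, _, ⟨z, rfl⟩, rfl⟩ := Submodule.mem_sup.mp hx
    rw [hπ, Submodule.mkQ_apply, Submodule.Quotient.mk_eq_zero, map_add, hN.h1' y hy, zero_add, hU]
    refine ⟨s • πM z, ?_⟩
    rw [LinearMap.map_smul_of_tower]
  · intro z
    obtain ⟨z, rfl⟩ := Submodule.mkQ_surjective _ z
    obtain ⟨s', hs', x, hx⟩ := hN.h2 z
    refine ⟨s', hs', x, ?_⟩
    rw [hπ, ← hx]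
    rfl
  · exact fun s hs => bijective_smul (S := S) (hunit s hs)

end

/-- lifting `u`, up to a denominator -/
theorem exists_U {b d : ℕ} {W : Submodule A (Fin b → A)} {Q : Submodule A (Fin d → A)} {πM : (Fin b → A) →ₗ[A] M}
    {πN : (Fin d → A) →ₗ[A] N} (hW : W.FG) (hM : LocPres q W πM) (hN : LocPres q Q πN) (u : M →ₗ[S] N) :
    ∃ (U : Fin b → Fin d → A) (s : A), s ∉ q ∧
      (∀ x, πN (Fintype.linearCombination A U x) = s • u (πM x)) ∧
      W ≤ Q.comap (Fintype.linearCombination A U) := by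
  classical
  obtain ⟨s₀, hs₀, U₀, hU₀⟩ := hN.exists_common fun k : Fin b => u (πM (Pi.single k 1))
  have h1 : ∀ x, πN (Fintype.linearCombination A U₀ x) = s₀ • u (πM x) := by
    intro x
    rw [Fintype.linearCombination_apply, map_sum]
    have h2 : x = ∑ k, x k • (Pi.single k (1 : A) : Fin b → A) := by
      funext j
      simp [Finset.sum_apply, Pi.single_apply]
    conv_rhs => rw [h2, map_sum, map_sum, Finset.smul_sum]
    refine Finset.sum_congr rfl fun k _ => ?_
    rw [map_smul, ← hU₀, map_smul, LinearMap.map_smul_of_tower, smul_comm]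
  obtain ⟨l, w, rfl⟩ := Submodule.fg_iff_exists_fin_generating_family.mp hW
  have h2 : ∀ j, ∃ t, t ∉ q ∧ t • Fintype.linearCombination A U₀ (w j) ∈ Q := by
    intro j
    apply hN.h1
    rw [h1, hM.h1' _ (Submodule.subset_span ⟨j, rfl⟩), map_zero, smul_zero]
  obtain ⟨t, ht, htQ⟩ := exists_common_smul q (fun j t => t • Fintype.linearCombination A U₀ (w j) ∈ Q)
    (fun i a c h => by rw [mul_smul]; exact Q.smul_mem _ h) h2
  have h3 : ∀ x, Fintype.linearCombination A (fun k => t • U₀ k) x = t • Fintype.linearCombination A U₀ x := by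
    intro x
    rw [Fintype.linearCombination_apply, Fintype.linearCombination_apply, Finset.smul_sum]
    exact Finset.sum_congr rfl fun k _ => smul_comm _ _ _
  refine ⟨fun k => t • U₀ k, t * s₀, mul_notMem ht hs₀, ?_, ?_⟩
  · intro x
    rw [h3, map_smul, h1, mul_smul]
  · rw [Submodule.span_le]
    rintro _ ⟨j, rfl⟩
    simp only [SetLike.mem_coe, Submodule.mem_comap]
    rw [h3]
    exact htQ j

end General

section Main

variable {R S M N : Type u} [CommRing R] [CommRing S] [IsLocalRing R] [Algebra R S] {n : ℕ}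
  [Algebra (MvPolynomial (Fin n) R) S] [IsScalarTower R (MvPolynomial (Fin n) R) S]
  {q : Ideal (MvPolynomial (Fin n) R)} [hqp : q.IsPrime]
  (hq : q.comap (algebraMap R (MvPolynomial (Fin n) R)) = maximalIdeal R)
  {J : Ideal (MvPolynomial (Fin n) R)} (hJ : J.FG) (h : IsLocQuot q J S)
  [AddCommGroup M] [Module S M] [Module R M] [IsScalarTower R S M] [Module (MvPolynomial (Fin n) R) M]
  [IsScalarTower (MvPolynomial (Fin n) R) S M] [Module.FinitePresentation S M]
  [AddCommGroup N] [Module S N] [Module R N] [IsScalarTower R S N] [Module (MvPolynomial (Fin n) R) N]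
  [IsScalarTower (MvPolynomial (Fin n) R) S N] [Module.FinitePresentation S N]
  [Module.Flat R N]

include hq hJ h

theorem main (u : M →ₗ[S] N)
    (hu : ∀ x : M, u x ∈ (maximalIdeal R).map (algebraMap R S) • (⊤ : Submodule S N) →
      x ∈ (maximalIdeal R).map (algebraMap R S) • (⊤ : Submodule S M)) :
    Function.Injective u ∧ Module.Flat R (N ⧸ LinearMap.range u) := by
  classical
  have htM : IsScalarTower R (MvPolynomial (Fin n) R) M := tower S
  have htN : IsScalarTower R (MvPolynomial (Fin n) R) N := tower S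
  have htC : IsScalarTower R (MvPolynomial (Fin n) R) (N ⧸ LinearMap.range u) := tower S
  obtain ⟨b, W, πM, hW, hM⟩ := exists_locPres (A := MvPolynomial (Fin n) R) (S := S) (M := M) hJ h
  obtain ⟨d, Q, πN, hQ, hN⟩ := exists_locPres (A := MvPolynomial (Fin n) R) (S := S) (M := N) hJ h
  obtain ⟨U, s', hs', hU, hWQ⟩ := exists_U hW hM hN u
  obtain ⟨s, w, rfl⟩ := Submodule.fg_iff_exists_fin_generating_family.mp hW
  obtain ⟨r, g, rfl⟩ := Submodule.fg_iff_exists_fin_generating_family.mp hQ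
  have hyp : Hyp q g w U := by
    refine ⟨hWQ, ?_, ?_⟩
    · exact tor_of_relFlat q _ (relFlat_of_flat q _ πN hN.h1 hN.h1' hN.h2
        fun s hs z hz => (hN.h3 s hs).1 (by simpa using hz)) _
    · exact fun x hx => hI_of hM hN hs' hU (maximalIdeal R) h.unit hu x hx
  have hc := Groth.Agent.CalgB.NLimit3.limit hq Groth.Agent.CalgB.NStage.stage
    (fun _ _ => Groth.Agent.CalgB.NStage.stage_mono)
    (fun _ _ => Groth.Agent.CalgB.NStage.mem_stage_of_mem) hyp
  exact ⟨injective_of hM hN hs' hU hc.inj, flat_of hM hN hs' hU h.unit hc.flat⟩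

end Main

end Groth.Agent.CalgB.NReduce
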