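import Mathlib.RingTheory.LocalRing.ResidueField.Basic
import Mathlib.RingTheory.Flat.EquationalCriterion
import Mathlib.RingTheory.Flat.Stability
import Mathlib.RingTheory.TensorProduct.MvPolynomial
import Mathlib.LinearAlgebra.Basis.VectorSpace

/-!
# Solutions of linear systems over flat modules; polynomial rings over residue fields
-/

set_option autoImplicit false

namespace Groth.Agent.CalgB.NSystem

universe u v w

/-- Solutions in a flat module `M` of a finite homogeneous linear system over `A` are linear combinations of
solutions in `A`. -/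
theorem exists_solutions {A : Type u} {M : Type v} [CommRing A] [AddCommGroup M] [Module A M] [Module.Flat A M]
    {J D : Type} [Fintype J] [Fintype D] (v : J → D → A) (p : J → M)
    (h : ∀ i, ∑ j, v j i • p j = 0) :
    ∃ (L : ℕ) (e : Fin L → J → A) (y : Fin L → M), (∀ j, p j = ∑ l, e l j • y l) ∧
      ∀ l i, ∑ j, e l j * v j i = 0 := by
  classical
  let f : (D → A) →ₗ[A] (J → A) := Fintype.linearCombination A (fun i j => v j i)
  let x : (J → A) →ₗ[A] M := Fintype.linearCombination A p
  have hf : ∀ i, f (Pi.single i 1) = fun j => v j i := by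
    intro i
    simp [f, Fintype.linearCombination_apply_single]
  have hx : ∀ j, x (Pi.single j 1) = p j := by
    intro j
    simp [x, Fintype.linearCombination_apply_single]
  have hxf : x ∘ₗ f = 0 := by
    refine LinearMap.pi_ext' fun i => ?_
    refine LinearMap.ext_ring ?_
    simp only [LinearMap.comp_apply, LinearMap.coe_single, hf, LinearMap.zero_apply]
    rw [Fintype.linearCombination_apply]
    exact h i
  obtain ⟨k, a, y, hxa, haf⟩ := Module.Flat.exists_factorization_of_comp_eq_zero_of_free hxf
  refine ⟨k, fun l j => a (Pi.single j 1) l, fun l => y (Finsupp.single l 1), ?_, ?_⟩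
  · intro j
    rw [← hx j, hxa, LinearMap.comp_apply]
    conv_lhs => rw [← Finsupp.sum_single (a (Pi.single j 1))]
    rw [Finsupp.sum_fintype _ _ (by simp), map_sum]
    refine Finset.sum_congr rfl fun l _ => ?_
    rw [← map_smul, Finsupp.smul_single, smul_eq_mul, mul_one]
  · intro l i
    have h1 : a (f (Pi.single i 1)) = 0 := by
      rw [← LinearMap.comp_apply, haf, LinearMap.zero_apply]
    rw [hf] at h1
    have h2 : (fun j => v j i) = ∑ j, v j i • (Pi.single j (1 : A) : J → A) := by
      funext j'
      simp [Finset.sum_apply, Pi.single_apply]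
    rw [h2, map_sum] at h1
    have h3 := DFunLike.congr_fun h1 l
    simp only [map_smul, Finsupp.coe_finsetSum, Finset.sum_apply, Finsupp.smul_apply, smul_eq_mul,
      Finsupp.coe_zero, Pi.zero_apply] at h3
    rw [← h3]
    exact Finset.sum_congr rfl fun j _ => mul_comm _ _

attribute [local instance] MvPolynomial.algebraMvPolynomial in
/-- the polynomial ring over an extension field is flat over the polynomial ring -/
theorem flat_mvPolynomial (σ : Type w) (K : Type u) (L : Type v) [Field K] [CommRing L] [Algebra K L] :
    Module.Flat (MvPolynomial σ K) (MvPolynomial σ L) := by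
  have h : Algebra.IsPushout K (MvPolynomial σ K) L (MvPolynomial σ L) := inferInstance
  exact Module.Flat.isBaseChange K (MvPolynomial σ K) L (MvPolynomial σ L) h.out

variable {R₁ : Type u} {R₂ : Type v} [CommRing R₁] [CommRing R₂] [IsLocalRing R₁] [IsLocalRing R₂]
  (φ : R₁ →+* R₂) [IsLocalHom φ] {σ : Type w}

open MvPolynomial IsLocalRing

/-- reduction modulo the maximal ideal -/
noncomputable abbrev red (R : Type u) [CommRing R] [IsLocalRing R] (σ : Type w) :
    MvPolynomial σ R →+* MvPolynomial σ (ResidueField R) :=
  MvPolynomial.map (residue R)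

theorem red_surjective (R : Type u) [CommRing R] [IsLocalRing R] (σ : Type w) :
    Function.Surjective (red R σ) :=
  MvPolynomial.map_surjective _ residue_surjective

theorem red_eq_zero_iff {R : Type u} [CommRing R] [IsLocalRing R] {σ : Type w} (p : MvPolynomial σ R) :
    red R σ p = 0 ↔ p ∈ (maximalIdeal R).map (C : R →+* MvPolynomial σ R) := by
  rw [mem_map_C_iff]
  constructor
  · intro h m
    have := congrArg (coeff m) h
    rw [coeff_map, coeff_zero] at this
    exact (residue_eq_zero_iff _).mp this
  · intro h
    ext m
    rw [coeff_map, coeff_zero]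
    exact (residue_eq_zero_iff _).mpr (h m)

theorem red_map (p : MvPolynomial σ R₁) :
    red R₂ σ (MvPolynomial.map φ p) = MvPolynomial.map (ResidueField.map φ) (red R₁ σ p) := by
  simp only [red, map_map]
  congr 1

/-- Linear systems modulo the maximal ideals: for a local homomorphism `R₁ → R₂` of local rings, a relation
`∑ p_j v_j ≡ 0` modulo `𝔪₂`, with `v_j` vectors of polynomials over `R₁` and `p_j` polynomials over `R₂`, is modulo
`𝔪₂` a combination of relations with coefficients in `R₁[x]`. -/
theorem exists_relations {J D : Type} [Fintype J] [Fintype D] (v : J → D → MvPolynomial σ R₁)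
    (p : J → MvPolynomial σ R₂) (h : ∀ i, red R₂ σ (∑ j, p j * MvPolynomial.map φ (v j i)) = 0) :
    ∃ (L : ℕ) (e : Fin L → J → MvPolynomial σ R₁) (y : Fin L → MvPolynomial σ R₂),
      (∀ j, red R₂ σ (p j - ∑ l, y l * MvPolynomial.map φ (e l j)) = 0) ∧
      ∀ l i, red R₁ σ (∑ j, e l j * v j i) = 0 := by
  let _ : Algebra (ResidueField R₁) (ResidueField R₂) := (ResidueField.map φ).toAlgebra
  let _ := MvPolynomial.algebraMvPolynomial (σ := σ) (R := ResidueField R₁) (S := ResidueField R₂)
  have := flat_mvPolynomial σ (ResidueField R₁) (ResidueField R₂)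
  have halg : ∀ a : MvPolynomial σ (ResidueField R₁),
      algebraMap (MvPolynomial σ (ResidueField R₁)) (MvPolynomial σ (ResidueField R₂)) a =
        MvPolynomial.map (ResidueField.map φ) a := fun _ => rfl
  have h1 : ∀ i, ∑ j, (red R₁ σ (v j i)) • (red R₂ σ (p j)) = 0 := by
    intro i
    rw [← h i, map_sum]
    refine Finset.sum_congr rfl fun j _ => ?_
    rw [Algebra.smul_def, halg, ← red_map, map_mul, mul_comm]
  obtain ⟨L, e, y, h2, h3⟩ := exists_solutions (fun j i => red R₁ σ (v j i)) (fun j => red R₂ σ (p j)) h1
  choose e' he' using fun l j => red_surjective R₁ σ (e l j)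
  choose y' hy' using fun l => red_surjective R₂ σ (y l)
  refine ⟨L, e', y', ?_, ?_⟩
  · intro j
    rw [map_sub, sub_eq_zero, h2 j, map_sum]
    refine Finset.sum_congr rfl fun l _ => ?_
    rw [Algebra.smul_def, halg, map_mul, red_map, he', hy', mul_comm]
  · intro l i
    rw [← h3 l i, map_sum]
    refine Finset.sum_congr rfl fun j _ => ?_
    rw [map_mul, he']

end Groth.Agent.CalgB.NSystem
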