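import Mathlib.RingTheory.MvPolynomial.Basic
import Mathlib.RingTheory.MvPolynomial.Homogeneous
import Mathlib.RingTheory.Polynomial.Basic
import Mathlib.RingTheory.Noetherian.Basic
import Mathlib.RingTheory.Nakayama
import Mathlib.RingTheory.LocalRing.ResidueField.Basic
import Mathlib.RingTheory.Valuation.ValuationRing
import Mathlib.RingTheory.Flat.TorsionFree
import Mathlib.RingTheory.LocalRing.Module
import Mathlib.Algebra.Module.FinitePresentation

/-!
# Nagata's theorem (Stacks 053E)

Over a valuation ring `R`, a finite module over `R[x₁,…,xₙ]` which is flat (= torsion free) over `R` is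
finitely presented over `R[x₁,…,xₙ]`.
-/

set_option autoImplicit false

namespace Groth.Agent.CalgB.NagataFP

open MvPolynomial

section Homog

variable {k σ : Type*} [CommRing k]

/-- Dehomogenization `k[x₀, x_σ] → k[x_σ]`, `x₀ ↦ 1`. -/
noncomputable def dehom : MvPolynomial (Option σ) k →ₐ[k] MvPolynomial σ k :=
  aeval (fun o => o.elim 1 X)

@[simp] theorem dehom_X_some (i : σ) : dehom (k := k) (X (some i)) = X i := by simp [dehom]
@[simp] theorem dehom_X_none : dehom (k := k) (σ := σ) (X none) = 1 := by simp [dehom]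
@[simp] theorem dehom_C (a : k) : dehom (k := k) (σ := σ) (C a) = C a := by
  simp [dehom, MvPolynomial.algebraMap_eq]

theorem dehom_rename_some (p : MvPolynomial σ k) : dehom (rename some p) = p := by
  rw [dehom, aeval_rename]
  exact aeval_X_left_apply p

/-- Existence of homogenizations. -/
theorem exists_homog (d : ℕ) (f : MvPolynomial σ k) (hf : f.totalDegree ≤ d) :
    ∃ g : MvPolynomial (Option σ) k, g.IsHomogeneous d ∧ dehom g = f := by
  classical
  refine ⟨∑ m ∈ f.support, rename some (monomial m (coeff m f)) * X none ^ (d - m.degree), ?_, ?_⟩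
  · refine IsHomogeneous.sum _ _ _ fun m hm => ?_
    have h1 : m.degree ≤ d := (le_totalDegree (p := f) hm).trans hf
    have h2 : (monomial m (coeff m f)).IsHomogeneous m.degree := isHomogeneous_monomial _ rfl
    have h3 := (h2.rename_isHomogeneous (f := some)).mul (isHomogeneous_X_pow (R := k) none (d - m.degree))
    rwa [Nat.add_sub_cancel' h1] at h3
  · rw [map_sum]
    simp only [map_mul, map_pow, dehom_X_none, one_pow, mul_one, dehom_rename_some]
    exact (f.as_sum).symm

theorem homogeneousComponent_succ_X_mul {τ : Type*} (o : τ) (d : ℕ) (f : MvPolynomial τ k) :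
    homogeneousComponent (d + 1) (X o * f) = X o * homogeneousComponent d f := by
  classical
  ext m
  rw [coeff_homogeneousComponent, coeff_X_mul', coeff_X_mul', coeff_homogeneousComponent]
  by_cases ho : o ∈ m.support
  · have h1 : m = (m - Finsupp.single o 1) + Finsupp.single o 1 := by
      rw [tsub_add_cancel_of_le]
      rw [Finsupp.single_le_iff]
      exact Nat.one_le_iff_ne_zero.mpr (Finsupp.mem_support_iff.mp ho)
    have h2 : m.degree = (m - Finsupp.single o 1).degree + 1 := by
      conv_lhs => rw [h1]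
      simp
    rw [h2]
    simp [ho]
  · simp [ho]

theorem homogeneousComponent_zero_X_mul {τ : Type*} (o : τ) (f : MvPolynomial τ k) :
    homogeneousComponent 0 (X o * f) = 0 := by
  classical
  rw [homogeneousComponent_zero, coeff_X_mul']
  simp

variable {ι : Type*}

/-- The homogeneous submodule attached to an increasing family of subspaces of `k[x_σ]^ι`
which is stable under multiplication by the variables (with a shift). -/
noncomputable def W (U : ℕ → Submodule k (ι → MvPolynomial σ k)) (hU1 : ∀ d, U d ≤ U (d + 1))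
    (hU2 : ∀ d (i : σ), ∀ v ∈ U d, (X i : MvPolynomial σ k) • v ∈ U (d + 1)) :
    Submodule (MvPolynomial (Option σ) k) (ι → MvPolynomial (Option σ) k) where
  carrier := {f | ∀ d, (fun j => dehom (homogeneousComponent d (f j))) ∈ U d}
  add_mem' := by
    intro f g hf hg d
    have := add_mem (hf d) (hg d)
    convert this using 1
    ext1 j
    simp
  zero_mem' := by
    intro d
    convert zero_mem (U d) using 1
    ext1 j
    simp
  smul_mem' := by
    intro p
    induction p using MvPolynomial.induction_on with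
    | C a =>
      intro f hf d
      have := Submodule.smul_mem _ a (hf d)
      convert this using 1
      ext1 j
      simp [smul_eq_C_mul]
    | add p q hp hq =>
      intro f hf d
      have := add_mem (hp hf d) (hq hf d)
      convert this using 1
      ext1 j
      simp [add_mul]
    | mul_X p o hp =>
      intro f hf
      rw [mul_smul]
      apply hp
      rintro (_ | d)
      · convert zero_mem (U 0) using 1
        ext1 j
        simp only [Pi.smul_apply, smul_eq_mul, homogeneousComponent_zero_X_mul, map_zero, Pi.zero_apply]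
      · rcases o with _ | i
        · have := hU1 d (hf d)
          convert this using 1
          ext1 j
          simp only [Pi.smul_apply, smul_eq_mul, homogeneousComponent_succ_X_mul, map_mul, dehom_X_none, one_mul]
        · have := hU2 d i _ (hf d)
          convert this using 1
          ext1 j
          simp only [Pi.smul_apply, smul_eq_mul, homogeneousComponent_succ_X_mul, map_mul, dehom_X_some]

/-- one step: `V + ∑ xᵢ V`. -/
noncomputable def next (V : Submodule k (ι → MvPolynomial σ k)) : Submodule k (ι → MvPolynomial σ k) :=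
  V ⊔ ⨆ i : σ, V.map ((LinearMap.lsmul (MvPolynomial σ k) (ι → MvPolynomial σ k) (X i)).restrictScalars k)

theorem le_next (V : Submodule k (ι → MvPolynomial σ k)) : V ≤ next V := le_sup_left

theorem X_smul_mem_next (V : Submodule k (ι → MvPolynomial σ k)) (i : σ) (v) (hv : v ∈ V) :
    (X i : MvPolynomial σ k) • v ∈ next V := by
  refine Submodule.mem_sup_right (Submodule.mem_iSup_of_mem i ?_)
  exact ⟨v, hv, rfl⟩

/-- The Noetherian property of Rees modules of polynomial modules. -/
theorem exists_next_eq [IsNoetherianRing k] [Finite σ] [Finite ι]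
    (V : ℕ → Submodule k (ι → MvPolynomial σ k)) (hV1 : ∀ d, V d ≤ V (d + 1))
    (hV2 : ∀ d (i : σ), ∀ v ∈ V d, (X i : MvPolynomial σ k) • v ∈ V (d + 1))
    (hV3 : ∀ d, ∀ v ∈ V d, ∀ j, (v j).totalDegree ≤ d) :
    ∃ D, ∀ d, D ≤ d → V (d + 1) ≤ next (V d) := by
  classical
  cases nonempty_fintype ι
  have hfg : (W V hV1 hV2).FG := IsNoetherian.noetherian _
  obtain ⟨s, hs⟩ := hfg
  refine ⟨s.sup (fun w => Finset.univ.sup fun j => (w j).totalDegree), fun d hd => ?_⟩
  let U : ℕ → Submodule k (ι → MvPolynomial σ k) := fun e => if e ≤ d then V e else next^[e - d] (V d)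
  have hUd : ∀ e, e ≤ d → U e = V e := fun e he => if_pos he
  have hUd' : ∀ e, U (d + e) = next^[e] (V d) := by
    intro e
    rcases Nat.eq_zero_or_pos e with rfl | he
    · simp [U]
    · have : ¬ (d + e ≤ d) := by omega
      simp only [U, this, if_false]
      congr
      omega
  have hU1 : ∀ e, U e ≤ U (e + 1) := by
    intro e
    rcases lt_or_ge e d with he | he
    · rw [hUd e he.le, hUd (e + 1) he]
      exact hV1 e
    · obtain ⟨c, rfl⟩ := Nat.exists_eq_add_of_le he
      rw [add_assoc, hUd', hUd', Function.iterate_succ_apply']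
      exact le_next _
  have hU2 : ∀ e (i : σ), ∀ v ∈ U e, (X i : MvPolynomial σ k) • v ∈ U (e + 1) := by
    intro e i v hv
    rcases lt_or_ge e d with he | he
    · rw [hUd (e + 1) he]
      rw [hUd e he.le] at hv
      exact hV2 e i v hv
    · obtain ⟨c, rfl⟩ := Nat.exists_eq_add_of_le he
      rw [hUd'] at hv
      rw [add_assoc, hUd', Function.iterate_succ_apply']
      exact X_smul_mem_next _ _ _ hv
  have hle : W V hV1 hV2 ≤ W U hU1 hU2 := by
    rw [← hs, Submodule.span_le]
    intro w hw e
    have hwV : w ∈ W V hV1 hV2 := by rw [← hs]; exact Submodule.subset_span hw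
    rcases le_or_gt e d with he | he
    · rw [hUd e he]
      exact hwV e
    · convert zero_mem (U e) using 1
      ext1 j
      have h1 : (w j).totalDegree ≤ d := by
        refine le_trans ?_ hd
        refine le_trans ?_ (Finset.le_sup (f := fun w : ι → MvPolynomial (Option σ) k => Finset.univ.sup fun j => (w j).totalDegree) hw)
        exact Finset.le_sup (f := fun j => (w j).totalDegree) (Finset.mem_univ j)
      rw [homogeneousComponent_eq_zero _ _ (lt_of_le_of_lt h1 he)]
      simp
  intro v hv
  choose g hg1 hg2 using fun j => exists_homog (d + 1) (v j) (hV3 _ v hv j)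
  have hgW : g ∈ W V hV1 hV2 := by
    intro e
    by_cases he : e = d + 1
    · subst he
      convert hv using 1
      ext1 j
      rw [homogeneousComponent_eq_self (hg1 j), hg2]
    · convert zero_mem (V e) using 1
      ext1 j
      rw [homogeneousComponent_of_mem (hg1 j), if_neg he]
      simp
  have := hle hgW (d + 1)
  rw [hUd' 1] at this
  simp only [Function.iterate_one] at this
  convert this using 1
  ext1 j
  rw [homogeneousComponent_eq_self (hg1 j), hg2]

end Homog

section Main

open IsLocalRing

variable {R : Type*} [CommRing R] {σ ι : Type*}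

/-- Vectors of polynomials of total degree at most `d`. -/
noncomputable def Fle (R σ ι : Type*) [CommRing R] (d : ℕ) : Submodule R (ι → MvPolynomial σ R) :=
  Submodule.pi Set.univ (fun _ => restrictTotalDegree σ R d)

theorem mem_Fle {d : ℕ} {f : ι → MvPolynomial σ R} : f ∈ Fle R σ ι d ↔ ∀ j, (f j).totalDegree ≤ d := by
  simp [Fle, mem_restrictTotalDegree]

theorem fg_Fle [Finite σ] [Finite ι] (d : ℕ) : (Fle R σ ι d).FG :=
  Submodule.fg_pi fun _ => (Module.Finite.iff_fg).mp inferInstance

/-- Reduction modulo the maximal ideal. -/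
noncomputable def red (R σ ι : Type*) [CommRing R] [IsLocalRing R] :
    (ι → MvPolynomial σ R) →ₛₗ[residue R] (ι → MvPolynomial σ (ResidueField R)) where
  toFun f := fun j => MvPolynomial.map (residue R) (f j)
  map_add' f g := by ext1 j; simp
  map_smul' a f := by ext1 j; simp [smul_eq_C_mul]

theorem red_X_smul [IsLocalRing R] (i : σ) (f : ι → MvPolynomial σ R) :
    red R σ ι ((X i : MvPolynomial σ R) • f) = (X i : MvPolynomial σ (ResidueField R)) • red R σ ι f := by
  ext1 j
  simp [red]

theorem totalDegree_red_le [IsLocalRing R] (f : ι → MvPolynomial σ R) (j : ι) :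
    (red R σ ι f j).totalDegree ≤ (f j).totalDegree :=
  Finset.sup_mono (support_map_subset (residue R) (f j))

theorem mem_smul_of_red_eq_zero [IsDomain R] [ValuationRing R] [Finite ι] {d : ℕ}
    (K : Submodule R (ι → MvPolynomial σ R))
    (hK : ∀ (a : R), a ≠ 0 → ∀ f, a • f ∈ K → f ∈ K) (h : ι → MvPolynomial σ R) (hh : h ∈ K ⊓ Fle R σ ι d)
    (hred : red R σ ι h = 0) : h ∈ maximalIdeal R • (K ⊓ Fle R σ ι d) := by
  classical
  cases nonempty_fintype ι
  let S : Finset R := Finset.univ.biUnion fun j : ι => (h j).support.image fun m => coeff m (h j)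
  obtain ⟨a, ha⟩ : (Ideal.span (S : Set R)).IsPrincipal := IsBezout.isPrincipal_of_FG _ ⟨S, rfl⟩
  have hcoeff : ∀ j m, coeff m (h j) ∈ maximalIdeal R := by
    intro j m
    have h1 := congrArg (coeff m) (congrFun hred j)
    simpa [red, coeff_map, residue_eq_zero_iff] using h1
  have hmem : ∀ j m, coeff m (h j) ∈ Ideal.span {a} := by
    intro j m
    by_cases hm : coeff m (h j) = 0
    · rw [hm]; exact zero_mem _
    · have : coeff m (h j) ∈ Ideal.span (S : Set R) := by
        apply Ideal.subset_span
        simp only [S, Finset.coe_biUnion, Set.mem_iUnion, Finset.mem_coe, Finset.mem_image]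
        exact ⟨j, Finset.mem_univ _, m, by simpa using hm, rfl⟩
      rw [ha] at this
      exact this
  have ham : a ∈ maximalIdeal R := by
    have h1 : Ideal.span (S : Set R) ≤ maximalIdeal R := by
      rw [Ideal.span_le]
      intro x hx
      simp only [S, Finset.coe_biUnion, Set.mem_iUnion, Finset.mem_coe, Finset.mem_image] at hx
      obtain ⟨j, _, m, _, rfl⟩ := hx
      exact hcoeff j m
    apply h1
    rw [ha]
    exact Submodule.mem_span_singleton_self a
  rcases eq_or_ne a 0 with rfl | ha0
  · have : h = 0 := by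
      ext j m
      obtain ⟨c, hc⟩ := Ideal.mem_span_singleton.mp (hmem j m)
      rw [hc, zero_mul]
      rfl
    rw [this]
    exact zero_mem _
  · have h1 : ∀ j, C a ∣ h j := by
      intro j
      rw [C_dvd_iff_dvd_coeff]
      intro m
      exact Ideal.mem_span_singleton.mp (hmem j m)
    choose g hg using h1
    have h2 : h = a • g := by
      ext1 j
      rw [hg j]
      simp [smul_eq_C_mul]
    rw [h2]
    refine Submodule.smul_mem_smul ham ⟨hK a ha0 g (h2 ▸ hh.1), ?_⟩
    rw [SetLike.mem_coe, mem_Fle]
    intro j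
    refine le_trans (totalDegree_le_of_support_subset ?_) (mem_Fle.mp hh.2 j)
    intro m hm
    rw [mem_support_iff] at hm ⊢
    rw [hg j, coeff_C_mul]
    exact mul_ne_zero ha0 hm

theorem fg_inf_Fle [IsDomain R] [ValuationRing R] [Finite σ] [Finite ι] (d : ℕ)
    (K : Submodule R (ι → MvPolynomial σ R))
    (hK : ∀ (a : R), a ≠ 0 → ∀ f, a • f ∈ K → f ∈ K) : (K ⊓ Fle R σ ι d).FG := by
  let q : (Fle R σ ι d) →ₗ[R] (ι → MvPolynomial σ R) ⧸ K := K.mkQ.comp (Fle R σ ι d).subtype
  have hfin : Module.Finite R (Fle R σ ι d) := Module.Finite.iff_fg.mpr (fg_Fle d)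
  have hflat : Module.Flat R (LinearMap.range q) := by
    rw [Module.Flat.flat_iff_torsion_eq_bot_of_isBezout]
    rw [eq_bot_iff]
    rintro ⟨x, hx⟩ hx'
    rw [Submodule.mem_torsion_iff] at hx'
    obtain ⟨⟨a, ha⟩, hax⟩ := hx'
    obtain ⟨y, rfl⟩ := hx
    rw [Submodule.mem_bot]
    ext1
    have h1 : a • q y = 0 := congrArg Subtype.val hax
    rw [← map_smul] at h1
    have h2 : a • (y : ι → MvPolynomial σ R) ∈ K := (Submodule.Quotient.mk_eq_zero K).mp h1
    exact (Submodule.Quotient.mk_eq_zero K).mpr (hK a (nonZeroDivisors.ne_zero ha) _ h2)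
  have hfree : Module.Free R (LinearMap.range q) := Module.free_of_flat_of_isLocalRing
  have hfp : Module.FinitePresentation R (LinearMap.range q) := Module.finitePresentation_of_projective _ _
  have h1 : (LinearMap.ker q.rangeRestrict).FG := Module.FinitePresentation.fg_ker _ q.surjective_rangeRestrict
  have h2 : K ⊓ Fle R σ ι d = (LinearMap.ker q.rangeRestrict).map (Fle R σ ι d).subtype := by
    rw [LinearMap.ker_rangeRestrict]
    ext x
    constructor
    · rintro ⟨hx1, hx2⟩
      exact ⟨⟨x, hx2⟩, (Submodule.Quotient.mk_eq_zero K).mpr hx1, rfl⟩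
    · rintro ⟨⟨y, hy⟩, hy', rfl⟩
      exact ⟨(Submodule.Quotient.mk_eq_zero K).mp hy', hy⟩
  rw [h2]
  exact h1.map _

theorem next_le {d : ℕ} (K : Submodule (MvPolynomial σ R) (ι → MvPolynomial σ R)) :
    next (K.restrictScalars R ⊓ Fle R σ ι d) ≤ K.restrictScalars R ⊓ Fle R σ ι (d + 1) := by
  refine sup_le (inf_le_inf_left _ fun f hf => ?_) (iSup_le fun i => ?_)
  · rw [mem_Fle] at hf ⊢
    exact fun j => (hf j).trans (Nat.le_succ d)
  · rintro _ ⟨f, ⟨hf1, hf2⟩, rfl⟩
    refine ⟨K.smul_mem _ hf1, ?_⟩
    rw [SetLike.mem_coe, mem_Fle] at hf2 ⊢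
    intro j
    refine (totalDegree_mul _ _).trans ?_
    have h1 : (X i : MvPolynomial σ R).totalDegree ≤ 1 := by
      refine (totalDegree_monomial_le _ _).trans ?_
      simp
    have := hf2 j
    omega

theorem exists_key [IsDomain R] [ValuationRing R] [Finite σ] [Finite ι]
    (K : Submodule (MvPolynomial σ R) (ι → MvPolynomial σ R))
    (hK : ∀ (a : R), a ≠ 0 → ∀ f, a • f ∈ K → f ∈ K) :
    ∃ D, ∀ d, D ≤ d → K.restrictScalars R ⊓ Fle R σ ι (d + 1) ≤ next (K.restrictScalars R ⊓ Fle R σ ι d) := by
  have : RingHomSurjective (residue R) := ⟨residue_surjective⟩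
  have hK' : ∀ (a : R), a ≠ 0 → ∀ f, a • f ∈ K.restrictScalars R → f ∈ K.restrictScalars R := hK
  have hnext : ∀ d, next ((K.restrictScalars R ⊓ Fle R σ ι d).map (red R σ ι)) ≤
      (next (K.restrictScalars R ⊓ Fle R σ ι d)).map (red R σ ι) := by
    intro d
    refine sup_le (Submodule.map_mono (le_next _)) (iSup_le fun i => ?_)
    rintro _ ⟨_, ⟨f, hf, rfl⟩, rfl⟩
    exact ⟨(X i : MvPolynomial σ R) • f, X_smul_mem_next _ _ _ hf, red_X_smul i f⟩
  have hnext' : ∀ d, next ((K.restrictScalars R ⊓ Fle R σ ι d).map (red R σ ι)) ≤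
      ((K.restrictScalars R ⊓ Fle R σ ι (d + 1)).map (red R σ ι)) :=
    fun d => (hnext d).trans (Submodule.map_mono (next_le K))
  obtain ⟨D, hD⟩ := exists_next_eq (fun d => (K.restrictScalars R ⊓ Fle R σ ι d).map (red R σ ι))
    (fun d => (le_next _).trans (hnext' d))
    (fun d i v hv => hnext' d (X_smul_mem_next _ _ _ hv)) (by
      rintro d _ ⟨f, ⟨hf1, hf2⟩, rfl⟩ j
      exact (totalDegree_red_le f j).trans (mem_Fle.mp hf2 j))
  refine ⟨D, fun d hd => ?_⟩
  refine Submodule.le_of_le_smul_of_le_jacobson_bot (I := maximalIdeal R) (fg_inf_Fle (d + 1) _ hK')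
    (maximalIdeal_le_jacobson _) ?_
  intro f hf
  obtain ⟨g, hg, hfg⟩ := hnext d (hD d hd (Submodule.mem_map_of_mem hf))
  have h1 : f - g ∈ maximalIdeal R • (K.restrictScalars R ⊓ Fle R σ ι (d + 1)) := by
    refine mem_smul_of_red_eq_zero _ hK' _ (sub_mem hf (next_le K hg)) ?_
    rw [map_sub, hfg, sub_self]
  rw [show f = g + (f - g) by abel]
  exact add_mem (Submodule.mem_sup_left hg) (Submodule.mem_sup_right h1)

/-- Over a valuation ring `R`, an `R`-saturated submodule of a finite free module over a polynomial ring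
over `R` is finitely generated. -/
theorem fg_of_saturated [IsDomain R] [ValuationRing R] [Finite σ] [Finite ι]
    (K : Submodule (MvPolynomial σ R) (ι → MvPolynomial σ R))
    (hK : ∀ (a : R), a ≠ 0 → ∀ f, a • f ∈ K → f ∈ K) : K.FG := by
  cases nonempty_fintype ι
  obtain ⟨D, key⟩ := exists_key K hK
  have hK' : ∀ (a : R), a ≠ 0 → ∀ f, a • f ∈ K.restrictScalars R → f ∈ K.restrictScalars R := hK
  obtain ⟨s, hs⟩ := fg_inf_Fle D (K.restrictScalars R) hK'
  let L : Submodule (MvPolynomial σ R) (ι → MvPolynomial σ R) := Submodule.span (MvPolynomial σ R) (s : Set (ι → MvPolynomial σ R))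
  have hLD : K.restrictScalars R ⊓ Fle R σ ι D ≤ L.restrictScalars R := by
    rw [← hs]
    exact Submodule.span_le_restrictScalars R (MvPolynomial σ R) _
  have h1 : ∀ e, K.restrictScalars R ⊓ Fle R σ ι (D + e) ≤ L.restrictScalars R := by
    intro e
    induction e with
    | zero => exact hLD
    | succ e ih =>
      refine (key (D + e) (Nat.le_add_right _ _)).trans (sup_le ih (iSup_le fun i => ?_))
      rintro _ ⟨f, hf, rfl⟩
      exact L.smul_mem _ (ih hf)
  have hKL : K = L := by
    apply le_antisymm
    · intro f hf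
      refine h1 (Finset.univ.sup fun j => (f j).totalDegree) ⟨hf, ?_⟩
      rw [SetLike.mem_coe, mem_Fle]
      exact fun j => (Finset.le_sup (f := fun j => (f j).totalDegree) (Finset.mem_univ j)).trans (Nat.le_add_left _ _)
    · rw [Submodule.span_le]
      intro x hx
      have : x ∈ K.restrictScalars R ⊓ Fle R σ ι D := by
        rw [← hs]
        exact Submodule.subset_span hx
      exact this.1
  exact ⟨s, hKL.symm⟩

/-- Stacks 053E for polynomial rings: over a valuation ring `R`, a finite module over `R[x₁,…,xₙ]` which is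
flat over `R` is finitely presented over `R[x₁,…,xₙ]`. -/
theorem finitePresentation_of_flat_mvPolynomial [IsDomain R] [ValuationRing R] [Finite σ]
    {M : Type*} [AddCommGroup M] [Module (MvPolynomial σ R) M] [Module R M]
    [IsScalarTower R (MvPolynomial σ R) M] [Module.Finite (MvPolynomial σ R) M] [Module.Flat R M] :
    Module.FinitePresentation (MvPolynomial σ R) M := by
  obtain ⟨r, π, hπ⟩ := Module.Finite.exists_fin' (MvPolynomial σ R) M
  refine (Module.FinitePresentation.fg_ker_iff π hπ).mp ?_
  refine fg_of_saturated _ fun a ha f hf => ?_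
  have h1 : a • π f = 0 := by
    rw [LinearMap.mem_ker] at hf
    rw [← hf, ← algebraMap_smul (MvPolynomial σ R) a f, map_smul, algebraMap_smul]
  have h2 : Submodule.torsion R M = ⊥ := Module.Flat.torsion_eq_bot
  have h3 : π f ∈ Submodule.torsion R M := (Submodule.mem_torsion_iff _).mpr ⟨⟨a, mem_nonZeroDivisors_of_ne_zero ha⟩, h1⟩
  rw [h2] at h3
  exact h3

end Main

end Groth.Agent.CalgB.NagataFP
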