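import Groth.Agent.CalgB.NagataFP
import Mathlib.RingTheory.EssentialFiniteness
import Mathlib.RingTheory.FiniteType
import Mathlib.Algebra.Module.LocalizedModule.Basic
import Mathlib.RingTheory.Localization.BaseChange

/-!
# Nagata's theorem for (essentially) finite type algebras over a valuation ring
-/

set_option autoImplicit false

namespace Groth.Agent.CalgB.NagataFP

/-- If `P → C` is surjective, a `C`-module which is finitely presented over `P` is finitely presented
over `C`. -/
theorem finitePresentation_of_surjective_algebraMap {P C N : Type*} [CommRing P] [CommRing C] [Algebra P C]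
    [AddCommGroup N] [Module C N] [Module P N] [IsScalarTower P C N]
    (hs : Function.Surjective (algebraMap P C)) [Module.FinitePresentation P N] :
    Module.FinitePresentation C N := by
  have : Module.Finite C N := Module.Finite.of_restrictScalars_finite P C N
  obtain ⟨r, π, hπ⟩ := Module.Finite.exists_fin' C N
  refine (Module.FinitePresentation.fg_ker_iff π hπ).mp ?_
  let c : (Fin r → P) →ₗ[P] (Fin r → C) := LinearMap.pi fun i => (Algebra.linearMap P C).comp (LinearMap.proj i)
  have hc : Function.Surjective c := by
    intro f
    choose g hg using fun i => hs (f i)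
    exact ⟨g, funext hg⟩
  have hfg : (LinearMap.ker ((π.restrictScalars P).comp c)).FG :=
    Module.FinitePresentation.fg_ker _ (hπ.comp hc)
  obtain ⟨s, hs'⟩ := hfg
  classical
  refine ⟨s.image c, ?_⟩
  apply le_antisymm
  · rw [Submodule.span_le]
    intro x hx
    simp only [Finset.coe_image, Set.mem_image, Finset.mem_coe] at hx
    obtain ⟨y, hy, rfl⟩ := hx
    have : y ∈ LinearMap.ker ((π.restrictScalars P).comp c) := by
      rw [← hs']; exact Submodule.subset_span hy
    exact this
  · intro x hx
    obtain ⟨y, rfl⟩ := hc x
    have hy : y ∈ Submodule.span P (s : Set (Fin r → P)) := by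
      rw [hs']; exact hx
    have h1 : c y ∈ (Submodule.span P (s : Set (Fin r → P))).map c := Submodule.mem_map_of_mem hy
    rw [Submodule.map_span] at h1
    have h2 := Submodule.span_le_restrictScalars P C _ h1
    simpa using h2

/-- Stacks 053E: over a valuation ring `A`, a finite module over a finite type `A`-algebra `C` which is
flat over `A` is finitely presented over `C`. -/
theorem finitePresentation_of_flat_finiteType {A C N : Type*} [CommRing A] [IsDomain A] [ValuationRing A]
    [CommRing C] [Algebra A C] [Algebra.FiniteType A C] [AddCommGroup N] [Module C N] [Module A N]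
    [IsScalarTower A C N] [Module.Finite C N] [Module.Flat A N] : Module.FinitePresentation C N := by
  obtain ⟨n, f, hf⟩ := Algebra.FiniteType.iff_quotient_mvPolynomial''.mp (inferInstance : Algebra.FiniteType A C)
  algebraize [f.toRingHom]
  let : Module (MvPolynomial (Fin n) A) N := Module.compHom N f.toRingHom
  have t1 : IsScalarTower (MvPolynomial (Fin n) A) C N := ⟨fun p c x => mul_smul _ _ _⟩
  have t2 : IsScalarTower A (MvPolynomial (Fin n) A) N := by
    refine IsScalarTower.of_algebraMap_smul fun a x => ?_
    change f (algebraMap A _ a) • x = a • x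
    rw [f.commutes, algebraMap_smul]
  have : Module.Finite (MvPolynomial (Fin n) A) C := Module.Finite.of_surjective (Algebra.linearMap _ C) hf
  have : Module.Finite (MvPolynomial (Fin n) A) N := Module.Finite.trans C N
  have : Module.FinitePresentation (MvPolynomial (Fin n) A) N := finitePresentation_of_flat_mvPolynomial (R := A)
  exact finitePresentation_of_surjective_algebraMap (P := MvPolynomial (Fin n) A) hf

/-- Submodules of flat modules over a valuation ring are flat. -/
theorem flat_of_injective {A M N : Type*} [CommRing A] [IsDomain A] [ValuationRing A] [AddCommGroup M] [Module A M]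
    [AddCommGroup N] [Module A N] [Module.Flat A M] (f : N →ₗ[A] M) (hf : Function.Injective f) :
    Module.Flat A N := by
  rw [Module.Flat.flat_iff_torsion_eq_bot_of_isBezout, eq_bot_iff]
  intro x hx
  rw [Submodule.mem_torsion_iff] at hx
  obtain ⟨a, ha⟩ := hx
  rw [Submodule.mem_bot]
  have h2 : Submodule.torsion A M = ⊥ := Module.Flat.torsion_eq_bot
  have h3 : f x ∈ Submodule.torsion A M := (Submodule.mem_torsion_iff _).mpr ⟨a, by
    rw [Submonoid.smul_def] at ha ⊢
    rw [← map_smul, ha, map_zero]⟩
  rw [h2, Submodule.mem_bot] at h3
  exact hf (by rw [h3, map_zero])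

/-- Stacks 0GSE (2), without the hypotheses local: over a valuation ring `A`, a finite module over an essentially
finite type `A`-algebra `B` which is flat over `A` is finitely presented over `B`. -/
theorem finitePresentation_of_flat_essFiniteType {A B M : Type*} [CommRing A] [IsDomain A] [ValuationRing A]
    [CommRing B] [Algebra A B] [Algebra.EssFiniteType A B] [AddCommGroup M] [Module B M] [Module A M]
    [IsScalarTower A B M] [Module.Finite B M] [Module.Flat A M] : Module.FinitePresentation B M := by
  classical
  let C := Algebra.EssFiniteType.subalgebra A B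
  let T := Algebra.EssFiniteType.submonoid A B
  have hT : IsLocalization T B := Algebra.EssFiniteType.isLocalization A B
  obtain ⟨s, hs⟩ := Module.Finite.fg_top (R := B) (M := M)
  let N : Submodule C M := Submodule.span C (s : Set M)
  have : Module.Finite C N := Module.Finite.iff_fg.mpr ⟨s, rfl⟩
  have : Module.Flat A N := flat_of_injective (N.subtype.restrictScalars A) N.injective_subtype
  have : Module.FinitePresentation C N := finitePresentation_of_flat_finiteType (A := A)
  have : IsLocalizedModule T N.subtype := by
    refine ⟨fun t => ?_, fun m => ?_, fun {x y} h => ?_⟩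
    · have h1 : IsUnit (algebraMap C B t) := IsLocalization.map_units B t
      rw [Module.End.isUnit_iff]
      obtain ⟨u, hu⟩ := h1
      constructor
      · intro x y hxy
        have h2 : (algebraMap C B t) • x = (algebraMap C B t) • y := hxy
        rw [← hu] at h2
        exact smul_left_cancel u h2
      · intro x
        refine ⟨u⁻¹ • x, ?_⟩
        change ((t : C) : B) • (u⁻¹ • x) = x
        have : ((t : C) : B) = u := hu.symm
        rw [this]
        exact smul_inv_smul u x
    · have h1 : m ∈ Submodule.span B (s : Set M) := by rw [hs]; trivial
      induction h1 using Submodule.span_induction with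
      | mem x hx => exact ⟨(⟨x, Submodule.subset_span hx⟩, 1), by simp⟩
      | zero => exact ⟨(0, 1), by simp⟩
      | add x y _ _ hx hy =>
        obtain ⟨⟨n1, t1⟩, h1⟩ := hx
        obtain ⟨⟨n2, t2⟩, h2⟩ := hy
        refine ⟨(t2 • n1 + t1 • n2, t1 * t2), ?_⟩
        simp only at h1 h2
        simp only [smul_add, map_add, Submodule.subtype_apply] at h1 h2 ⊢
        rw [mul_smul, smul_comm t1 t2 x, h1, mul_smul, h2]
        rfl
      | smul b x _ hx =>
        obtain ⟨⟨n1, t1⟩, h1⟩ := hx
        obtain ⟨⟨c, t⟩, hc⟩ := IsLocalization.surj T b
        refine ⟨(c • n1, t1 * t), ?_⟩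
        simp only at h1 hc ⊢
        have h3 : (t : C) • b = algebraMap C B c := by rw [Algebra.smul_def, mul_comm]; exact hc
        have h4 : ((t1 * t : T) : C) • (b • x) = c • ((t1 : C) • x) := by
          rw [Submonoid.coe_mul, mul_smul, ← smul_assoc (t : C) b x, h3, algebraMap_smul, smul_comm]
        rw [Submonoid.smul_def, h4]
        have h5 : (t1 : C) • x = N.subtype n1 := h1
        rw [h5, map_smul]
    · exact ⟨1, by rw [N.injective_subtype h]⟩
  exact FinitePresentation.of_isBaseChange N.subtype ((isLocalizedModule_iff_isBaseChange T B N.subtype).mp inferInstance)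

end Groth.Agent.CalgB.NagataFP
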