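import Groth.Agent.FlatA.FibreNilpotent
import Mathlib.RingTheory.HopkinsLevitzki
import Mathlib.RingTheory.Etale.StandardEtale
import Mathlib.RingTheory.Polynomial.Quotient
import Mathlib.RingTheory.EssentialFiniteness
import Mathlib.RingTheory.Localization.AtPrime.Basic
import Mathlib.RingTheory.AdjoinRoot
import Mathlib.FieldTheory.Separable
import Mathlib.RingTheory.Smooth.Basic
import Mathlib.RingTheory.Smooth.Locus
import Mathlib.RingTheory.LocalRing.ResidueField.Instances

/-!
# Popescu, inseparable residue fields: enlarging the Artinian subring (Stacks 07FK / 16.11.3)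

Let `D → L` be a flat local homomorphism of Artinian local rings of characteristic `p` such that
`m_D L = m_L`. For every `x ∈ L` there is a factorization `D → D' → L` with `D'` an Artinian local
ring, essentially smooth over `D`, `D' → L` flat, `m_D D' = m_{D'}` and `x ^ (p ^ r) ∈ D'`.
-/

set_option autoImplicit false

universe u

open Polynomial IsLocalRing

namespace Groth.Agent.CalgB.PopEnlarge

section Flat

variable {D D' L : Type u} [CommRing D] [CommRing D'] [CommRing L] [IsLocalRing D]
  [IsLocalRing D'] [Algebra D D'] [Algebra D' L] [Algebra D L] [IsScalarTower D D' L]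

/-- If `D` has nilpotent maximal ideal, `m_D D' = m_{D'}` and `L` is flat over `D` then `L` is flat
over `D'`. -/
lemma flat_of_map_eq (hnil : IsNilpotent (maximalIdeal D))
    (h : (maximalIdeal D).map (algebraMap D D') = maximalIdeal D') [Module.Flat D L] :
    Module.Flat D' L := by
  refine Groth.Agent.FlatA.FibreNilpotent.flat_of_isNilpotent_of_fibre (maximalIdeal D) hnil ?_
  let _ : Field (D' ⧸ (maximalIdeal D).map (algebraMap D D')) :=
    (Ideal.Quotient.maximal_ideal_iff_isField_quotient _ |>.mp
      (h ▸ maximalIdeal.isMaximal D')).toField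
  infer_instance

end Flat

/-- A homomorphism out of a local ring with nilpotent maximal ideal to a nontrivial ring is local. -/
lemma isLocalHom_of_isNilpotent {D L : Type*} [CommRing D] [CommRing L] [IsLocalRing D]
    [Nontrivial L] (hnil : IsNilpotent (maximalIdeal D)) (f : D →+* L) : IsLocalHom f := by
  refine ⟨fun a ha => ?_⟩
  by_contra hna
  have h1 : a ∈ maximalIdeal D := hna
  obtain ⟨n, hn⟩ := hnil
  have h2 : a ^ n = 0 := by
    have : a ^ n ∈ maximalIdeal D ^ n := Ideal.pow_mem_pow h1 n
    rw [hn] at this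
    exact this
  have h3 : f a ^ n = 0 := by rw [← map_pow, h2, map_zero]
  exact not_isUnit_zero (h3 ▸ ha.pow n)

lemma exists_pow_of_sub_mem (p : ℕ) [Fact p.Prime] {D L : Type*} [CommRing D] [CommRing L]
    [IsLocalRing L] [CharP L p] [Algebra D L] (hnil : IsNilpotent (maximalIdeal L)) {x : L} {y : D}
    (h : x - algebraMap D L y ∈ maximalIdeal L) :
    ∃ r : ℕ, algebraMap D L (y ^ p ^ r) = x ^ p ^ r := by
  obtain ⟨n, hn⟩ := hnil
  refine ⟨n, ?_⟩
  have h1 : (x - algebraMap D L y) ^ n = 0 := by
    have : (x - algebraMap D L y) ^ n ∈ maximalIdeal L ^ n := Ideal.pow_mem_pow h n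
    rw [hn] at this
    exact this
  have h2 : n ≤ p ^ n := (Nat.lt_pow_self (Fact.out : p.Prime).one_lt).le
  have h3 : (x - algebraMap D L y) ^ p ^ n = 0 := pow_eq_zero_of_le h2 h1
  rw [sub_pow_char_pow, sub_eq_zero] at h3
  rw [map_pow, h3]

/-- A standard étale pair with `g = 1` gives `AdjoinRoot f`. -/
lemma etale_adjoinRoot_aux {D : Type u} [CommRing D] (P : StandardEtalePair D) (hg : P.g = 1) :
    Algebra.Etale D (AdjoinRoot P.f) := by
  have h1 : P.HasMap (AdjoinRoot.root P.f) := by
    refine ⟨?_, ?_⟩
    · rw [AdjoinRoot.aeval_eq]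
      exact AdjoinRoot.mk_self
    · rw [hg, map_one]
      exact isUnit_one
  have h2 : eval₂ (Algebra.ofId D P.Ring) P.X P.f = 0 := P.hasMap_X.1
  have e : P.Ring ≃ₐ[D] AdjoinRoot P.f := by
    refine AlgEquiv.ofAlgHom (P.lift (AdjoinRoot.root P.f) h1)
      (AdjoinRoot.liftAlgHom P.f (Algebra.ofId D P.Ring) P.X h2) ?_ ?_
    · apply AdjoinRoot.algHom_ext
      rw [AlgHom.comp_apply, AdjoinRoot.liftAlgHom_root, StandardEtalePair.lift_X]
      rfl
    · apply P.hom_ext
      rw [AlgHom.comp_apply, StandardEtalePair.lift_X, AdjoinRoot.liftAlgHom_root]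
      rfl
  exact Algebra.Etale.of_equiv e

/-- The ring `AdjoinRoot f` is étale when `f` is monic and separable. -/
lemma etale_adjoinRoot {D : Type u} [CommRing D] (f : D[X]) (hf : f.Monic) (hs : f.Separable) :
    Algebra.Etale D (AdjoinRoot f) := by
  obtain ⟨a, b, hab⟩ := hs
  exact etale_adjoinRoot_aux ⟨f, hf, 1, b, a, 0, by rw [pow_zero, ← hab]; ring⟩ rfl

/-- Separability can be tested on the residue field when the maximal ideal is nilpotent. -/
lemma separable_of_map_residue {D : Type u} [CommRing D] [IsLocalRing D]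
    (hnil : IsNilpotent (maximalIdeal D)) (f : D[X]) (hs : (f.map (residue D)).Separable) :
    f.Separable := by
  obtain ⟨a, b, hab⟩ := hs
  obtain ⟨a, rfl⟩ := Polynomial.map_surjective (residue D) residue_surjective a
  obtain ⟨b, rfl⟩ := Polynomial.map_surjective (residue D) residue_surjective b
  rw [derivative_map, ← Polynomial.map_mul, ← Polynomial.map_mul, ← Polynomial.map_add] at hab
  have h1 : IsNilpotent (a * f + b * derivative f - 1) := by
    rw [Polynomial.isNilpotent_iff]
    intro i
    have h2 : (a * f + b * derivative f - 1).coeff i ∈ maximalIdeal D := by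
      rw [← residue_eq_zero_iff, ← coeff_map, Polynomial.map_sub, hab, Polynomial.map_one,
        sub_self, coeff_zero]
    obtain ⟨k, hk⟩ := hnil
    refine ⟨k, ?_⟩
    have : (a * f + b * derivative f - 1).coeff i ^ k ∈ maximalIdeal D ^ k :=
      Ideal.pow_mem_pow h2 k
    rw [hk] at this
    exact this
  have h3 : IsUnit (a * f + b * derivative f) := by
    have := h1.isUnit_add_one
    simpa using this
  obtain ⟨u, hu⟩ := h3
  refine ⟨↑u⁻¹ * a, ↑u⁻¹ * b, ?_⟩
  rw [mul_assoc, mul_assoc, ← mul_add, ← hu, Units.inv_mul]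

lemma isMaximal_map_adjoinRoot {D : Type u} [CommRing D] [IsLocalRing D] (f : D[X])
    (hi : Irreducible (f.map (residue D))) :
    ((maximalIdeal D).map (algebraMap D (AdjoinRoot f))).IsMaximal := by
  have h1 : (Ideal.span {f.map (residue D)}).IsMaximal :=
    PrincipalIdealRing.isMaximal_of_irreducible hi
  have e := AdjoinRoot.quotAdjoinRootEquivQuotPolynomialQuot (maximalIdeal D) f
  rw [Ideal.Quotient.maximal_ideal_iff_isField_quotient]
  exact e.toMulEquiv.isField (Ideal.Quotient.maximal_ideal_iff_isField_quotient _ |>.mp h1)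

section Cases

variable (p : ℕ) [Fact p.Prime] {D L : Type u} [CommRing D] [CommRing L] [IsLocalRing D]
  [IsLocalRing L] [IsArtinianRing D] [IsArtinianRing L] [CharP L p] [Algebra D L]
  [Module.Flat D L]

/-- The conclusion of the enlargement lemma. -/
def Enlarges (D L : Type u) [CommRing D] [CommRing L] [IsLocalRing D] [IsLocalRing L]
    [Algebra D L] (x : L) : Prop :=
  ∃ (D' : Type u) (_ : CommRing D') (_ : Algebra D D') (_ : Algebra D' L)
      (_ : IsScalarTower D D' L) (_ : IsLocalRing D') (_ : IsArtinianRing D'),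
      Algebra.FormallySmooth D D' ∧ Algebra.EssFiniteType D D' ∧
      (∃ (S : Type u) (_ : CommRing S) (_ : Algebra D S) (_ : Algebra S D')
        (_ : IsScalarTower D S D') (M : Submonoid S), Algebra.Smooth D S ∧ IsLocalization M D') ∧
      Module.Flat D' L ∧ (maximalIdeal D').map (algebraMap D' L) = maximalIdeal L ∧
      (maximalIdeal D).map (algebraMap D D') = maximalIdeal D' ∧
      IsLocalHom (algebraMap D D') ∧ IsLocalHom (algebraMap D' L) ∧
      ∃ y : D', algebraMap D' L y = x

omit [IsArtinianRing L] in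
/-- Packaging: a Noetherian local `D'` with `m_D D' = m_{D'}`. -/
lemma enlarges_of (hm : (maximalIdeal D).map (algebraMap D L) = maximalIdeal L)
    (D' : Type u) [CommRing D'] [Algebra D D'] [Algebra D' L] [IsScalarTower D D' L]
    [IsLocalRing D'] [IsNoetherianRing D']
    (hmD : (maximalIdeal D).map (algebraMap D D') = maximalIdeal D')
    (S : Type u) [CommRing S] [Algebra D S] [Algebra S D'] [IsScalarTower D S D']
    (M : Submonoid S) [Algebra.Smooth D S] [IsLocalization M D'] (x : L)
    (hx : ∃ y : D', algebraMap D' L y = x) : Enlarges D L x := by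
  have hnil : IsNilpotent (maximalIdeal D) :=
    (isArtinianRing_iff_isNilpotent_maximalIdeal D).mp inferInstance
  have hnil' : IsNilpotent (maximalIdeal D') := by
    obtain ⟨n, hn⟩ := hnil
    refine ⟨n, ?_⟩
    rw [← hmD, ← Ideal.map_pow, hn]
    simp
  have hart : IsArtinianRing D' := (isArtinianRing_iff_isNilpotent_maximalIdeal D').mpr hnil'
  have hfs : Algebra.FormallySmooth S D' := Algebra.FormallySmooth.of_isLocalization M
  have heft : Algebra.EssFiniteType S D' := Algebra.EssFiniteType.of_isLocalization D' M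
  refine ⟨D', inferInstance, inferInstance, inferInstance, inferInstance, inferInstance, hart,
    Algebra.FormallySmooth.comp D S D', Algebra.EssFiniteType.comp D S D',
    ⟨S, inferInstance, inferInstance, inferInstance, inferInstance, M, inferInstance,
      inferInstance⟩, flat_of_map_eq hnil hmD, ?_, hmD, isLocalHom_of_isNilpotent hnil _,
      isLocalHom_of_isNilpotent hnil' _, hx⟩
  rw [← hmD, Ideal.map_map, ← IsScalarTower.algebraMap_eq, hm]

omit [IsArtinianRing L] in
/-- The residue class of `x` is transcendental over the residue field of `D`. -/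
lemma enlarges_of_transcendental [IsLocalHom (algebraMap D L)]
    (hm : (maximalIdeal D).map (algebraMap D L) = maximalIdeal L) (x : L)
    (hx : Transcendental (ResidueField D) (residue L x)) : Enlarges D L x := by
  let P : Ideal D[X] := (maximalIdeal D).map (C : D →+* D[X])
  have hP : P.IsPrime := Ideal.isPrime_map_C_of_isPrime
  have hunit : ∀ f : P.primeCompl, IsUnit (aeval x (f : D[X])) := by
    rintro ⟨f, hf⟩
    have h1 : f.map (residue D) ≠ 0 := by
      intro h0
      apply hf
      change f ∈ P
      rw [Ideal.mem_map_C_iff]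
      intro n
      have := congrArg (fun g => coeff g n) h0
      simp only [coeff_map, coeff_zero] at this
      exact (residue_eq_zero_iff _).mp this
    have h2 : aeval (residue L x) (f.map (residue D)) ≠ 0 := by
      intro h0
      exact h1 ((transcendental_iff.mp hx) _ h0)
    have h3 : residue L (aeval x f) = aeval (residue L x) (f.map (residue D)) := by
      rw [aeval_def, aeval_def, eval₂_map, hom_eval₂]
      rfl
    by_contra h4
    exact h2 (h3 ▸ (residue_eq_zero_iff _).mpr h4)
  let φ : Localization.AtPrime P →ₐ[D] L :=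
    IsLocalization.liftAlgHom (M := P.primeCompl) (f := (aeval x : D[X] →ₐ[D] L)) hunit
  let _ : Algebra (Localization.AtPrime P) L := φ.toRingHom.toAlgebra
  have _ : IsScalarTower D (Localization.AtPrime P) L :=
    IsScalarTower.of_algebraMap_eq' φ.comp_algebraMap.symm
  have hmD : (maximalIdeal D).map (algebraMap D (Localization.AtPrime P)) =
      maximalIdeal (Localization.AtPrime P) := by
    rw [IsScalarTower.algebraMap_eq D D[X] (Localization.AtPrime P), ← Ideal.map_map]
    exact Localization.AtPrime.map_eq_maximalIdeal (I := P)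
  have : IsNoetherianRing (Localization.AtPrime P) :=
    IsLocalization.isNoetherianRing P.primeCompl _ inferInstance
  have : Algebra.Smooth D D[X] := ⟨inferInstance, inferInstance⟩
  refine enlarges_of hm (Localization.AtPrime P) hmD D[X] P.primeCompl x
    ⟨algebraMap D[X] (Localization.AtPrime P) X, ?_⟩
  change φ (algebraMap D[X] (Localization.AtPrime P) X) = x
  simp [φ]

/-- The residue class of `x` is algebraic over the residue field of `D`. -/
lemma enlarges_of_isAlgebraic [IsLocalHom (algebraMap D L)]
    (hm : (maximalIdeal D).map (algebraMap D L) = maximalIdeal L) (x : L)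
    (hx : IsAlgebraic (ResidueField D) (residue L x)) :
    ∃ r : ℕ, Enlarges D L (x ^ p ^ r) := by
  have hnil : IsNilpotent (maximalIdeal D) :=
    (isArtinianRing_iff_isNilpotent_maximalIdeal D).mp inferInstance
  have hnilL : IsNilpotent (maximalIdeal L) :=
    (isArtinianRing_iff_isNilpotent_maximalIdeal L).mp inferInstance
  have hKp : CharP (ResidueField L) p := by
    have : ((p : ℕ) : ResidueField L) = 0 := by
      rw [← map_natCast (residue L), CharP.cast_eq_zero, map_zero]
    exact (CharP.charP_iff_prime_eq_zero (Fact.out : p.Prime)).mpr this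
  have hFp : CharP (ResidueField D) p := by
    have : ((p : ℕ) : ResidueField D) = 0 := by
      apply (algebraMap (ResidueField D) (ResidueField L)).injective
      rw [map_natCast, CharP.cast_eq_zero, map_zero]
    exact (CharP.charP_iff_prime_eq_zero (Fact.out : p.Prime)).mpr this
  set α := residue L x with hα
  have hint : IsIntegral (ResidueField D) α := hx.isIntegral
  obtain ⟨n, g, hgs, hg⟩ := exists_separable_of_irreducible p (minpoly.irreducible hint)
    (Fact.out : p.Prime).ne_zero
  set β := α ^ p ^ n with hβ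
  have hgβ : aeval β g = 0 := by
    have h1 := minpoly.aeval (ResidueField D) α
    rw [← hg, expand_aeval] at h1
    exact h1
  have hβint : IsIntegral (ResidueField D) β := hint.pow _
  let f₀ := minpoly (ResidueField D) β
  have hf₀s : f₀.Separable := hgs.of_dvd (minpoly.dvd _ _ hgβ)
  have hf₀i : Irreducible f₀ := minpoly.irreducible hβint
  have hf₀m : f₀.Monic := minpoly.monic hβint
  obtain ⟨f, hf, -, hfm⟩ := lifts_and_natDegree_eq_and_monic (f := residue D)
    ((mem_lifts _).mpr (by
      obtain ⟨q, hq⟩ := Polynomial.map_surjective (residue D) residue_surjective f₀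
      exact ⟨q, hq⟩)) hf₀m
  have hfs : f.Separable := separable_of_map_residue hnil f (hf ▸ hf₀s)
  have het : Algebra.Etale D (AdjoinRoot f) := etale_adjoinRoot f hfm hfs
  have hmax : ((maximalIdeal D).map (algebraMap D (AdjoinRoot f))).IsMaximal :=
    isMaximal_map_adjoinRoot f (hf ▸ hf₀i)
  have hloc : IsLocalRing (AdjoinRoot f) := by
    refine IsLocalRing.of_unique_max_ideal ⟨_, hmax, fun M hM => ?_⟩
    refine (hmax.eq_of_le hM.ne_top ?_).symm
    rw [Ideal.map_le_iff_le_comap]
    intro a ha
    obtain ⟨k, hk⟩ := hnil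
    have h2 : a ^ k = 0 := by
      have : a ^ k ∈ maximalIdeal D ^ k := Ideal.pow_mem_pow ha k
      rw [hk] at this
      exact this
    rw [Ideal.mem_comap]
    refine hM.isPrime.mem_of_pow_mem k ?_
    rw [← map_pow, h2, map_zero]
    exact M.zero_mem
  have hmD : (maximalIdeal D).map (algebraMap D (AdjoinRoot f)) = maximalIdeal (AdjoinRoot f) :=
    IsLocalRing.eq_maximalIdeal hmax
  have hnoeth : IsNoetherianRing (AdjoinRoot f) :=
    isNoetherianRing_of_surjective D[X] (AdjoinRoot f) (AdjoinRoot.mk f) AdjoinRoot.mk_surjective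
  let β' : L ⧸ maximalIdeal L := β
  have hroot : eval₂ (Algebra.ofId D (L ⧸ maximalIdeal L)) β' f = 0 := by
    have h1 : aeval β f₀ = 0 := minpoly.aeval _ _
    rw [← hf, aeval_def, eval₂_map] at h1
    exact h1
  let g₁ : AdjoinRoot f →ₐ[D] L ⧸ maximalIdeal L :=
    AdjoinRoot.liftAlgHom f (Algebra.ofId D (L ⧸ maximalIdeal L)) β' hroot
  let φ : AdjoinRoot f →ₐ[D] L := Algebra.FormallySmooth.lift (maximalIdeal L) hnilL g₁
  let _ : Algebra (AdjoinRoot f) L := φ.toRingHom.toAlgebra
  have _ : IsScalarTower D (AdjoinRoot f) L :=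
    IsScalarTower.of_algebraMap_eq' φ.comp_algebraMap.symm
  have hφ : Ideal.Quotient.mk (maximalIdeal L) (φ (AdjoinRoot.root f)) = β := by
    have h1 := Algebra.FormallySmooth.mk_lift (maximalIdeal L) hnilL g₁ (AdjoinRoot.root f)
    rw [AdjoinRoot.liftAlgHom_root] at h1
    exact h1
  have hsub : x ^ p ^ n - algebraMap (AdjoinRoot f) L (AdjoinRoot.root f) ∈ maximalIdeal L := by
    rw [← residue_eq_zero_iff, map_sub, map_pow, sub_eq_zero]
    exact hφ.symm
  obtain ⟨r, hr⟩ := exists_pow_of_sub_mem p hnilL hsub
  refine ⟨n + r, ?_⟩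
  have hbot : IsLocalization (⊥ : Submonoid (AdjoinRoot f)) (AdjoinRoot f) :=
    IsLocalization.self bot_le
  have hsm : Algebra.Smooth D (AdjoinRoot f) := inferInstance
  exact enlarges_of hm (AdjoinRoot f) hmD (AdjoinRoot f) ⊥ _
    ⟨AdjoinRoot.root f ^ p ^ r, by rw [hr, ← pow_mul, ← pow_add]⟩

/-- **Enlargement lemma**, one element, with the explicit essentially smooth structure. -/
theorem enlarge (hm : (maximalIdeal D).map (algebraMap D L) = maximalIdeal L) (x : L) :
    ∃ r : ℕ, Enlarges D L (x ^ p ^ r) := by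
  have hloc : IsLocalHom (algebraMap D L) := isLocalHom_of_isNilpotent
    ((isArtinianRing_iff_isNilpotent_maximalIdeal D).mp inferInstance) _
  by_cases hx : IsAlgebraic (ResidueField D) (residue L x)
  · exact enlarges_of_isAlgebraic p hm x hx
  · refine ⟨0, ?_⟩
    rw [pow_zero, pow_one]
    exact enlarges_of_transcendental hm x hx

end Cases

/-- **Enlargement lemma**, for a finite set of elements (Stacks 16.11.3). -/
theorem enlarge_finset (p : ℕ) [Fact p.Prime] {L : Type u} [CommRing L] [IsLocalRing L]
    [IsArtinianRing L] [CharP L p] (E : Finset L) :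
    ∀ {D : Type u} [CommRing D] [IsLocalRing D] [IsArtinianRing D] [Algebra D L]
      [Module.Flat D L], (maximalIdeal D).map (algebraMap D L) = maximalIdeal L →
    ∃ (D' : Type u) (_ : CommRing D') (_ : Algebra D D') (_ : Algebra D' L)
      (_ : IsScalarTower D D' L) (_ : IsLocalRing D') (_ : IsArtinianRing D'),
      Algebra.FormallySmooth D D' ∧ Algebra.EssFiniteType D D' ∧
      Module.Flat D' L ∧ (maximalIdeal D').map (algebraMap D' L) = maximalIdeal L ∧
      (maximalIdeal D).map (algebraMap D D') = maximalIdeal D' ∧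
      IsLocalHom (algebraMap D D') ∧ IsLocalHom (algebraMap D' L) ∧
      ∃ r : ℕ, ∀ x ∈ E, ∃ y : D', algebraMap D' L y = x ^ p ^ r := by
  classical
  induction E using Finset.induction_on with
  | empty =>
    intro D _ _ _ _ _ hm
    have hnil := (isArtinianRing_iff_isNilpotent_maximalIdeal D).mp inferInstance
    have h1 : IsLocalHom (algebraMap D D) := ⟨fun a ha => ha⟩
    exact ⟨D, inferInstance, inferInstance, inferInstance, inferInstance, inferInstance,
      inferInstance, inferInstance, inferInstance, inferInstance, hm,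
      by rw [Algebra.algebraMap_self, Ideal.map_id], h1,
      isLocalHom_of_isNilpotent hnil _, 0, by simp⟩
  | insert x E _ ih =>
    intro D _ _ _ _ _ hm
    obtain ⟨r₁, D₁, _, _, _, _, _, _, hfs₁, hft₁, -, hfl₁, hm₁, hD₁, hl₁, hl₁', y₁, hy₁⟩ :=
      enlarge p hm x
    obtain ⟨D₂, _, _, _, _, _, _, hfs₂, hft₂, hfl₂, hm₂, hD₂, hl₂, hl₂', r₂, hr₂⟩ := ih hm₁
    let _ : Algebra D D₂ := ((algebraMap D₁ D₂).comp (algebraMap D D₁)).toAlgebra
    have _ : IsScalarTower D D₁ D₂ := IsScalarTower.of_algebraMap_eq' rfl
    have _ : IsScalarTower D D₂ L := IsScalarTower.of_algebraMap_eq' (by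
      rw [IsScalarTower.algebraMap_eq D D₁ D₂, ← RingHom.comp_assoc,
        ← IsScalarTower.algebraMap_eq D₁ D₂ L, ← IsScalarTower.algebraMap_eq D D₁ L])
    refine ⟨D₂, inferInstance, inferInstance, inferInstance, inferInstance, inferInstance,
      inferInstance, Algebra.FormallySmooth.comp D D₁ D₂, Algebra.EssFiniteType.comp D D₁ D₂,
      hfl₂, hm₂, ?_, ?_, hl₂', r₁ + r₂, ?_⟩
    · rw [IsScalarTower.algebraMap_eq D D₁ D₂, ← Ideal.map_map, hD₁, hD₂]
    · rw [IsScalarTower.algebraMap_eq D D₁ D₂]
      infer_instance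
    · intro z hz
      rw [Finset.mem_insert] at hz
      rcases hz with rfl | hz
      · refine ⟨algebraMap D₁ D₂ y₁ ^ p ^ r₂, ?_⟩
        rw [map_pow, ← IsScalarTower.algebraMap_apply, hy₁, ← pow_mul, ← pow_add]
      · obtain ⟨y, hy⟩ := hr₂ z hz
        refine ⟨y ^ p ^ r₁, ?_⟩
        rw [map_pow, hy, ← pow_mul, ← pow_add, add_comm]

end Groth.Agent.CalgB.PopEnlarge
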