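import Groth.Agent.CalgB.ProjImm2
import Groth.Agent.S1551
import Groth.Agent.CohqB.ProjBC
import Groth.Agent.Ega2.AmpleUnit
import Mathlib.AlgebraicGeometry.Artinian

/-!
# Immersions and closed immersions in `P^d_R` over an affine base; schemes of dimension at most one over a field

* `exists_immersion_projSpace`, `exists_closedImmersion_projSpace`: `f : X ⟶ Spec R` of finite type (proper) with an
  ample module on `X` admits a (closed) immersion in some `P^d_R`.
* `exists_isAmple_of_dim_le_one`: a separated scheme of finite type over a field of dimension at most one has an ample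
  module.
-/

set_option autoImplicit false
universe u

open CategoryTheory CategoryTheory.Limits AlgebraicGeometry TopologicalSpace

namespace Groth.Agent.CalgB.ProjField

theorem exists_isAmple_of_isAffine (S : Scheme.{u}) [IsAffine S] : ∃ N : S.Modules, CohB1.IsAmple N :=
  ⟨_, Groth.Agent.Ega2.Weight.isAmple_structureModule S⟩

theorem exists_immersion_projSpace {R : Type u} [CommRing R] {X : Scheme.{u}} (f : X ⟶ Spec (CommRingCat.of R))
    [LocallyOfFiniteType f] [QuasiCompact f] (hL : ∃ L : X.Modules, CohB1.IsAmple L) :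
    ∃ (d : ℕ) (c : X ⟶ CohB1.ProjSpace d R), IsImmersion c ∧ QuasiCompact c ∧ c ≫ CohB1.ProjSpace.toSpec d R = f := by
  obtain ⟨L, hL⟩ := hL
  obtain ⟨n, i, hi, hq, hif⟩ := Groth.Agent.CalgB.ProjImm.exists_immersion f hL
  refine ⟨n, i ≫ (Groth.Agent.CohqB.ProjBC.projSpaceOverIso n R).hom, inferInstance, inferInstance, ?_⟩
  rw [Category.assoc, Groth.Agent.CohqB.ProjBC.projSpaceOverIso_hom_toSpec, hif]

theorem exists_closedImmersion_projSpace {R : Type u} [CommRing R] {X : Scheme.{u}}
    (f : X ⟶ Spec (CommRingCat.of R)) [IsProper f] (hL : ∃ L : X.Modules, CohB1.IsAmple L) :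
    ∃ (d : ℕ) (c : X ⟶ CohB1.ProjSpace d R), IsClosedImmersion c ∧ c ≫ CohB1.ProjSpace.toSpec d R = f := by
  obtain ⟨n, i, hi, hif⟩ := (Groth.Agent.CalgB.ProjImm.closedImmersion_iff (exists_isAmple_of_isAffine _) f).2
    ⟨inferInstance, hL⟩
  refine ⟨n, i ≫ (Groth.Agent.CohqB.ProjBC.projSpaceOverIso n R).hom, inferInstance, ?_⟩
  rw [Category.assoc, Groth.Agent.CohqB.ProjBC.projSpaceOverIso_hom_toSpec, hif]

theorem exists_isAmple_of_dim_le_one {k : Type u} [Field k] {X : Scheme.{u}} (f : X ⟶ Spec (CommRingCat.of k))
    [IsSeparated f] [LocallyOfFiniteType f] [QuasiCompact f] (hdim : topologicalKrullDim X ≤ 1) :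
    ∃ L : X.Modules, CohB1.IsAmple L := by
  have hN : IsNoetherian X := by
    have h1 : IsLocallyNoetherian X := LocallyOfFiniteType.isLocallyNoetherian f
    have h2 : CompactSpace X := QuasiCompact.compactSpace_of_compactSpace f
    exact { }
  have hsep : X.IsSeparated := by
    have h1 : IsSeparated (f ≫ terminal.from (Spec (CommRingCat.of k))) := inferInstance
    rw [← terminalIsTerminal.hom_ext (terminal.from X) (f ≫ terminal.from _)] at h1
    exact ⟨h1⟩
  rcases hdim.lt_or_eq with h | h
  · have h0 : topologicalKrullDim X ≤ 0 := by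
      generalize topologicalKrullDim X = d at h
      induction d with
      | bot => exact bot_le
      | coe n =>
        have h1 : n < 1 := by exact_mod_cast h
        have h2 : n = 0 := Order.lt_one_iff.1 h1
        rw [h2]; rfl
    have h1 : IsLocallyArtinian X := .of_topologicalKrullDim_le_zero h0
    have h2 : IsArtinianScheme X := { }
    exact exists_isAmple_of_isAffine X
  · exact Groth.Agent.S1551.result X h

/-- A proper scheme of dimension at most one over a field is projective. -/
theorem exists_closedImmersion_projSpace_of_dim_le_one {k : Type u} [Field k] {X : Scheme.{u}}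
    (f : X ⟶ Spec (CommRingCat.of k)) [IsProper f] (hdim : topologicalKrullDim X ≤ 1) :
    ∃ (d : ℕ) (c : X ⟶ CohB1.ProjSpace d k), IsClosedImmersion c ∧ c ≫ CohB1.ProjSpace.toSpec d k = f :=
  exists_closedImmersion_projSpace f (exists_isAmple_of_dim_le_one f hdim)

end Groth.Agent.CalgB.ProjField
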