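import Groth.Agent.CalgB.PsCohGen
import Groth.Prelude.Def_DRing2
import Mathlib.Algebra.Module.FinitePresentation
import Mathlib.RingTheory.Finiteness.Prod
import Mathlib.LinearAlgebra.FreeModule.Finite.Basic
import Mathlib.Algebra.Category.ModuleCat.Biproducts
import Mathlib.Algebra.Homology.ShortComplex.ModuleCat
import Mathlib.Algebra.Category.ModuleCat.Colimits

/-!
Pseudo-coherent complexes of modules (`DRing.IsPseudoCoherent`): basic properties.
-/

set_option autoImplicit false

open CategoryTheory CategoryTheory.Limits CategoryTheory.Pretriangulated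

universe u

attribute [local instance] HasDerivedCategory.standard

namespace Groth.Agent.CalgB.PsCoh

open Groth.Agent.CalgB.PsCohGen

variable (A : Type u) [CommRing A]

/-- Finite free modules. -/
def ffree : ObjectProperty (ModuleCat.{u} A) := fun M => Module.Finite A M ∧ Module.Free A M

/-- Finite projective modules. -/
def fproj : ObjectProperty (ModuleCat.{u} A) := fun M => Module.Finite A M ∧ Module.Projective A M

theorem isProjClass_ffree : IsProjClass (ffree A) where
  iso := by
    rintro X Y e ⟨h₁, h₂⟩
    exact ⟨Module.Finite.equiv e.toLinearEquiv, Module.Free.of_equiv e.toLinearEquiv⟩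
  zero := by
    intro X h
    have : Subsingleton X := ModuleCat.subsingleton_of_isZero h
    exact ⟨inferInstance, inferInstance⟩
  sum := by
    rintro X Y ⟨h₁, h₂⟩ ⟨h₃, h₄⟩
    have e : (X × Y) ≃ₗ[A] (X ⊞ Y : ModuleCat A) := (ModuleCat.biprodIsoProd X Y).symm.toLinearEquiv
    exact ⟨Module.Finite.equiv e, Module.Free.of_equiv e⟩
  proj := by
    rintro X ⟨h₁, h₂⟩
    exact (IsProjective.iff_projective X).1 Module.Projective.of_free

theorem isProjClass_fproj : IsProjClass (fproj A) where
  iso := by
    rintro X Y e ⟨h₁, h₂⟩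
    exact ⟨Module.Finite.equiv e.toLinearEquiv, Module.Projective.of_equiv e.toLinearEquiv⟩
  zero := by
    intro X h
    have : Subsingleton X := ModuleCat.subsingleton_of_isZero h
    exact ⟨inferInstance, inferInstance⟩
  sum := by
    rintro X Y ⟨h₁, h₂⟩ ⟨h₃, h₄⟩
    have e : (X × Y) ≃ₗ[A] (X ⊞ Y : ModuleCat A) := (ModuleCat.biprodIsoProd X Y).symm.toLinearEquiv
    exact ⟨Module.Finite.equiv e, Module.Projective.of_equiv e⟩
  proj := by
    rintro X ⟨h₁, h₂⟩
    exact (IsProjective.iff_projective X).1 h₂

variable {A}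

theorem isPseudoCoherent_iff (m : ℤ) (K : Dual.D A) : DRing.IsPseudoCoherent A m K ↔ PC (ffree A) m K := Iff.rfl

theorem ffree_le_fproj (X : ModuleCat.{u} A) (h : ffree A X) : fproj A X := by
  obtain ⟨h₁, h₂⟩ := h
  exact ⟨h₁, inferInstance⟩

/-- A finite module is a quotient of a finite free module. -/
theorem exists_epi_of_finite (X : ModuleCat.{u} A) (h : Module.Finite A X) :
    ∃ (F : ModuleCat.{u} A) (p : F ⟶ X), ffree A F ∧ Epi p := by
  obtain ⟨n, f, hf⟩ := Module.Finite.exists_fin' A X
  refine ⟨ModuleCat.of A (ULift.{u} (Fin n) → A), ModuleCat.ofHom (f ∘ₗ (LinearMap.funLeft A A ULift.up)), ⟨?_, ?_⟩, ?_⟩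
  · exact inferInstanceAs (Module.Finite A (ULift.{u} (Fin n) → A))
  · exact inferInstanceAs (Module.Free A (ULift.{u} (Fin n) → A))
  · rw [ModuleCat.epi_iff_surjective]
    exact hf.comp (LinearMap.funLeft_surjective_of_injective A A _ ULift.up_injective)

theorem isPseudoCoherent_iff_fproj (m : ℤ) (K : Dual.D A) : DRing.IsPseudoCoherent A m K ↔ PC (fproj A) m K :=
  PC.iff_of_le (isProjClass_ffree A) (isProjClass_fproj A) ffree_le_fproj
    (fun X hX => exists_epi_of_finite X hX.1) m K

/-- For a bounded above complex of finite projective modules, exact above degree `m`, the cohomology in degree `m` is finitely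
presented. -/
theorem finitePresentation_homology (E : CochainComplex (ModuleCat.{u} A) ℤ) (b : ℤ) (hb : ∀ i, b < i → IsZero (E.X i))
    (hE : ∀ i, fproj A (E.X i)) (m : ℤ) (hex : ∀ i, m < i → E.ExactAt i) :
    Module.FinitePresentation A (E.homology m) := by
  obtain ⟨r, hr⟩ := exists_retraction_cycles E b hb (fun i => (isProjClass_fproj A).proj (hE i)) m hex
  have hsplit : ∀ x, r.hom ((E.iCycles m).hom x) = x := fun x => by
    rw [← LinearMap.comp_apply, ← ModuleCat.hom_comp, hr]
    rfl
  have hr' : Function.Surjective r.hom := fun x => ⟨(E.iCycles m).hom x, hsplit x⟩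
  obtain ⟨h1, h2⟩ := hE m
  have hfin : Module.Finite A (E.cycles m) := Module.Finite.of_surjective r.hom hr'
  have hproj : Module.Projective A (E.cycles m) := by
    refine Module.Projective.of_split (E.iCycles m).hom r.hom ?_
    ext x
    exact hsplit x
  have hfp : Module.FinitePresentation A (E.cycles m) := Module.finitePresentation_of_projective A _
  have hS : (ShortComplex.mk (E.toCycles (m - 1) m) (E.homologyπ m) (E.toCycles_comp_homologyπ (m - 1) m)).Exact :=
    ShortComplex.exact_of_g_is_cokernel _ (E.homologyIsCokernel (m - 1) m (by simp))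
  have hS' := hS.moduleCat_range_eq_ker
  have hsurj : Function.Surjective (E.homologyπ m).hom := (ModuleCat.epi_iff_surjective _).1 inferInstance
  refine Module.finitePresentation_of_surjective (E.homologyπ m).hom hsurj ?_
  obtain ⟨h3, h4⟩ := hE (m - 1)
  have h5 : LinearMap.ker (E.homologyπ m).hom = LinearMap.range (E.toCycles (m - 1) m).hom := hS'.symm
  rw [h5, LinearMap.range_eq_map]
  exact Submodule.FG.map _ Module.Finite.fg_top

theorem finite_homology_top {m : ℤ} {K : Dual.D A} (h : DRing.IsPseudoCoherent A m K) (hK : K.IsLE m) :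
    Module.Finite A ((DerivedCategory.homologyFunctor (ModuleCat.{u} A) m).obj K) := by
  obtain ⟨F, p, ⟨hF, -⟩, hp⟩ := PC.exists_epi (isProjClass_ffree A) h hK
  exact Module.Finite.of_surjective p.hom ((ModuleCat.epi_iff_surjective p).1 hp)

theorem finitePresentation_homology_top {m m' : ℤ} (hm : m + 1 = m') {K : Dual.D A} (h : DRing.IsPseudoCoherent A m K)
    (hK : K.IsLE m') :
    Module.FinitePresentation A ((DerivedCategory.homologyFunctor (ModuleCat.{u} A) m').obj K) := by
  obtain ⟨E, a, b, α, hE, hEP, h1, h2⟩ := h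
  have hex : ∀ i, m' < i → E.ExactAt i := fun i hi => by
    rw [HomologicalComplex.exactAt_iff_isZero_homology]
    have := h1 i (by omega)
    exact IsZero.of_iso (DerivedCategory.isZero_of_isLE K m' i hi)
      ((DerivedCategory.homologyFunctorFactors _ i).symm.app E ≪≫
      asIso ((DerivedCategory.homologyFunctor _ i).map α))
  have h3 := finitePresentation_homology E b (fun i hi => hE i (Or.inr hi)) (fun i => ffree_le_fproj _ (hEP i)) m' hex
  have := h1 m' (by omega)
  have e : E.homology m' ≅ (DerivedCategory.homologyFunctor (ModuleCat.{u} A) m').obj K :=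
    (DerivedCategory.homologyFunctorFactors _ m').symm.app E ≪≫ asIso ((DerivedCategory.homologyFunctor _ m').map α)
  exact Module.FinitePresentation.of_equiv e.toLinearEquiv

end Groth.Agent.CalgB.PsCoh
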