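import Groth.Agent.CalgB.DerRes

/-!
Pseudo-coherence relative to a class `P` of projectives of an abelian category `C`: an object `K` of `D(C)` is `m`-pseudo-coherent
if there is a bounded complex `E` of objects of `P` and a morphism `E → K` inducing isomorphisms on `H^i` for `i > m` and
an epimorphism on `H^m`.  For `C = Mod A` and `P` the finite free modules this is `DRing.IsPseudoCoherent`.
-/

set_option autoImplicit false

open CategoryTheory CategoryTheory.Limits CategoryTheory.Pretriangulated CategoryTheory.Triangulated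
open scoped ZeroObject

universe w v u

namespace Groth.Agent.CalgB.PsCohGen

open DerivedCategory CochainComplex Groth.Agent.CalgB.DerTri Groth.Agent.CalgB.DerRes

variable {C : Type u} [Category.{v} C] [Abelian C]

/-- A class of projectives stable under isomorphisms and finite sums and containing zero objects. -/
structure IsProjClass (P : ObjectProperty C) : Prop where
  iso : ∀ {X Y : C}, (X ≅ Y) → P X → P Y
  zero : ∀ {X : C}, IsZero X → P X
  sum : ∀ {X Y : C}, P X → P Y → P (X ⊞ Y)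
  proj : ∀ {X : C}, P X → Projective X

/-- For a bounded above complex of projectives exact above degree `m`, the cycles in degree `m` are a direct summand. -/
theorem exists_retraction_cycles (E : CochainComplex C ℤ) (b : ℤ) (hb : ∀ i, b < i → IsZero (E.X i))
    (hP : ∀ i, Projective (E.X i)) (m : ℤ) (hex : ∀ i, m < i → E.ExactAt i) :
    ∃ r : E.X m ⟶ E.cycles m, E.iCycles m ≫ r = 𝟙 _ := by
  have key : ∀ (j : ℕ) (m : ℤ), b + 1 - j ≤ m → (∀ i, m < i → E.ExactAt i) →
      ∃ r : E.X m ⟶ E.cycles m, E.iCycles m ≫ r = 𝟙 _ := by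
    intro j
    induction j with
    | zero =>
      intro m hm _
      have hz : IsZero (E.cycles m) := IsZero.of_mono (E.iCycles m) (hb m (by push_cast at hm; omega))
      exact ⟨0, hz.eq_of_src _ _⟩
    | succ j ih =>
      intro m hm hex
      obtain ⟨r, hr⟩ := ih (m + 1) (by push_cast at hm; omega) (fun i hi => hex i (by omega))
      have hproj : Projective (E.cycles (m + 1)) := by
        have := hP (m + 1)
        exact Retract.projective ⟨E.iCycles (m + 1), r, hr⟩
      have hepi : Epi (E.toCycles m (m + 1)) := by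
        have h1 := hex (m + 1) (by omega)
        rw [HomologicalComplex.exactAt_iff_isZero_homology] at h1
        exact Preadditive.epi_of_isZero_cokernel' _ (E.homologyIsCokernel m (m + 1) (by simp)) h1
      let s : E.cycles (m + 1) ⟶ E.X m := Projective.factorThru (𝟙 _) (E.toCycles m (m + 1))
      have hs : s ≫ E.toCycles m (m + 1) = 𝟙 _ := Projective.factorThru_comp _ _
      refine ⟨E.liftCycles (𝟙 _ - E.toCycles m (m + 1) ≫ s) (m + 1) (by simp) ?_, ?_⟩
      · have h2 : s ≫ E.d m (m + 1) = E.iCycles (m + 1) := by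
          rw [← E.toCycles_i m (m + 1), reassoc_of% hs]
        rw [Preadditive.sub_comp, Category.id_comp, Category.assoc, h2, E.toCycles_i, sub_self]
      · have h3 : E.iCycles m ≫ E.toCycles m (m + 1) = 0 := by
          rw [← cancel_mono (E.iCycles (m + 1))]
          simp
        rw [← cancel_mono (E.iCycles m)]
        simp [reassoc_of% h3]
  exact key (b + 1 - m).toNat m (by omega) hex


variable [HasDerivedCategory.{w} C] (P : ObjectProperty C)

/-- `m`-pseudo-coherence with respect to `P`. -/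
def PC (m : ℤ) (K : DerivedCategory C) : Prop :=
  ∃ (E : CochainComplex C ℤ) (a b : ℤ) (α : Q.obj E ⟶ K), (∀ i, i < a ∨ b < i → IsZero (E.X i)) ∧
    (∀ i, P (E.X i)) ∧ (∀ i : ℤ, m < i → IsIso ((homologyFunctor C i).map α)) ∧ Epi ((homologyFunctor C m).map α)

variable {P}

omit [HasDerivedCategory.{w} C] in
theorem sge_prop (hP : IsProjClass P) (E : CochainComplex C ℤ) (hE : ∀ i, P (E.X i)) (m i : ℤ) : P ((sge E m).X i) := by
  by_cases h : m ≤ i
  · exact hP.iso (sgeXIso E m i h).symm (hE i)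
  · exact hP.zero (sge_isZero E m i (by omega))

/-- A triangle `E → K → N` with `E` a bounded complex of objects of `P` in degrees `≥ m` and `N` in `D^{< m}`. -/
theorem PC.exists_triangle (hP : IsProjClass P) {m : ℤ} {K : DerivedCategory C} (hK : PC P m K) :
    ∃ (E : CochainComplex C ℤ) (b : ℤ) (N : DerivedCategory C) (α : Q.obj E ⟶ K) (β : K ⟶ N)
      (γ : N ⟶ (Q.obj E)⟦(1 : ℤ)⟧), Triangle.mk α β γ ∈ distTriang (DerivedCategory C) ∧
      (∀ i, i < m ∨ b < i → IsZero (E.X i)) ∧ (∀ i, P (E.X i)) ∧ N.IsLE (m - 1) := by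
  obtain ⟨E, a, b, α, hE, hEP, h1, h2⟩ := hK
  obtain ⟨N, β, γ, hΔ⟩ := distinguished_cocone_triangle (Q.map (sgeHom E m) ≫ α)
  refine ⟨sge E m, b, N, Q.map (sgeHom E m) ≫ α, β, γ, hΔ, fun i hi => ?_, sge_prop hP E hEP m, ?_⟩
  · rcases hi with hi | hi
    · exact sge_isZero E m i hi
    · by_cases h : m ≤ i
      · exact IsZero.of_iso (hE i (Or.inr hi)) (sgeXIso E m i h)
      · exact sge_isZero E m i (by omega)
  · rw [← Triangle.mk_obj₃ (Q.map (sgeHom E m) ≫ α) β γ, isLE_obj₃_iff hΔ m (m - 1) (by omega)]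
    refine ⟨fun i hi => ?_, ?_⟩
    · have h3 := (isIso_homologyFunctor_map_Q_iff (sgeHom E m) i).2 (quasiIsoAt_sgeHom E m i hi)
      have h4 := h1 i hi
      change IsIso ((homologyFunctor C i).map (Q.map (sgeHom E m) ≫ α))
      rw [Functor.map_comp]
      infer_instance
    · have h3 := (epi_homologyFunctor_map_Q_iff (sgeHom E m) m).2 (epi_homologyMap_sgeHom E m)
      change Epi ((homologyFunctor C m).map (Q.map (sgeHom E m) ≫ α))
      rw [Functor.map_comp]
      exact epi_comp _ _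

/-- Converse criterion: a triangle `E → K → N` with `E` a bounded complex of objects of `P` and `N` in `D^{< m}`. -/
theorem PC.of_triangle {m : ℤ} (E : CochainComplex C ℤ) (a b : ℤ)
    (hE : ∀ i, i < a ∨ b < i → IsZero (E.X i)) (hEP : ∀ i, P (E.X i)) {Δ : Triangle (DerivedCategory C)}
    (hΔ : Δ ∈ distTriang (DerivedCategory C)) (e : Q.obj E ≅ Δ.obj₁) (h₃ : Δ.obj₃.IsLE (m - 1)) :
    PC P m Δ.obj₂ := by
  obtain ⟨h1, h2⟩ := (isLE_obj₃_iff hΔ m (m - 1) (by omega)).1 h₃
  refine ⟨E, a, b, e.hom ≫ Δ.mor₁, hE, hEP, fun i hi => ?_, ?_⟩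
  · have := h1 i hi
    rw [Functor.map_comp]
    infer_instance
  · rw [Functor.map_comp]
    exact epi_comp _ _

theorem PC.of_iso {m : ℤ} {K L : DerivedCategory C} (e : K ≅ L) (h : PC P m K) : PC P m L := by
  obtain ⟨E, a, b, α, hE, hEP, h1, h2⟩ := h
  refine ⟨E, a, b, α ≫ e.hom, hE, hEP, fun i hi => ?_, ?_⟩
  · have := h1 i hi
    rw [Functor.map_comp]
    infer_instance
  · rw [Functor.map_comp]
    exact epi_comp _ _

theorem PC.mono {m m' : ℤ} (hm : m ≤ m') {K : DerivedCategory C} (h : PC P m K) : PC P m' K := by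
  obtain ⟨E, a, b, α, hE, hEP, h1, h2⟩ := h
  refine ⟨E, a, b, α, hE, hEP, fun i hi => h1 i (by omega), ?_⟩
  rcases hm.eq_or_lt with h | h
  · subst h; exact h2
  · have := h1 m' h
    infer_instance

/-- A bounded complex of objects of `P` is `m`-pseudo-coherent for all `m`. -/
theorem PC.of_bounded (E : CochainComplex C ℤ) (a b : ℤ)
    (hE : ∀ i, i < a ∨ b < i → IsZero (E.X i)) (hEP : ∀ i, P (E.X i)) (m : ℤ) : PC P m (Q.obj E) := by
  refine ⟨E, a, b, 𝟙 _, hE, hEP, fun i _ => ?_, ?_⟩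
  · infer_instance
  · infer_instance

/-- A bounded above complex of objects of `P` is `m`-pseudo-coherent for all `m`. -/
theorem PC.of_boundedAbove (hP : IsProjClass P) (E : CochainComplex C ℤ) (b : ℤ)
    (hE : ∀ i, b < i → IsZero (E.X i)) (hEP : ∀ i, P (E.X i)) (m : ℤ) : PC P m (Q.obj E) := by
  refine ⟨sge E m, m, b, Q.map (sgeHom E m), fun i hi => ?_, sge_prop hP E hEP m, fun i hi => ?_, ?_⟩
  · rcases hi with hi | hi
    · exact sge_isZero E m i hi
    · by_cases h : m ≤ i
      · exact IsZero.of_iso (hE i hi) (sgeXIso E m i h)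
      · exact sge_isZero E m i (by omega)
  · exact (isIso_homologyFunctor_map_Q_iff (sgeHom E m) i).2 (quasiIsoAt_sgeHom E m i hi)
  · exact (epi_homologyFunctor_map_Q_iff (sgeHom E m) m).2 (epi_homologyMap_sgeHom E m)

/-- Objects of `D^{< m}` are `m`-pseudo-coherent. -/
theorem PC.of_isLE (hP : IsProjClass P) {m : ℤ} {K : DerivedCategory C} (h : K.IsLE (m - 1)) : PC P m K := by
  have hz : ∀ i : ℤ, IsZero ((0 : CochainComplex C ℤ).X i) := fun i =>
    (HomologicalComplex.eval C (ComplexShape.up ℤ) i).map_isZero (isZero_zero _)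
  refine ⟨0, 0, 0, 0, fun i _ => hz i, fun i => hP.zero (hz i), fun i hi => ?_, ?_⟩
  · have z1 : IsZero ((homologyFunctor C i).obj (Q.obj (0 : CochainComplex C ℤ))) :=
      (homologyFunctor C i).map_isZero (Q.map_isZero (isZero_zero _))
    have z2 : IsZero ((homologyFunctor C i).obj K) := isZero_of_isLE _ (m - 1) i (by omega)
    exact ⟨0, z1.eq_of_src _ _, z2.eq_of_src _ _⟩
  · have z2 : IsZero ((homologyFunctor C m).obj K) := isZero_of_isLE _ (m - 1) m (by omega)
    exact ⟨fun _ _ _ => z2.eq_of_src _ _⟩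

/-- An `m`-pseudo-coherent object is bounded above. -/
theorem PC.exists_isLE {m : ℤ} {K : DerivedCategory C} (h : PC P m K) : ∃ b, K.IsLE b := by
  obtain ⟨E, a, b, α, hE, hEP, h1, h2⟩ := h
  refine ⟨max m b, ?_⟩
  rw [DerivedCategory.isLE_iff]
  intro i hi
  have := h1 i (by omega)
  refine IsZero.of_iso ?_ (asIso ((homologyFunctor C i).map α)).symm
  have : E.IsStrictlyLE b := by
    rw [CochainComplex.isStrictlyLE_iff]
    exact fun i hi => hE i (Or.inr hi)
  exact isZero_of_isLE (Q.obj E) b i (by omega)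

/-- Shifts. -/
theorem PC.shift {m : ℤ} {K : DerivedCategory C} (h : PC P m K) (n m' : ℤ) (hm : m' + n = m) :
    PC P m' (K⟦n⟧) := by
  obtain ⟨E, a, b, α, hE, hEP, h1, h2⟩ := h
  have hmap : ∀ i : ℤ, Nonempty (Arrow.mk ((homologyFunctor C i).map (α⟦n⟧')) ≅
      Arrow.mk ((homologyFunctor C (n + i)).map α)) := fun i =>
    ⟨Arrow.isoMk (((homologyFunctor C 0).shiftIso n i (n + i) rfl).app _)
      (((homologyFunctor C 0).shiftIso n i (n + i) rfl).app _)
      (((homologyFunctor C 0).shiftIso n i (n + i) rfl).hom.naturality α).symm⟩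
  refine ⟨E⟦n⟧, a - n, b - n, (Q.commShiftIso n).hom.app E ≫ α⟦n⟧', fun i hi => ?_, fun i => ?_, fun i hi => ?_, ?_⟩
  · exact hE (i + n) (by omega)
  · exact hEP (i + n)
  · rw [Functor.map_comp]
    obtain ⟨e⟩ := hmap i
    have : IsIso ((homologyFunctor C i).map (α⟦n⟧')) :=
      ((MorphismProperty.isomorphisms C).arrow_iso_iff e).2 (h1 (n + i) (by omega))
    infer_instance
  · rw [Functor.map_comp]
    obtain ⟨e⟩ := hmap m'
    have : Epi ((homologyFunctor C m').map (α⟦n⟧')) := by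
      refine ((MorphismProperty.epimorphisms C).arrow_iso_iff e).2 ?_
      have : n + m' = m := by omega
      rw [this]
      exact h2
    exact epi_comp _ _

theorem PC.of_shift {K : DerivedCategory C} (n m m' : ℤ) (hm : m' + n = m) (h : PC P m' (K⟦n⟧)) :
    PC P m K := by
  have := h.shift (-n) m (by omega)
  exact this.of_iso ((shiftEquiv (DerivedCategory C) n).unitIso.symm.app K)

/-- In a triangle with first object in `D^{≤ m}`, the second map is an isomorphism on cohomology above degree `m` and an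
epimorphism in degree `m`. -/
theorem homology_mor₂_of_isLE_obj₁ {T : Triangle (DerivedCategory C)} (hT : T ∈ distTriang (DerivedCategory C)) (m : ℤ)
    (h : T.obj₁.IsLE m) :
    (∀ i : ℤ, m < i → IsIso ((homologyFunctor C i).map T.mor₂)) ∧ Epi ((homologyFunctor C m).map T.mor₂) := by
  have hz : ∀ i : ℤ, m < i → IsZero ((homologyFunctor C i).obj T.obj₁) := fun i hi => isZero_of_isLE T.obj₁ m i hi
  have hepi : ∀ i : ℤ, m ≤ i → Epi ((homologyFunctor C i).map T.mor₂) := fun i hi =>
    (HomologySequence.epi_homologyMap_mor₂_iff T hT i (i + 1) rfl).2 ((hz (i + 1) (by omega)).eq_of_tgt _ _)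
  refine ⟨fun i hi => ?_, hepi m le_rfl⟩
  have := hepi i hi.le
  have : Mono ((homologyFunctor C i).map T.mor₂) :=
    (HomologySequence.mono_homologyMap_mor₂_iff T hT i).2 ((hz i hi).eq_of_src _ _)
  exact isIso_of_mono_of_epi _

/-- Stacks Tag 064R (1): in a distinguished triangle `K → L → M`, `K` `(m+1)`-pseudo-coherent and `L` `m`-pseudo-coherent give
`M` `m`-pseudo-coherent. -/
theorem PC.obj₃ (hP : IsProjClass P) {T : Triangle (DerivedCategory C)} (hT : T ∈ distTriang (DerivedCategory C))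
    {m m' : ℤ} (hm : m' = m + 1) (h₁ : PC P m' T.obj₁) (h₂ : PC P m T.obj₂) : PC P m T.obj₃ := by
  subst hm
  obtain ⟨E₁, b₁, N₁, α₁, β₁, γ₁, hΔ₁, hE₁, hE₁P, hN₁⟩ := h₁.exists_triangle hP
  obtain ⟨E₂, b₂, N₂, α₂, β₂, γ₂, hΔ₂, hE₂, hE₂P, hN₂⟩ := h₂.exists_triangle hP
  -- lift to a map `E₁ → E₂`
  have h0 : (α₁ ≫ T.mor₁) ≫ β₂ = 0 :=
    hom_eq_zero_of_projective E₁ (m + 1) b₁ (m - 1) (by omega) hE₁ (fun i => hP.proj (hE₁P i)) N₂ hN₂ _
  obtain ⟨φ, hφ⟩ : ∃ φ : Q.obj E₁ ⟶ Q.obj E₂, α₁ ≫ T.mor₁ = φ ≫ α₂ :=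
    Triangle.coyoneda_exact₂ _ hΔ₂ _ h0
  have : E₁.IsStrictlyLE b₁ := by
    rw [CochainComplex.isStrictlyLE_iff]
    exact fun i hi => hE₁ i (Or.inr hi)
  have : ∀ i, Projective (E₁.X i) := fun i => hP.proj (hE₁P i)
  have := CochainComplex.isKProjective_of_projective E₁ b₁
  obtain ⟨φ', rfl⟩ := Q_map_surjective_of_isKProjective E₁ E₂ φ
  -- the two octahedra
  obtain ⟨X, v, w, hX⟩ := distinguished_cocone_triangle (α₁ ≫ T.mor₁)
  have hTm : Triangle.mk T.mor₁ T.mor₂ T.mor₃ ∈ distTriang (DerivedCategory C) := hT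
  have O₁ := Triangulated.someOctahedron rfl hΔ₁ hTm hX
  have hE₃ := mappingCone_triangle_distinguished φ'
  have hE₃' : Triangle.mk (Q.map φ') (Q.mapTriangle.obj (mappingCone.triangle φ')).mor₂
    (Q.mapTriangle.obj (mappingCone.triangle φ')).mor₃ ∈ distTriang (DerivedCategory C) := hE₃
  have O₂ := Triangulated.someOctahedron hφ.symm hE₃' hΔ₂ hX
  obtain ⟨h3, h4⟩ := homology_mor₂_of_isLE_obj₁ O₁.mem m (by simpa using hN₁)
  obtain ⟨h5, h6⟩ := (isLE_obj₃_iff O₂.mem m (m - 1) (by omega)).1 hN₂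
  have hXiso : ∀ i, Nonempty ((mappingCone φ').X i ≅ (E₁.X (i + 1) ⊞ E₂.X i)) := fun i =>
    ⟨HomologicalComplex.homotopyCofiber.XIsoBiprod φ' i (i + 1) rfl⟩
  let μ : Q.obj (mappingCone φ') ⟶ X := O₂.m₁
  let ν : X ⟶ T.obj₃ := O₁.m₃
  refine ⟨mappingCone φ', min m (m + 1 - 1), max b₁ b₂, μ ≫ ν, fun i hi => ?_, fun i => ?_, fun i hi => ?_, ?_⟩
  · obtain ⟨ei⟩ := hXiso i
    refine IsZero.of_iso ?_ ei
    rw [biprod_isZero_iff]
    exact ⟨hE₁ _ (by omega), hE₂ _ (by omega)⟩
  · obtain ⟨ei⟩ := hXiso i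
    exact hP.iso ei.symm (hP.sum (hE₁P _) (hE₂P i))
  · have h3' : IsIso ((homologyFunctor C i).map ν) := h3 i hi
    have h5' : IsIso ((homologyFunctor C i).map μ) := h5 i hi
    rw [Functor.map_comp]
    exact IsIso.comp_isIso
  · have h4' : Epi ((homologyFunctor C m).map ν) := h4
    have h6' : Epi ((homologyFunctor C m).map μ) := h6
    rw [Functor.map_comp]
    exact epi_comp _ _

/-- Stacks Tag 064R (2). -/
theorem PC.obj₂ (hP : IsProjClass P) {T : Triangle (DerivedCategory C)} (hT : T ∈ distTriang (DerivedCategory C))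
    {m : ℤ} (h₁ : PC P m T.obj₁) (h₃ : PC P m T.obj₃) : PC P m T.obj₂ := by
  have h := inv_rot_of_distTriang _ hT
  exact PC.obj₃ hP h rfl (h₃.shift (-1) (m + 1) (by omega)) h₁

/-- Stacks Tag 064R (3). -/
theorem PC.obj₁ (hP : IsProjClass P) {T : Triangle (DerivedCategory C)} (hT : T ∈ distTriang (DerivedCategory C))
    {m m' : ℤ} (hm : m' = m + 1) (h₂ : PC P m' T.obj₂) (h₃ : PC P m T.obj₃) : PC P m' T.obj₁ := by
  have h := rot_of_distTriang _ hT
  exact PC.of_shift 1 m' m (by omega) (PC.obj₃ hP h hm h₂ h₃)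

/-- The top cohomology of an `m`-pseudo-coherent object of `D^{≤ m}` is a quotient of an object of `P`. -/
theorem PC.exists_epi (hP : IsProjClass P) {m : ℤ} {K : DerivedCategory C} (h : PC P m K) (hK : K.IsLE m) :
    ∃ (F : C) (p : F ⟶ (homologyFunctor C m).obj K), P F ∧ Epi p := by
  obtain ⟨E, a, b, α, hE, hEP, h1, h2⟩ := h
  have hex : ∀ i, m < i → E.ExactAt i := fun i hi => by
    rw [HomologicalComplex.exactAt_iff_isZero_homology]
    have := h1 i hi
    exact IsZero.of_iso (isZero_of_isLE K m i hi) ((homologyFunctorFactors C i).symm.app E ≪≫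
      asIso ((homologyFunctor C i).map α))
  obtain ⟨r, hr⟩ := exists_retraction_cycles E b (fun i hi => hE i (Or.inr hi)) (fun i => hP.proj (hEP i)) m hex
  have hr' : Epi r := (SplitEpi.mk (E.iCycles m) hr).epi
  let κ : E.homology m ⟶ (homologyFunctor C m).obj (Q.obj E) := (homologyFunctorFactors C m).inv.app E
  have hκ : IsIso κ := inferInstanceAs (IsIso ((homologyFunctorFactors C m).inv.app E))
  refine ⟨E.X m, r ≫ E.homologyπ m ≫ κ ≫ (homologyFunctor C m).map α, hEP m, ?_⟩
  exact epi_comp _ _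

/-- An object of `P` in a single degree is `m`-pseudo-coherent for all `m`. -/
theorem PC.single (hP : IsProjClass P) {F : C} (hF : P F) (n m : ℤ) :
    PC P m ((DerivedCategory.singleFunctor C n).obj F) := by
  refine PC.of_bounded ((CochainComplex.singleFunctor C n).obj F) n n (fun i hi => ?_) (fun i => ?_) m
  · exact HomologicalComplex.isZero_single_obj_X _ _ _ _ (by omega)
  · by_cases hi : i = n
    · subst hi
      exact hP.iso (HomologicalComplex.singleObjXSelf (ComplexShape.up ℤ) i F).symm hF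
    · exact hP.zero (HomologicalComplex.isZero_single_obj_X _ _ _ _ hi)

theorem resolutionData (hP : IsProjClass P) : ResolutionData P (fun K : DerivedCategory C => ∀ m, PC P m K) where
  P_iso := hP.iso
  P_zero := hP.zero
  P_sum := hP.sum
  P_proj := hP.proj
  T_iso e h := fun m => (h m).of_iso e
  T_top n h hn := (h n).exists_epi hP hn
  T_cone n _ hΔ hF e _ h₂ := fun m => PC.obj₃ hP hΔ rfl ((PC.single hP hF n (m + 1)).of_iso e.symm) (h₂ m)

/-- Stacks Tag 064U: an object which is `m`-pseudo-coherent for all `m` is represented by a bounded above complex of objects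
of `P`. -/
theorem exists_resolution_of_forall_PC [HasColimitsOfShape ℕ C] (hP : IsProjClass P) (K : DerivedCategory C)
    (hK : ∀ m, PC P m K) (b : ℤ) (hb : K.IsLE b) :
    ∃ E : CochainComplex C ℤ, (∀ i, P (E.X i)) ∧ (∀ i, b < i → IsZero (E.X i)) ∧ Nonempty (Q.obj E ≅ K) := by
  obtain ⟨E, f, hf, hE, hE'⟩ := exists_resolution (resolutionData hP) (Q.objPreimage K) b
    (fun m => (hK m).of_iso (Q.objObjPreimageIso K).symm) (TStructure.t.isLE_of_iso (Q.objObjPreimageIso K).symm b)
  exact ⟨E, hE, hE', ⟨asIso (Q.map f) ≪≫ Q.objObjPreimageIso K⟩⟩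

/-- Stacks Tag 064U, (1) iff (2). -/
theorem forall_PC_iff [HasColimitsOfShape ℕ C] (hP : IsProjClass P) (K : DerivedCategory C) :
    (∀ m, PC P m K) ↔
      ∃ (E : CochainComplex C ℤ) (b : ℤ), (∀ i, b < i → IsZero (E.X i)) ∧ (∀ i, P (E.X i)) ∧ Nonempty (Q.obj E ≅ K) := by
  constructor
  · intro h
    obtain ⟨b, hb⟩ := (h 0).exists_isLE
    obtain ⟨E, h1, h2, h3⟩ := exists_resolution_of_forall_PC hP K h b hb
    exact ⟨E, b, h2, h1, h3⟩
  · rintro ⟨E, b, h1, h2, ⟨e⟩⟩ m
    exact (PC.of_boundedAbove hP E b h1 h2 m).of_iso e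

/-- Monotonicity in the class of projectives. -/
theorem PC.le {P P' : ObjectProperty C} (hle : ∀ X, P X → P' X) {m : ℤ} {K : DerivedCategory C} (h : PC P m K) :
    PC P' m K := by
  obtain ⟨E, a, b, α, hE, hEP, h1, h2⟩ := h
  exact ⟨E, a, b, α, hE, fun i => hle _ (hEP i), h1, h2⟩

/-- If every object of `P'` is a quotient of an object of `P ⊆ P'`, the two notions of pseudo-coherence agree. -/
theorem PC.iff_of_le [HasColimitsOfShape ℕ C] {P P' : ObjectProperty C} (hP : IsProjClass P) (hP' : IsProjClass P')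
    (hle : ∀ X, P X → P' X) (hepi : ∀ X, P' X → ∃ (F : C) (p : F ⟶ X), P F ∧ Epi p) (m : ℤ) (K : DerivedCategory C) :
    PC P m K ↔ PC P' m K := by
  refine ⟨PC.le hle, fun h => ?_⟩
  have hres : ResolutionData P (fun K : DerivedCategory C => ∀ m, PC P' m K) :=
    { P_iso := hP.iso
      P_zero := hP.zero
      P_sum := hP.sum
      P_proj := hP.proj
      T_iso := fun e h m => (h m).of_iso e
      T_top := fun n h hn => by
        obtain ⟨F, p, hF, hp⟩ := (h n).exists_epi hP' hn
        obtain ⟨F', p', hF', hp'⟩ := hepi F hF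
        exact ⟨F', p' ≫ p, hF', epi_comp _ _⟩
      T_cone := fun n F hΔ hF e _ h₂ m =>
        PC.obj₃ hP' hΔ rfl ((PC.single hP' (hle _ hF) n (m + 1)).of_iso e.symm) (h₂ m) }
  obtain ⟨E, a, b, α, hE, hEP, h1, h2⟩ := h
  have : E.IsStrictlyLE b := by
    rw [CochainComplex.isStrictlyLE_iff]
    exact fun i hi => hE i (Or.inr hi)
  obtain ⟨E', f, hf, hE', hE''⟩ := exists_resolution hres E b (fun m => PC.of_bounded E a b hE hEP m) inferInstance
  obtain ⟨E₁, a₁, b₁, α₁, hE₁, hE₁P, h1₁, h2₁⟩ := PC.of_boundedAbove hP E' b hE'' hE' m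
  refine ⟨E₁, a₁, b₁, α₁ ≫ Q.map f ≫ α, hE₁, hE₁P, fun i hi => ?_, ?_⟩
  · have := h1 i hi
    have := h1₁ i hi
    rw [Functor.map_comp, Functor.map_comp]
    infer_instance
  · rw [Functor.map_comp, Functor.map_comp]
    exact epi_comp' h2₁ (epi_comp' inferInstance h2)

end Groth.Agent.CalgB.PsCohGen
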