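import Groth.Agent.CalgB.QuasiRegular
import Mathlib.RingTheory.MvPolynomial.Homogeneous
import Mathlib.RingTheory.Ideal.Quotient.Operations
import Mathlib.Algebra.MvPolynomial.Equiv

/-!
# Appending an `H_1`-regular sequence to a quasi-regular one (Stacks 0667)
-/

set_option autoImplicit false

open MvPolynomial

namespace Groth.Agent.CalgB.QuasiRegularAppend

open Groth.Agent.CalgB.QuasiRegular

universe u

variable {R : Type u} [CommRing R]

/-- the trivial relations -/
abbrev trivRel {c : ℕ} (g : Fin c → R) : Submodule R (Fin c → R) :=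
  Submodule.span R {v : Fin c → R | ∃ i j : Fin c, v = Pi.single i (g j) - Pi.single j (g i)}

/-- `H_1`-regularity modulo an ideal, in terms of lifts. -/
theorem isH1Regular_mk_iff {c : ℕ} (g : Fin c → R) (𝔞 : Ideal R) :
    CAlgX.IsH1Regular (fun j => Ideal.Quotient.mk 𝔞 (g j)) ↔
      ∀ a : Fin c → R, ∑ i, a i * g i ∈ 𝔞 → ∃ t ∈ trivRel g, ∀ i, a i - t i ∈ 𝔞 := by
  constructor
  · intro h a ha
    have h1 : ∑ i, (Ideal.Quotient.mk 𝔞 (a i)) * (Ideal.Quotient.mk 𝔞 (g i)) = 0 := by
      rw [← Ideal.Quotient.eq_zero_iff_mem] at ha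
      rw [← ha, map_sum]
      simp
    have h2 := h _ h1
    have key : ∀ v : Fin c → R ⧸ 𝔞, v ∈ Submodule.span (R ⧸ 𝔞) {v : Fin c → R ⧸ 𝔞 |
        ∃ i j : Fin c, v = Pi.single i (Ideal.Quotient.mk 𝔞 (g j)) -
          Pi.single j (Ideal.Quotient.mk 𝔞 (g i))} →
        ∃ t ∈ trivRel g, ∀ i, Ideal.Quotient.mk 𝔞 (t i) = v i := by
      intro v hv
      induction hv using Submodule.span_induction with
      | mem v hv =>
        obtain ⟨i, j, rfl⟩ := hv
        refine ⟨Pi.single i (g j) - Pi.single j (g i), Submodule.subset_span ⟨i, j, rfl⟩, ?_⟩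
        intro l
        have hs : ∀ (k : Fin c) (r : R), Ideal.Quotient.mk 𝔞 ((Pi.single k r : Fin c → R) l) =
            (Pi.single k (Ideal.Quotient.mk 𝔞 r) : Fin c → R ⧸ 𝔞) l := by
          intro k r
          by_cases hkl : l = k
          · subst hkl; simp
          · simp [Pi.single_eq_of_ne hkl]
        simp only [Pi.sub_apply, map_sub, hs]
      | zero => exact ⟨0, Submodule.zero_mem _, by simp⟩
      | add v w _ _ hv hw =>
        obtain ⟨t, ht, htv⟩ := hv
        obtain ⟨s, hs, hsw⟩ := hw
        exact ⟨t + s, Submodule.add_mem _ ht hs, fun i => by simp [htv, hsw]⟩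
      | smul r v _ hv =>
        obtain ⟨t, ht, htv⟩ := hv
        obtain ⟨r, rfl⟩ := Ideal.Quotient.mk_surjective r
        exact ⟨r • t, Submodule.smul_mem _ _ ht, fun i => by simp [htv]⟩
    obtain ⟨t, ht, htv⟩ := key _ h2
    refine ⟨t, ht, fun i => ?_⟩
    rw [← Ideal.Quotient.eq_zero_iff_mem, map_sub, htv i, sub_self]
  · intro h a ha
    have hsurj : ∀ x : R ⧸ 𝔞, ∃ y : R, Ideal.Quotient.mk 𝔞 y = x := Ideal.Quotient.mk_surjective
    choose b hb using fun i => hsurj (a i)
    have h1 : ∑ i, b i * g i ∈ 𝔞 := by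
      rw [← Ideal.Quotient.eq_zero_iff_mem, ← ha, map_sum]
      simp [hb]
    obtain ⟨t, ht, htb⟩ := h b h1
    have h2 : a = fun i => Ideal.Quotient.mk 𝔞 (t i) := by
      funext i
      have := htb i
      rw [← Ideal.Quotient.eq_zero_iff_mem, map_sub, hb, sub_eq_zero] at this
      exact this
    rw [h2]
    clear h2 htb h1 hb b ha a
    induction ht using Submodule.span_induction with
    | mem v hv =>
      obtain ⟨i, j, rfl⟩ := hv
      refine Submodule.subset_span ⟨i, j, ?_⟩
      funext l
      have hs : ∀ (k : Fin c) (r : R), Ideal.Quotient.mk 𝔞 ((Pi.single k r : Fin c → R) l) =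
          (Pi.single k (Ideal.Quotient.mk 𝔞 r) : Fin c → R ⧸ 𝔞) l := by
        intro k r
        by_cases hkl : l = k
        · subst hkl; simp
        · simp [Pi.single_eq_of_ne hkl]
      simp only [Pi.sub_apply, map_sub, hs]
    | zero => simp only [Pi.zero_apply, map_zero]; exact Submodule.zero_mem _
    | add v w _ _ hv hw =>
      simp only [Pi.add_apply, map_add]
      exact Submodule.add_mem _ hv hw
    | smul r v _ hv =>
      have : (fun i => Ideal.Quotient.mk 𝔞 ((r • v) i)) =
          (Ideal.Quotient.mk 𝔞 r) • (fun i => Ideal.Quotient.mk 𝔞 (v i)) := by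
        funext i; simp
      rw [this]
      exact Submodule.smul_mem _ _ hv

/-- evaluation of a polynomial of order `≥ l` with coefficients in `𝔞`. -/
theorem eval_mem_mul_pow {c : ℕ} (g : Fin c → R) (𝔞 : Ideal R) (l : ℕ)
    (P : MvPolynomial (Fin c) R) (hP : P ∈ idealOfVars (Fin c) R ^ l)
    (hPa : ∀ d, P.coeff d ∈ 𝔞) : eval g P ∈ 𝔞 * Ideal.span (Set.range g) ^ l := by
  rw [eval_eq]
  refine Ideal.sum_mem _ fun d hd => ?_
  refine Ideal.mul_mem_mul (hPa d) ?_
  rw [mem_pow_idealOfVars_iff] at hP
  have hdeg := hP d hd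
  have hprod : ∀ (s : Finset (Fin c)), ∏ i ∈ s, g i ^ d i ∈ Ideal.span (Set.range g) ^ (∑ i ∈ s, d i) := by
    intro s
    induction s using Finset.induction_on with
    | empty => simp
    | insert a s ha ih =>
      rw [Finset.prod_insert ha, Finset.sum_insert ha, pow_add]
      have hga : g a ∈ Ideal.span (Set.range g) := Ideal.subset_span ⟨a, rfl⟩
      exact Ideal.mul_mem_mul (Ideal.pow_mem_pow hga _) ih
  have h1 := hprod d.support
  have h2 : ∑ i ∈ d.support, d i = Finsupp.degree d := rfl
  rw [h2] at h1
  exact Ideal.pow_le_pow_right hdeg h1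

theorem inf_pow_le_mul_pow {c : ℕ} (g : Fin c → R) (𝔞 : Ideal R)
    (h : CAlgX.IsH1Regular (fun j => Ideal.Quotient.mk 𝔞 (g j))) (l : ℕ) :
    𝔞 ⊓ Ideal.span (Set.range g) ^ l ≤ 𝔞 * Ideal.span (Set.range g) ^ l := by
  rintro x ⟨hxa, hxg⟩
  simp only [SetLike.mem_coe] at hxa hxg
  obtain ⟨Q, hQ, rfl⟩ := exists_mem_pow_eval l x hxg
  let φ : MvPolynomial (Fin c) R →+* MvPolynomial (Fin c) (R ⧸ 𝔞) := MvPolynomial.map (Ideal.Quotient.mk 𝔞)
  have hφs : Function.Surjective φ := MvPolynomial.map_surjective _ Ideal.Quotient.mk_surjective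
  have hmapm : (idealOfVars (Fin c) R).map φ = idealOfVars (Fin c) (R ⧸ 𝔞) := by
    rw [idealOfVars, Ideal.map_span, ← Set.range_comp]
    congr 1
    ext y
    simp [φ]
  have hmapK : (RingHom.ker (eval g)).map φ =
      RingHom.ker (eval fun j => Ideal.Quotient.mk 𝔞 (g j)) := by
    rw [ker_eval_eq_span, ker_eval_eq_span, Ideal.map_span, ← Set.range_comp]
    congr 1
    ext y
    simp [φ]
  have h1 : φ Q ∈ idealOfVars (Fin c) (R ⧸ 𝔞) ^ l * RingHom.ker (eval fun j => Ideal.Quotient.mk 𝔞 (g j)) := by
    apply pow_idealOfVars_inf_ker_le h l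
    constructor
    · have := Ideal.mem_map_of_mem φ hQ
      rwa [Ideal.map_pow, hmapm] at this
    · simp only [SetLike.mem_coe, RingHom.mem_ker]
      have h2 : eval (fun j => Ideal.Quotient.mk 𝔞 (g j)) (φ Q) = Ideal.Quotient.mk 𝔞 (eval g Q) := by
        have := MvPolynomial.map_eval (Ideal.Quotient.mk 𝔞) g Q
        rw [this]
        simp [φ, Function.comp_def]
      rw [h2, Ideal.Quotient.eq_zero_iff_mem]
      exact hxa
  rw [← hmapm, ← hmapK, ← Ideal.map_pow, ← Ideal.map_mul, Ideal.mem_map_iff_of_surjective _ hφs] at h1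
  obtain ⟨S, hS, hSQ⟩ := h1
  have hS1 : S ∈ idealOfVars (Fin c) R ^ l := Ideal.mul_le_left hS
  have hS2 : eval g S = 0 := RingHom.mem_ker.mp (Ideal.mul_le_right hS)
  have h3 : eval g Q = eval g (Q - S) := by rw [map_sub, hS2, sub_zero]
  rw [h3]
  refine eval_mem_mul_pow g 𝔞 l _ (Ideal.sub_mem _ hQ hS1) fun d => ?_
  rw [← Ideal.Quotient.eq_zero_iff_mem, ← coeff_map]
  have : φ (Q - S) = 0 := by rw [map_sub, hSQ, sub_self]
  change coeff d (φ (Q - S)) = 0
  rw [this, coeff_zero]

/-- reformulation of quasi-regularity -/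
theorem coeff_mem_of_isQuasiRegular {c : ℕ} {f : Fin c → R} (hf : CAlgX.IsQuasiRegular f) (k : ℕ)
    (P : MvPolynomial (Fin c) R) (hP : P ∈ idealOfVars (Fin c) R ^ k)
    (hPf : eval f P ∈ Ideal.span (Set.range f) ^ (k + 1)) (d : Fin c →₀ ℕ)
    (hd : Finsupp.degree d = k) : P.coeff d ∈ Ideal.span (Set.range f) := by
  set P₀ := homogeneousComponent k P with hP₀
  have hdiff : P - P₀ ∈ idealOfVars (Fin c) R ^ (k + 1) := by
    rw [mem_pow_idealOfVars_iff'] at hP ⊢
    intro x hx
    rw [coeff_sub, hP₀, coeff_homogeneousComponent]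
    split_ifs with h
    · simp
    · rw [sub_zero]
      exact hP x (by omega)
  have h1 : eval f P₀ ∈ Ideal.span (Set.range f) ^ (k + 1) := by
    have h2 : eval f P₀ = eval f P - eval f (P - P₀) := by rw [map_sub]; ring
    rw [h2]
    refine Ideal.sub_mem _ hPf ?_
    have := eval_mem_mul_pow f ⊤ (k + 1) _ hdiff (fun _ => Submodule.mem_top)
    rwa [Ideal.top_mul] at this
  have h3 := hf k P₀ (homogeneousComponent_isHomogeneous k P) h1 d
  rwa [hP₀, coeff_homogeneousComponent, if_pos hd] at h3

/-- `H_1`-regularity on `A/I` passes to `A/I^j` when `I` is generated by a quasi-regular sequence. -/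
theorem isH1Regular_mk_pow {n m : ℕ} {f : Fin n → R} (hf : CAlgX.IsQuasiRegular f) {g : Fin m → R}
    (hg : CAlgX.IsH1Regular (fun j => Ideal.Quotient.mk (Ideal.span (Set.range f)) (g j))) (k : ℕ) :
    CAlgX.IsH1Regular (fun j => Ideal.Quotient.mk (Ideal.span (Set.range f) ^ k) (g j)) := by
  set I := Ideal.span (Set.range f) with hI
  induction k with
  | zero =>
    rw [isH1Regular_mk_iff]
    intro a _
    exact ⟨0, Submodule.zero_mem _, by simp⟩
  | succ k ih =>
    rw [isH1Regular_mk_iff] at ih hg ⊢
    intro a ha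
    obtain ⟨t, ht, hta⟩ := ih a (Ideal.pow_le_pow_right (Nat.le_succ k) ha)
    -- `b = a - t`, `b i = V i (f)`, `V i` of order `≥ k`
    have hV : ∀ i, ∃ V ∈ idealOfVars (Fin n) R ^ k, eval f V = a i - t i :=
      fun i => exists_mem_pow_eval k _ (hta i)
    choose V hVm hVe using hV
    have htg : ∑ i, t i * g i = 0 := by
      clear hVe hVm V hta
      induction ht using Submodule.span_induction with
      | mem v hv =>
        obtain ⟨i, j, rfl⟩ := hv
        simp only [Pi.sub_apply, sub_mul, Finset.sum_sub_distrib]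
        rw [Finset.sum_eq_single i, Finset.sum_eq_single j]
        · simp [mul_comm]
        · intro b _ hb; simp [Pi.single_eq_of_ne hb]
        · simp
        · intro b _ hb; simp [Pi.single_eq_of_ne hb]
        · simp
      | zero => simp
      | add v w _ _ hv hw => simp [add_mul, Finset.sum_add_distrib, hv, hw]
      | smul r v _ hv => simp [mul_assoc, ← Finset.mul_sum, hv]
    let P : MvPolynomial (Fin n) R := ∑ i, C (g i) * V i
    have hPm : P ∈ idealOfVars (Fin n) R ^ k :=
      Ideal.sum_mem _ fun i _ => Ideal.mul_mem_left _ _ (hVm i)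
    have hPe : eval f P ∈ I ^ (k + 1) := by
      have : eval f P = ∑ i, a i * g i := by
        simp only [P, map_sum, map_mul, eval_C, hVe]
        have h2 : ∑ i, g i * (a i - t i) = ∑ i, a i * g i - ∑ i, t i * g i := by
          rw [← Finset.sum_sub_distrib]
          exact Finset.sum_congr rfl fun i _ => by ring
        rw [h2, htg, sub_zero]
      rw [this]
      exact ha
    have hcoef := coeff_mem_of_isQuasiRegular hf k P hPm hPe
    -- for each multi-index `E` of degree `k` correct by a trivial relation
    have hE : ∀ E : Fin n →₀ ℕ, ∃ s ∈ trivRel g, Finsupp.degree E = k →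
        ∀ i, (V i).coeff E - s i ∈ I := by
      intro E
      by_cases hEk : Finsupp.degree E = k
      · have h1 := hcoef E hEk
        have h2 : ∑ i, (V i).coeff E * g i ∈ I := by
          have : P.coeff E = ∑ i, (V i).coeff E * g i := by
            simp only [P, coeff_sum, coeff_C_mul]
            exact Finset.sum_congr rfl fun i _ => by ring
          rwa [← this]
        obtain ⟨s, hs, hsV⟩ := hg _ h2
        exact ⟨s, hs, fun _ => hsV⟩
      · exact ⟨0, Submodule.zero_mem _, fun h => absurd h hEk⟩
    choose s hs hsV using hE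
    -- the finite set of all relevant `E`
    let T : Finset (Fin n →₀ ℕ) := (Finset.univ.biUnion fun i => (V i).support).filter
      (fun E => Finsupp.degree E = k)
    refine ⟨t + ∑ E ∈ T, (∏ j, f j ^ E j) • s E, Submodule.add_mem _ ht
      (Submodule.sum_mem _ fun E _ => Submodule.smul_mem _ _ (hs E)), fun i => ?_⟩
    let W : MvPolynomial (Fin n) R := V i - ∑ E ∈ T, monomial E (s E i)
    have hW : a i - (t + ∑ E ∈ T, (∏ j, f j ^ E j) • s E) i = eval f W := by
      simp only [Pi.add_apply, Finset.sum_apply, Pi.smul_apply, smul_eq_mul, W, map_sub, hVe,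
        map_sum, eval_monomial]
      rw [sub_add_eq_sub_sub]
      congr 1
      refine Finset.sum_congr rfl fun E _ => ?_
      rw [Finsupp.prod_fintype _ _ (fun _ => pow_zero _), mul_comm]
    rw [hW]
    have hWcoef : ∀ E, W.coeff E = if E ∈ T then (V i).coeff E - s E i else (V i).coeff E := by
      intro E
      simp only [W, coeff_sub, coeff_sum, coeff_monomial, Finset.sum_ite_eq']
      split_ifs <;> simp
    have hW1 : W ∈ idealOfVars (Fin n) R ^ k := by
      refine Ideal.sub_mem _ (hVm i) (Ideal.sum_mem _ fun E hE => ?_)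
      rw [mem_pow_idealOfVars_iff']
      intro x hx
      rw [coeff_monomial, if_neg]
      rintro rfl
      have := (Finset.mem_filter.mp hE).2
      omega
    -- split `W` as degree `k` part plus higher part
    have hW2 : eval f (homogeneousComponent k W) ∈ I ^ (k + 1) := by
      rw [pow_succ, mul_comm]
      refine eval_mem_mul_pow f I k _ ?_ fun d => ?_
      · rw [mem_pow_idealOfVars_iff']
        intro x hx
        rw [coeff_homogeneousComponent, if_neg (by omega)]
      · rw [coeff_homogeneousComponent]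
        split_ifs with hd
        · rw [hWcoef]
          split_ifs with hdT
          · exact hsV d hd i
          · have : (V i).coeff d = 0 := by
              by_contra hne
              apply hdT
              simp only [T, Finset.mem_filter, Finset.mem_biUnion, Finset.mem_univ, true_and]
              exact ⟨⟨i, mem_support_iff.mpr hne⟩, hd⟩
            rw [this]; exact Ideal.zero_mem _
        · exact Ideal.zero_mem _
    have hW3 : eval f (W - homogeneousComponent k W) ∈ I ^ (k + 1) := by
      have h4 : W - homogeneousComponent k W ∈ idealOfVars (Fin n) R ^ (k + 1) := by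
        rw [mem_pow_idealOfVars_iff'] at hW1 ⊢
        intro x hx
        rw [coeff_sub, coeff_homogeneousComponent]
        split_ifs with h
        · simp
        · rw [sub_zero]
          exact hW1 x (by omega)
      have := eval_mem_mul_pow f ⊤ (k + 1) _ h4 (fun _ => Submodule.mem_top)
      rwa [Ideal.top_mul] at this
    have : eval f W = eval f (homogeneousComponent k W) + eval f (W - homogeneousComponent k W) := by
      rw [← map_add, add_sub_cancel]
    rw [this]
    exact Ideal.add_mem _ hW2 hW3

theorem sup_pow_le {I G : Ideal R} {N k : ℕ} (hk : k ≤ N) :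
    (I ⊔ G) ^ (N + 1) ≤ I ^ (k + 1) ⊔ G ^ (N + 1 - k) := by
  rw [← Submodule.add_eq_sup, add_pow]
  rw [Ideal.sum_eq_sup, Finset.sup_le_iff]
  intro i hi
  refine Ideal.mul_le_left.trans ?_
  rcases Nat.lt_or_ge k i with h | h
  · have h1 : I ^ i * G ^ (N + 1 - i) ≤ I ^ (k + 1) :=
      Ideal.mul_le_left.trans (Ideal.pow_le_pow_right h)
    exact h1.trans le_sup_left
  · have h1 : I ^ i * G ^ (N + 1 - i) ≤ G ^ (N + 1 - k) :=
      Ideal.mul_le_right.trans (Ideal.pow_le_pow_right (by omega))
    exact h1.trans le_sup_right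

/-! ### The main induction -/

/-- bigraded-homogeneous of total degree `N`. -/
def BiHom {n m : ℕ} (N : ℕ) (P : MvPolynomial (Fin n) (MvPolynomial (Fin m) R)) : Prop :=
  ∀ E F, coeff F (coeff E P) ≠ 0 → Finsupp.degree E + Finsupp.degree F = N

theorem coeff_mem_of_biHom {n m : ℕ} {f : Fin n → R} (hf : CAlgX.IsQuasiRegular f) {g : Fin m → R}
    (hg : CAlgX.IsH1Regular (fun j => Ideal.Quotient.mk (Ideal.span (Set.range f)) (g j))) (N : ℕ) :
    ∀ (e k : ℕ) (_ : k + e = N + 1) (P : MvPolynomial (Fin n) (MvPolynomial (Fin m) R)),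
      BiHom N P → P ∈ idealOfVars (Fin n) (MvPolynomial (Fin m) R) ^ k →
      eval f (MvPolynomial.map (eval g) P) ∈ (Ideal.span (Set.range f) ⊔ Ideal.span (Set.range g)) ^ (N + 1) →
      ∀ E F, coeff F (coeff E P) ∈ Ideal.span (Set.range f) ⊔ Ideal.span (Set.range g) := by
  set I := Ideal.span (Set.range f) with hI
  set G := Ideal.span (Set.range g) with hG
  intro e
  induction e with
  | zero =>
    intro k hk P hP hPk _ E F
    have hP0 : coeff F (coeff E P) = 0 := by
      by_contra hne
      have h1 := hP E F hne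
      rw [mem_pow_idealOfVars_iff'] at hPk
      have h2 := hPk E (by omega)
      rw [h2] at hne
      exact hne (coeff_zero _)
    rw [hP0]; exact Ideal.zero_mem _
  | succ e ih =>
    intro k hk P hP hPk hPJ E F
    have hkN : k ≤ N := by omega
    -- the polynomial `Q ∈ A[X]`
    set Q := MvPolynomial.map (eval g) P with hQ
    have hQk : Q ∈ idealOfVars (Fin n) R ^ k := by
      rw [mem_pow_idealOfVars_iff'] at hPk ⊢
      intro x hx
      rw [hQ, coeff_map, hPk x hx, map_zero]
    have hQI : eval f Q ∈ I ^ k := by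
      have := eval_mem_mul_pow f ⊤ k _ hQk (fun _ => Submodule.mem_top)
      rwa [Ideal.top_mul] at this
    obtain ⟨u, hu, v, hv, huv⟩ := Submodule.mem_sup.mp (sup_pow_le (I := I) (G := G) hkN hPJ)
    have hvI : v ∈ I ^ k := by
      have : v = eval f Q - u := by rw [← huv]; ring
      rw [this]
      exact Ideal.sub_mem _ hQI (Ideal.pow_le_pow_right (Nat.le_succ k) hu)
    have hv2 : v ∈ I ^ k * G ^ (N + 1 - k) :=
      inf_pow_le_mul_pow g (I ^ k) (isH1Regular_mk_pow hf hg k) (N + 1 - k) ⟨hvI, hv⟩
    -- represent `v` by a polynomial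
    have hV : ∃ V ∈ idealOfVars (Fin n) R ^ k * (G ^ (N + 1 - k)).map C, eval f V = v := by
      have hsurj : Function.Surjective (eval f) := fun x => ⟨C x, by simp⟩
      have h1 : (idealOfVars (Fin n) R ^ k * (G ^ (N + 1 - k)).map C).map (eval f) =
          I ^ k * G ^ (N + 1 - k) := by
        rw [Ideal.map_mul, Ideal.map_pow, Ideal.map_map]
        congr 1
        · congr 1
          rw [idealOfVars, Ideal.map_span, ← Set.range_comp, hI]
          congr 1
          ext x
          simp
        · have : (eval f).comp C = RingHom.id R := by ext; simp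
          rw [this, Ideal.map_id]
      rw [← h1, Ideal.mem_map_iff_of_surjective _ hsurj] at hv2
      exact hv2
    obtain ⟨V, hVm, hVv⟩ := hV
    have hVk : V ∈ idealOfVars (Fin n) R ^ k := Ideal.mul_le_left hVm
    have hVG : ∀ d, coeff d V ∈ G ^ (N + 1 - k) := by
      have h1 : V ∈ (G ^ (N + 1 - k)).map C := Ideal.mul_le_right hVm
      rwa [mem_map_C_iff] at h1
    have hdiff : eval f (Q - V) ∈ I ^ (k + 1) := by
      rw [map_sub, hVv, ← huv]
      simpa using hu
    have hcoef := coeff_mem_of_isQuasiRegular hf k (Q - V) (Ideal.sub_mem _ hQk hVk) hdiff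
    -- hence the coefficients of the degree `k` part lie in `J`
    have hkey : ∀ E F, Finsupp.degree E = k → coeff F (coeff E P) ∈ I ⊔ G := by
      intro E F hE
      have h1 := hcoef E hE
      rw [coeff_sub, hQ, coeff_map] at h1
      set B := coeff E P with hB
      -- `B` is homogeneous of degree `N - k`
      have hBhom : B.IsHomogeneous (N - k) := by
        intro F' hF'
        have h2 := hP E F' hF'
        have h3 : Finsupp.weight (1 : Fin m → ℕ) F' = Finsupp.degree F' := by
          rw [Finsupp.degree_eq_weight_one]; rfl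
        rw [h3]; omega
      -- reduce mod `I`
      have hgq := isQuasiRegular_of_isH1Regular hg
      have hspan : Ideal.span (Set.range fun j => Ideal.Quotient.mk I (g j)) = G.map (Ideal.Quotient.mk I) := by
        rw [hG, Ideal.map_span, ← Set.range_comp]; rfl
      have hev : eval (fun j => Ideal.Quotient.mk I (g j)) (MvPolynomial.map (Ideal.Quotient.mk I) B) ∈
          Ideal.span (Set.range fun j => Ideal.Quotient.mk I (g j)) ^ (N - k + 1) := by
        have h4 : eval (fun j => Ideal.Quotient.mk I (g j)) (MvPolynomial.map (Ideal.Quotient.mk I) B) =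
            Ideal.Quotient.mk I (eval g B) := by
          have := MvPolynomial.map_eval (Ideal.Quotient.mk I) g B
          rw [this]
          simp [Function.comp_def]
        rw [h4, hspan, ← Ideal.map_pow]
        have h5 : Ideal.Quotient.mk I (eval g B) = Ideal.Quotient.mk I (coeff E V) := by
          rw [Ideal.Quotient.eq]; exact h1
        rw [h5]
        have h6 := hVG E
        have h7 : N + 1 - k = N - k + 1 := by omega
        rw [h7] at h6
        exact Ideal.mem_map_of_mem _ h6
      have h8 := hgq (N - k) _ (hBhom.map _) hev F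
      rw [coeff_map, hspan] at h8
      have h9 : Ideal.Quotient.mk I (coeff F B) ∈ (I ⊔ G).map (Ideal.Quotient.mk I) :=
        Ideal.map_mono le_sup_right h8
      have h10 : coeff F B ∈ ((I ⊔ G).map (Ideal.Quotient.mk I)).comap (Ideal.Quotient.mk I) := h9
      rw [Ideal.comap_map_of_surjective _ Ideal.Quotient.mk_surjective, ← RingHom.ker_eq_comap_bot,
        Ideal.mk_ker] at h10
      have h11 : (I ⊔ G) ⊔ I = I ⊔ G := by
        rw [sup_assoc, sup_comm G I, ← sup_assoc, sup_idem]
      rwa [h11] at h10
    by_cases hE : Finsupp.degree E = k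
    · exact hkey E F hE
    · -- subtract the degree `k` component
      set P₀ := homogeneousComponent k P with hP₀
      have hP'hom : BiHom N (P - P₀) := by
        intro E' F' h
        rw [coeff_sub, hP₀, coeff_homogeneousComponent] at h
        split_ifs at h with h'
        · simp at h
        · rw [sub_zero] at h
          exact hP E' F' h
      have hP'k : P - P₀ ∈ idealOfVars (Fin n) (MvPolynomial (Fin m) R) ^ (k + 1) := by
        rw [mem_pow_idealOfVars_iff'] at hPk ⊢
        intro x hx
        rw [coeff_sub, hP₀, coeff_homogeneousComponent]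
        split_ifs with h
        · simp
        · rw [sub_zero]
          exact hPk x (by omega)
      have hP₀J : eval f (MvPolynomial.map (eval g) P₀) ∈ (I ⊔ G) ^ (N + 1) := by
        rw [eval_eq]
        refine Ideal.sum_mem _ fun d _ => ?_
        rw [coeff_map, hP₀, coeff_homogeneousComponent]
        split_ifs with hd
        · have h1 : eval g (coeff d P) ∈ (I ⊔ G) * G ^ (N - k) := by
            refine eval_mem_mul_pow g (I ⊔ G) (N - k) _ ?_ (fun F' => hkey d F' hd)
            rw [mem_pow_idealOfVars_iff]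
            intro F' hF'
            have := hP d F' (mem_support_iff.mp hF')
            omega
          have h2 : ∏ i ∈ d.support, f i ^ d i ∈ I ^ k := by
            have hd1 : (monomial d (1 : R)) ∈ idealOfVars (Fin n) R ^ k := by
              rw [mem_pow_idealOfVars_iff']
              intro x hx
              rw [coeff_monomial, if_neg]
              rintro rfl
              omega
            have h3 := eval_mem_mul_pow f ⊤ k _ hd1 (fun _ => Submodule.mem_top)
            rw [Ideal.top_mul, eval_monomial, one_mul] at h3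
            exact h3
          have h3 : (I ⊔ G) * G ^ (N - k) * I ^ k ≤ (I ⊔ G) ^ (N + 1) := by
            have h4 : N + 1 = 1 + (N - k) + k := by omega
            rw [h4, pow_add, pow_add, pow_one]
            exact Ideal.mul_mono (Ideal.mul_mono le_rfl (Ideal.pow_right_mono le_sup_right _))
              (Ideal.pow_right_mono le_sup_left _)
          exact h3 (Ideal.mul_mem_mul h1 h2)
        · simp
      have hP'J : eval f (MvPolynomial.map (eval g) (P - P₀)) ∈ (I ⊔ G) ^ (N + 1) := by
        rw [map_sub, map_sub]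
        exact Ideal.sub_mem _ hPJ hP₀J
      have := ih (k + 1) (by omega) (P - P₀) hP'hom hP'k hP'J E F
      rw [coeff_sub, hP₀, coeff_homogeneousComponent, if_neg hE, sub_zero] at this
      exact this

/-- split the variables -/
noncomputable def splitVars (n m : ℕ) :
    MvPolynomial (Fin (n + m)) R →ₐ[R] MvPolynomial (Fin n) (MvPolynomial (Fin m) R) :=
  aeval (Fin.append X (fun j => C (X j)))

/-- first half of a multi-index -/
noncomputable def fstIdx {n m : ℕ} (d : Fin (n + m) →₀ ℕ) : Fin n →₀ ℕ :=
  Finsupp.equivFunOnFinite.symm fun i => d (Fin.castAdd m i)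

/-- second half of a multi-index -/
noncomputable def sndIdx {n m : ℕ} (d : Fin (n + m) →₀ ℕ) : Fin m →₀ ℕ :=
  Finsupp.equivFunOnFinite.symm fun i => d (Fin.natAdd n i)

theorem idx_ext {n m : ℕ} {d e : Fin (n + m) →₀ ℕ} (h1 : fstIdx d = fstIdx e)
    (h2 : sndIdx d = sndIdx e) : d = e := by
  ext i
  refine Fin.addCases (fun i => ?_) (fun i => ?_) i
  · exact DFunLike.congr_fun h1 i
  · exact DFunLike.congr_fun h2 i

theorem degree_idx {n m : ℕ} (d : Fin (n + m) →₀ ℕ) :
    Finsupp.degree (fstIdx d) + Finsupp.degree (sndIdx d) = Finsupp.degree d := by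
  rw [Finsupp.degree_eq_sum, Finsupp.degree_eq_sum, Finsupp.degree_eq_sum, Fin.sum_univ_add]
  rfl

theorem splitVars_monomial {n m : ℕ} (d : Fin (n + m) →₀ ℕ) (r : R) :
    splitVars n m (monomial d r) = monomial (fstIdx d) (monomial (sndIdx d) r) := by
  rw [splitVars, aeval_monomial, Finsupp.prod_fintype _ _ (fun _ => pow_zero _), Fin.prod_univ_add]
  simp only [Fin.append_left, Fin.append_right]
  rw [monomial_eq (s := fstIdx d), monomial_eq (s := sndIdx d),
    Finsupp.prod_fintype _ _ (fun _ => pow_zero _), Finsupp.prod_fintype _ _ (fun _ => pow_zero _)]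
  simp only [map_mul, map_prod, map_pow]
  have : (algebraMap R (MvPolynomial (Fin n) (MvPolynomial (Fin m) R))) r = C (C r) := rfl
  rw [this]
  simp only [fstIdx, sndIdx, Finsupp.equivFunOnFinite_symm_apply_apply]
  ring

theorem coeff_splitVars {n m : ℕ} (P : MvPolynomial (Fin (n + m)) R) (d : Fin (n + m) →₀ ℕ) :
    coeff (sndIdx d) (coeff (fstIdx d) (splitVars n m P)) = coeff d P := by
  induction P using MvPolynomial.induction_on' with
  | monomial e r =>
    rw [splitVars_monomial, coeff_monomial, coeff_monomial]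
    by_cases h : e = d
    · subst h; simp
    · rw [if_neg h]
      split_ifs with h1
      · rw [coeff_monomial, if_neg]
        intro h2
        exact h (idx_ext h1 h2)
      · simp
  | add p q hp hq => simp only [map_add, coeff_add, hp, hq]

theorem exists_idx {n m : ℕ} (E : Fin n →₀ ℕ) (F : Fin m →₀ ℕ) :
    ∃ d : Fin (n + m) →₀ ℕ, fstIdx d = E ∧ sndIdx d = F := by
  refine ⟨Finsupp.equivFunOnFinite.symm (Fin.append E F), ?_, ?_⟩
  · ext i; simp [fstIdx]
  · ext i; simp [sndIdx]

theorem eval_splitVars {n m : ℕ} (f : Fin n → R) (g : Fin m → R) (P : MvPolynomial (Fin (n + m)) R) :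
    eval f (MvPolynomial.map (eval g) (splitVars n m P)) = eval (Fin.append f g) P := by
  induction P using MvPolynomial.induction_on with
  | C a =>
    have : splitVars n m (C a : MvPolynomial (Fin (n + m)) R) = C (C a) := by
      rw [splitVars]; exact aeval_C _ _
    rw [this]; simp
  | add p q hp hq => simp only [map_add, hp, hq]
  | mul_X p i hp =>
    simp only [map_mul, hp, eval_X]
    congr 1
    rw [splitVars, aeval_X]
    refine Fin.addCases (fun i => ?_) (fun i => ?_) i <;> simp

/-- Stacks 0667. -/
theorem isQuasiRegular_append {n m : ℕ} (f : Fin n → R) (g : Fin m → R) (hf : CAlgX.IsQuasiRegular f)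
    (hg : CAlgX.IsH1Regular (fun j => Ideal.Quotient.mk (Ideal.span (Set.range f)) (g j))) :
    CAlgX.IsQuasiRegular (Fin.append f g) := by
  intro N P hP hPJ d
  have hJ : Ideal.span (Set.range (Fin.append f g)) =
      Ideal.span (Set.range f) ⊔ Ideal.span (Set.range g) := by
    rw [← Ideal.span_union]
    congr 1
    ext x
    constructor
    · rintro ⟨i, rfl⟩
      refine Fin.addCases (fun i => ?_) (fun i => ?_) i
      · rw [Fin.append_left]; exact Or.inl ⟨i, rfl⟩
      · rw [Fin.append_right]; exact Or.inr ⟨i, rfl⟩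
    · rintro (⟨i, rfl⟩ | ⟨i, rfl⟩)
      · exact ⟨Fin.castAdd m i, Fin.append_left _ _ _⟩
      · exact ⟨Fin.natAdd n i, Fin.append_right _ _ _⟩
  rw [hJ] at hPJ ⊢
  rw [← coeff_splitVars]
  refine coeff_mem_of_biHom hf hg N (N + 1) 0 (by omega) (splitVars n m P) ?_ (by simp) ?_ _ _
  · intro E F hEF
    obtain ⟨d', rfl, rfl⟩ := exists_idx E F
    rw [coeff_splitVars] at hEF
    rw [degree_idx]
    exact degree_of_isHomogeneous hP hEF
  · rw [eval_splitVars]
    exact hPJ

end Groth.Agent.CalgB.QuasiRegularAppend
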