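import Groth.Agent.Pi1A.PSPurity

/-!
# Etaleness of finite algebras which are stable under a translation

`B` a Noetherian local ring with a "translation" `τ : B →+* B⟦X⟧` (`constantCoeff ∘ τ = id`), `R` a finite
`B`-algebra which is formally etale away from a regular pair `(a, b)` with `τ a = a`, and etale away from
some `g` such that `τ g` is non zero modulo the maximal ideal.  Then `R` is etale over `B`.
-/

set_option autoImplicit false

namespace Groth.Agent.CalgB.TaylorEtale

open PowerSeries TensorProduct Groth.Agent.Pi1A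

universe u v w

section Descent

variable {B₁ B₂ S R₁ R₂ : Type u} [CommRing B₁] [CommRing B₂] [CommRing S] [CommRing R₁] [CommRing R₂]
  [Algebra B₁ S] [Algebra B₂ S] [Algebra B₁ R₁] [Algebra B₂ R₂]

/-- Transport of etaleness along two base changes to `S`. -/
theorem etale_of_iso (e' : S ⊗[B₁] R₁ ≃+* S ⊗[B₂] R₂) (he' : ∀ s : S, e' (s ⊗ₜ 1) = s ⊗ₜ 1) (g : B₁)
    (h : Algebra.Etale B₁ (Localization.Away (algebraMap B₁ R₁ g)))
    (hff : Module.FaithfullyFlat B₂ (Localization.Away (algebraMap B₁ S g))) :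
    Algebra.Etale B₂ R₂ := by
  let e : S ⊗[B₁] R₁ ≃ₐ[S] S ⊗[B₂] R₂ := { e' with commutes' := he' }
  have h0 : Algebra.Etale (Localization.Away g) (Localization.Away g ⊗[B₁] R₁) :=
    PSPurity.etale_tensor_away g h
  let T := Localization.Away (algebraMap B₁ S g)
  let _ : Algebra (Localization.Away g) T :=
    (IsLocalization.Away.lift g (g := algebraMap B₁ T) (by
      rw [IsScalarTower.algebraMap_apply B₁ S T]
      exact IsLocalization.Away.algebraMap_isUnit _)).toAlgebra
  have hT : IsScalarTower B₁ (Localization.Away g) T := by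
    refine IsScalarTower.of_algebraMap_eq fun b => ?_
    exact (IsLocalization.Away.lift_eq g _ b).symm
  have h1 : Algebra.Etale T (T ⊗[Localization.Away g] (Localization.Away g ⊗[B₁] R₁)) := inferInstance
  have h2 : Algebra.Etale T (T ⊗[B₁] R₁) :=
    Algebra.Etale.of_equiv (Algebra.TensorProduct.cancelBaseChange B₁ (Localization.Away g) T T R₁)
  have h3 : Algebra.Etale T (T ⊗[B₂] R₂) := by
    refine Algebra.Etale.of_equiv (A := T ⊗[B₁] R₁) ?_
    exact ((Algebra.TensorProduct.cancelBaseChange B₁ S T T R₁).symm.trans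
      (Algebra.TensorProduct.congr AlgEquiv.refl e)).trans
      (Algebra.TensorProduct.cancelBaseChange B₂ S T T R₂)
  exact Algebra.Etale.of_etale_tensorProduct_of_faithfullyFlat T

end Descent

section Flat

/-- Power series, as a type without the standard algebra structure. -/
def PS (B : Type u) : Type u := PowerSeries B

noncomputable instance (B : Type u) [CommRing B] : CommRing (PS B) :=
  inferInstanceAs (CommRing (PowerSeries B))

/-- The identity. -/
noncomputable def ofPS (B : Type u) [CommRing B] : PS B ≃+* PowerSeries B := RingEquiv.refl _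

/-- `B → B⟦X⟧[1/h]` is faithfully flat for a Noetherian local ring `B` if some coefficient of `h` is a unit. -/
theorem faithfullyFlat_away (B : Type u) [CommRing B] [IsNoetherianRing B] [IsLocalRing B]
    [Algebra B (PS B)] (hC : ∀ b, ofPS B (algebraMap B (PS B) b) = C b)
    (h : PS B) (n : ℕ) (hn : IsUnit (coeff n (ofPS B h))) :
    Module.FaithfullyFlat B (Localization.Away h) := by
  have h0 := PSPurity.flat_powerSeries B
  let el : B⟦X⟧ ≃ₗ[B] PS B :=
    { (ofPS B).symm.toAddEquiv with
      map_smul' := fun c p => by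
        change (ofPS B).symm (c • p) = c • (ofPS B).symm p
        rw [RingEquiv.symm_apply_eq, smul_eq_C_mul, Algebra.smul_def, map_mul, hC,
          RingEquiv.apply_symm_apply] }
  have h1 : Module.Flat B (PS B) := Module.Flat.of_linearEquiv el.symm
  have h2 : Module.Flat B (Localization.Away h) := Module.Flat.trans B (PS B) (Localization.Away h)
  refine ⟨fun m hm htop => ?_⟩
  let J : Ideal (PS B) := RingHom.ker ((PowerSeries.map (Ideal.Quotient.mk m)).comp (ofPS B).toRingHom)
  have hfield : IsDomain (B ⧸ m) := Ideal.Quotient.isDomain m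
  have hJ : J.IsPrime := RingHom.ker_isPrime _
  have hhJ : h ∉ J := by
    intro hh
    have h3 := congrArg (coeff n) (show PowerSeries.map (Ideal.Quotient.mk m) (ofPS B h) = 0 from hh)
    rw [coeff_map, map_zero, Ideal.Quotient.eq_zero_iff_mem] at h3
    exact hm.ne_top (Ideal.eq_top_of_isUnit_mem _ h3 hn)
  have hle : m • (⊤ : Submodule B (Localization.Away h)) ≤
      (J.map (algebraMap (PS B) (Localization.Away h))).restrictScalars B := by
    rw [Submodule.smul_le]
    intro r hr t _
    have : r • t = algebraMap (PS B) (Localization.Away h) (algebraMap B (PS B) r) * t := by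
      rw [Algebra.smul_def, IsScalarTower.algebraMap_apply B (PS B) (Localization.Away h)]
    rw [this]
    refine Ideal.mul_mem_right _ _ (Ideal.mem_map_of_mem _ ?_)
    change PowerSeries.map (Ideal.Quotient.mk m) (ofPS B (algebraMap B (PS B) r)) = 0
    rw [hC, map_C, Ideal.Quotient.eq_zero_iff_mem.mpr hr, map_zero]
  rw [htop] at hle
  have h1 : (1 : Localization.Away h) ∈ J.map (algebraMap (PS B) (Localization.Away h)) :=
    hle (Submodule.mem_top)
  have h4 : (J.map (algebraMap (PS B) (Localization.Away h))).IsPrime := by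
    refine IsLocalization.isPrime_of_isPrime_disjoint (Submonoid.powers h) _ J hJ ?_
    rw [Set.disjoint_left]
    rintro _ ⟨k, rfl⟩ hk
    exact hhJ (hJ.mem_of_pow_mem _ hk)
  exact h4.ne_top ((Ideal.eq_top_iff_one _).mpr h1)

end Flat

section Iso

variable {B : Type u} [CommRing B] {R : Type u} [CommRing R] [Algebra B R]

/-- `B⟦X⟧ → R⟦X⟧` is finite if `B → R` is finite. -/
theorem finite_map [Module.Finite B R] :
    (PowerSeries.map (algebraMap B R)).Finite := by
  let _ : Algebra B⟦X⟧ R⟦X⟧ := (PowerSeries.map (algebraMap B R)).toAlgebra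
  change Module.Finite B⟦X⟧ R⟦X⟧
  obtain ⟨s, hs⟩ := (inferInstance : Module.Finite B R).fg_top
  classical
  refine ⟨⟨s.image (C (R := R)), ?_⟩⟩
  rw [eq_top_iff]
  intro p _
  have h1 : ∀ n, ∃ c : s → B, ∑ i, c i • (i : R) = coeff n p := by
    intro n
    have h2 : coeff n p ∈ Submodule.span B (s : Set R) := by rw [hs]; trivial
    obtain ⟨f, -, hf⟩ := Submodule.mem_span_finset.mp h2
    refine ⟨fun i => f i, ?_⟩
    rw [← hf]
    exact Finset.sum_coe_sort s (fun i => f i • i)
  choose c hc using h1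
  have h3 : p = ∑ i : s, (PowerSeries.mk fun n => c n i) • (C (i : R)) := by
    ext n
    rw [← hc n, map_sum]
    refine Finset.sum_congr rfl fun i _ => ?_
    rw [Algebra.smul_def]
    change _ = coeff n (PowerSeries.map (algebraMap B R) (PowerSeries.mk fun n => c n i) * C (i : R))
    rw [coeff_mul_C, coeff_map, coeff_mk]
  rw [h3]
  refine Submodule.sum_mem _ fun i _ => Submodule.smul_mem _ _ (Submodule.subset_span ?_)
  simp only [Finset.coe_image, Set.mem_image]
  exact ⟨i, i.2, rfl⟩

/-- If `D : R →+* R⟦X⟧` lifts `τ : B →+* B⟦X⟧`, then `B⟦X⟧ ⊗[B, τ] R ≅ R⟦X⟧`. -/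
theorem exists_ringEquiv [IsNoetherianRing B] [Module.Finite B R]
    (τ : B →+* B⟦X⟧) (D : R →+* R⟦X⟧)
    (hD : ∀ c, D (algebraMap B R c) = PowerSeries.map (algebraMap B R) (τ c))
    (hD0 : ∀ r, constantCoeff (D r) = r) (hτ : ∀ b, constantCoeff (τ b) = b)
    [Algebra B (PS B)] (hτ' : ∀ b, ofPS B (algebraMap B (PS B) b) = τ b) :
    ∃ e : PS B ⊗[B] R ≃+* PS R, ∀ s : PS B,
      ofPS R (e (s ⊗ₜ 1)) = PowerSeries.map (algebraMap B R) (ofPS B s) := by
  have hPS : IsNoetherianRing (PS B) := inferInstanceAs (IsNoetherianRing (PowerSeries B))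
  have hcomp : IsAdicComplete (Ideal.span {(X : B⟦X⟧)}) B⟦X⟧ := inferInstance
  let _ : Algebra (PS B) (PS R) := (PowerSeries.map (algebraMap B R)).toAlgebra
  have hfin : Module.Finite (PS B) (PS R) := finite_map (B := B) (R := R)
  let _ : Algebra B (PS R) := ((algebraMap (PS B) (PS R)).comp (algebraMap B (PS B))).toAlgebra
  have : IsScalarTower B (PS B) (PS R) := IsScalarTower.of_algebraMap_eq fun _ => rfl
  have halgS : ∀ s : PS B, ofPS R (algebraMap (PS B) (PS R) s) =
      PowerSeries.map (algebraMap B R) (ofPS B s) := fun _ => rfl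
  let DA : R →ₐ[B] PS R := { (ofPS R).symm.toRingHom.comp D with
    commutes' := fun c => by
      change D (algebraMap B R c) = PowerSeries.map (algebraMap B R) (ofPS B (algebraMap B (PS B) c))
      rw [hD, hτ'] }
  let Ψ : PS B ⊗[B] R →ₐ[PS B] PS R :=
    Algebra.TensorProduct.lift (Algebra.ofId (PS B) (PS R)) DA (fun _ _ => Commute.all _ _)
  have hΨ : ∀ (p : PS B) (r : R), ofPS R (Ψ (p ⊗ₜ r)) =
      PowerSeries.map (algebraMap B R) (ofPS B p) * D r := by
    intro p r
    simp only [Ψ, Algebra.TensorProduct.lift_tmul, Algebra.ofId_apply]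
    rfl
  let XB : PS B := (ofPS B).symm X
  have hXB : ofPS B XB = X := rfl
  have hjac : Ideal.span {XB} ≤ Ideal.jacobson ⊥ :=
    IsAdicComplete.le_jacobson_bot (R := B⟦X⟧) (Ideal.span {(X : B⟦X⟧)})
  have hsmX : ∀ q : PS R, ofPS R (XB • q) = X * ofPS R q := by
    intro q
    rw [Algebra.smul_def, map_mul, halgS, hXB, PowerSeries.map_X]
  have hdvd : ∀ p : PS R, constantCoeff (ofPS R p) = 0 → ∃ q, p = XB • q := by
    intro p hp
    obtain ⟨q, hq⟩ := X_dvd_iff.mpr hp
    refine ⟨(ofPS R).symm q, ?_⟩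
    apply (ofPS R).injective
    rw [hsmX, hq]
    rfl
  -- surjectivity
  have hsurj : Function.Surjective Ψ := by
    have h1 : (⊤ : Submodule (PS B) (PS R)) ≤ LinearMap.range Ψ.toLinearMap ⊔
        Ideal.span {XB} • (⊤ : Submodule (PS B) (PS R)) := by
      intro r _
      have h2 : r = (ofPS R).symm (D (constantCoeff (ofPS R r))) +
        (r - (ofPS R).symm (D (constantCoeff (ofPS R r)))) := by ring
      rw [h2]
      refine Submodule.add_mem_sup ⟨1 ⊗ₜ constantCoeff (ofPS R r), ?_⟩ ?_
      · apply (ofPS R).injective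
        exact (hΨ 1 (constantCoeff (ofPS R r))).trans (by rw [map_one, map_one, one_mul]; rfl)
      · obtain ⟨q, hq⟩ := hdvd (r - (ofPS R).symm (D (constantCoeff (ofPS R r))))
          (by rw [map_sub, map_sub, RingEquiv.apply_symm_apply, hD0, sub_self])
        rw [hq]
        exact Submodule.smul_mem_smul (Ideal.mem_span_singleton_self _) trivial
    have h2 := Submodule.le_of_le_smul_of_le_jacobson_bot (Module.Finite.fg_top) hjac h1
    intro r
    obtain ⟨z, hz⟩ := h2 (show r ∈ ⊤ from trivial)
    exact ⟨z, hz⟩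
  -- decomposition
  have hsm : ∀ (c : B) (p : PS B), c • p = algebraMap B (PS B) c * p := fun c p =>
    Algebra.smul_def c p
  have hdec : ∀ z : PS B ⊗[B] R, ∃ z', z = 1 ⊗ₜ (constantCoeff (ofPS R (Ψ z))) + XB • z' := by
    intro z
    induction z with
    | zero => exact ⟨0, by simp⟩
    | add z₁ z₂ h₁ h₂ =>
      obtain ⟨y₁, hy₁⟩ := h₁
      obtain ⟨y₂, hy₂⟩ := h₂
      refine ⟨y₁ + y₂, ?_⟩
      conv_lhs => rw [hy₁, hy₂]
      rw [map_add, map_add, map_add, TensorProduct.tmul_add, smul_add]
      abel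
    | tmul p r =>
      obtain ⟨q, hq⟩ : ∃ q, p - algebraMap B (PS B) (constantCoeff (ofPS B p)) = XB * q := by
        obtain ⟨q, hq⟩ : (X : B⟦X⟧) ∣ ofPS B p - τ (constantCoeff (ofPS B p)) := by
          refine X_dvd_iff.mpr ?_
          rw [map_sub, hτ, sub_self]
        refine ⟨(ofPS B).symm q, ?_⟩
        apply (ofPS B).injective
        rw [map_sub, hτ', hq, map_mul, hXB, RingEquiv.apply_symm_apply]
      refine ⟨q ⊗ₜ r, ?_⟩
      have h1 : constantCoeff (ofPS R (Ψ (p ⊗ₜ r))) = constantCoeff (ofPS B p) • r := by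
        rw [hΨ, map_mul, hD0, Algebra.smul_def]
        congr 1
      rw [h1, TensorProduct.tmul_smul, TensorProduct.smul_tmul', TensorProduct.smul_tmul',
        ← TensorProduct.add_tmul]
      congr 1
      rw [hsm, mul_one, smul_eq_mul, ← hq]
      ring
  have hinj : Function.Injective Ψ := by
    rw [injective_iff_map_eq_zero]
    let K : Submodule (PS B) (PS B ⊗[B] R) := LinearMap.ker Ψ.toLinearMap
    have hK : K ≤ Ideal.span {XB} • K := by
      intro k hk
      have hk0 : Ψ k = 0 := hk
      obtain ⟨k', hk'⟩ := hdec k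
      rw [hk0, map_zero, map_zero, TensorProduct.tmul_zero, zero_add] at hk'
      rw [hk']
      refine Submodule.smul_mem_smul (Ideal.mem_span_singleton_self _) ?_
      change Ψ k' = 0
      have h5 : XB • Ψ k' = 0 := by rw [← map_smul, ← hk', hk0]
      have h6 : (X : R⟦X⟧) * ofPS R (Ψ k') = 0 := by
        rw [← hsmX, h5, map_zero]
      have h7 := X_mul_cancel (h6.trans (mul_zero _).symm)
      exact (ofPS R).injective (h7.trans (map_zero _).symm)
    have hK0 : K = ⊥ := Submodule.eq_bot_of_le_smul_of_le_jacobson_bot _ _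
      (IsNoetherian.noetherian K) hK hjac
    intro k hk
    have : k ∈ K := hk
    rw [hK0] at this
    exact this
  refine ⟨RingEquiv.ofBijective Ψ ⟨hinj, hsurj⟩, fun s => ?_⟩
  exact (hΨ s 1).trans (by rw [map_one, mul_one])

end Iso

section Main

variable {B R : Type u} [CommRing B] [IsNoetherianRing B] [IsLocalRing B] [CommRing R] [Algebra B R]
  [Module.Finite B R]

/-- The algebraic core of purity for smooth algebras over a ring of depth at least two. -/
theorem etale_of_translation
    (τ : B →+* B⟦X⟧) (hτ : ∀ b, constantCoeff (τ b) = b) (a b : B) (ha : τ a = C a)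
    (hra : ∀ r : R, algebraMap B R a * r = 0 → r = 0)
    (hrb : ∀ r : R, algebraMap B R b * r = 0 → r = 0)
    (hab : ∀ r s : R, algebraMap B R b * r = algebraMap B R a * s → ∃ t, r = algebraMap B R a * t)
    (hfa : Algebra.Etale B (Localization.Away (algebraMap B R a)))
    (hfb : Algebra.Etale B (Localization.Away (algebraMap B R b)))
    (g : B) (hfg : Algebra.Etale B (Localization.Away (algebraMap B R g)))
    (n : ℕ) (hn : IsUnit (coeff n (τ g))) :
    Algebra.Etale B R := by
  obtain ⟨D, hD, hD0⟩ := PSLift.exists_lift_glue τ hτ a b ha hra hrb hab inferInstance inferInstance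
  let I₁ : Algebra B (PS B) := ((ofPS B).symm.toRingHom.comp τ).toAlgebra
  let I₂ : Algebra B (PS B) := ((ofPS B).symm.toRingHom.comp (C (R := B))).toAlgebra
  have hff := @faithfullyFlat_away B _ _ _ I₂ (fun _ => rfl) ((ofPS B).symm (τ g)) n hn
  obtain ⟨e₁, he₁⟩ := @exists_ringEquiv B _ R _ _ _ _ τ D hD hD0 hτ I₁ (fun _ => rfl)
  obtain ⟨e₂, he₂⟩ := @exists_ringEquiv B _ R _ _ _ _ (C (R := B)) (C (R := R))
    (fun c => by simp) (fun r => by simp) (fun r => by simp) I₂ (fun _ => rfl)
  refine @etale_of_iso B B (PS B) R R _ _ _ _ _ I₁ I₂ _ _ (e₁.trans e₂.symm) ?_ g hfg hff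
  intro s
  rw [RingEquiv.trans_apply, RingEquiv.symm_apply_eq]
  apply (ofPS R).injective
  exact (he₁ s).trans (he₂ s).symm

end Main

end Groth.Agent.CalgB.TaylorEtale
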