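import Groth.Agent.Pi1A.PSLift
import Mathlib.Algebra.MvPolynomial.Basic
import Mathlib.Algebra.BigOperators.Fin
import Mathlib.RingTheory.LocalRing.ResidueField.Basic

/-!
# Translations on algebras which are formally smooth over a polynomial ring

For `B` local and formally smooth over `A[t_1, …, t_d]` and a polynomial `g` whose image in `κ(B)[t]` is nonzero there
is a lift `τ : B →+* B⟦X⟧` of `t_i ↦ t_i + X ^ (N ^ i)` such that `τ g` has a unit coefficient.
-/

set_option autoImplicit false

namespace Groth.Agent.CalgB.TaylorLift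

open Groth.Agent.Pi1A

universe u v w

/-- Kronecker substitution. -/
theorem exists_kronecker {K : Type u} [Field K] {d : ℕ} (h : MvPolynomial (Fin d) K) (hh : h ≠ 0) :
    ∃ N : ℕ, 0 < N ∧ ∃ n : ℕ, PowerSeries.coeff n
      (MvPolynomial.eval₂ (PowerSeries.C (R := K)) (fun i : Fin d => (PowerSeries.X : PowerSeries K) ^ (N ^ (i : ℕ))) h)
      ≠ 0 := by
  classical
  obtain ⟨α₀, hα₀⟩ := MvPolynomial.support_nonempty.mpr hh
  refine ⟨h.totalDegree + 1, Nat.succ_pos _, ∑ i : Fin d, α₀ i * (h.totalDegree + 1) ^ (i : ℕ), ?_⟩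
  set N := h.totalDegree + 1 with hN
  have hlt : ∀ α ∈ h.support, ∀ i, α i < N := by
    intro α hα i
    refine Nat.lt_succ_of_le ?_
    refine le_trans ?_ (MvPolynomial.le_totalDegree hα)
    rw [Finsupp.sum_fintype _ _ (fun _ => rfl)]
    exact Finset.single_le_sum (fun _ _ => Nat.zero_le _) (Finset.mem_univ i)
  have hterm : ∀ α : Fin d →₀ ℕ, (∏ i : Fin d, ((PowerSeries.X : PowerSeries K) ^ (N ^ (i : ℕ))) ^ α i) =
      PowerSeries.X ^ (∑ i : Fin d, α i * N ^ (i : ℕ)) := by
    intro α
    rw [← Finset.prod_pow_eq_pow_sum]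
    refine Finset.prod_congr rfl fun i _ => ?_
    rw [← pow_mul, mul_comm]
  rw [MvPolynomial.eval₂_eq', map_sum, Finset.sum_eq_single α₀]
  · rw [hterm, PowerSeries.coeff_C_mul, PowerSeries.coeff_X_pow_self, mul_one]
    exact MvPolynomial.mem_support_iff.mp hα₀
  · intro α hα hne
    rw [hterm, PowerSeries.coeff_C_mul, PowerSeries.coeff_X_pow, if_neg, mul_zero]
    intro he
    apply hne
    have h1 : finFunctionFinEquiv (fun i => (⟨α i, hlt α hα i⟩ : Fin N)) =
        finFunctionFinEquiv (fun i => (⟨α₀ i, hlt α₀ hα₀ i⟩ : Fin N)) := by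
      apply Fin.ext
      rw [finFunctionFinEquiv_apply, finFunctionFinEquiv_apply]
      exact he.symm
    have h2 := finFunctionFinEquiv.injective h1
    ext i
    have h3 := congrFun h2 i
    exact congrArg Fin.val h3
  · intro h'
    exact absurd hα₀ h'

variable {A : Type v} [CommRing A] {d : ℕ} {B : Type u} [CommRing B] [IsLocalRing B]
  [Algebra (MvPolynomial (Fin d) A) B] [Algebra.FormallySmooth (MvPolynomial (Fin d) A) B]

theorem exists_translation (g : MvPolynomial (Fin d) A)
    (hg : MvPolynomial.map (((IsLocalRing.residue B).comp (algebraMap (MvPolynomial (Fin d) A) B)).comp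
      MvPolynomial.C) g ≠ 0) :
    ∃ τ : B →+* PowerSeries B, (∀ b, PowerSeries.constantCoeff (τ b) = b) ∧
      (∀ a : A, τ (algebraMap (MvPolynomial (Fin d) A) B (MvPolynomial.C a)) =
        PowerSeries.C (algebraMap (MvPolynomial (Fin d) A) B (MvPolynomial.C a))) ∧
      ∃ n, IsUnit (PowerSeries.coeff n (τ (algebraMap (MvPolynomial (Fin d) A) B g))) := by
  classical
  let κ := IsLocalRing.ResidueField B
  let P := MvPolynomial (Fin d) A
  let ρ : P →+* κ := (IsLocalRing.residue B).comp (algebraMap P B)
  let gκ : MvPolynomial (Fin d) κ := MvPolynomial.map (ρ.comp MvPolynomial.C) g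
  -- shift by the residues of the coordinates
  let t : Fin d → κ := fun i => ρ (MvPolynomial.X i)
  let sh : MvPolynomial (Fin d) κ →ₐ[κ] MvPolynomial (Fin d) κ :=
    MvPolynomial.aeval fun i => MvPolynomial.X i + MvPolynomial.C (t i)
  let sh' : MvPolynomial (Fin d) κ →ₐ[κ] MvPolynomial (Fin d) κ :=
    MvPolynomial.aeval fun i => MvPolynomial.X i - MvPolynomial.C (t i)
  have hsh : ∀ p, sh' (sh p) = p := by
    intro p
    have : sh'.comp sh = AlgHom.id κ _ := by
      apply MvPolynomial.algHom_ext
      intro i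
      simp only [sh, sh', AlgHom.comp_apply, MvPolynomial.aeval_X, map_add, AlgHom.id_apply]
      rw [show (MvPolynomial.C (t i) : MvPolynomial (Fin d) κ) = algebraMap κ _ (t i) from rfl, AlgHom.commutes]
      ring
    exact congrArg (fun h => h p) this
  have h0 : sh gκ ≠ 0 := by
    intro h
    apply hg
    change gκ = 0
    rw [← hsh gκ, h, map_zero]
  obtain ⟨N, hN, n, hn⟩ := exists_kronecker (sh gκ) h0
  let φ : P →+* PowerSeries P := MvPolynomial.eval₂Hom ((PowerSeries.C (R := P)).comp MvPolynomial.C)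
    (fun i => PowerSeries.C (MvPolynomial.X i) + (PowerSeries.X : PowerSeries P) ^ (N ^ (i : ℕ)))
  have hNi : ∀ i : Fin d, N ^ (i : ℕ) ≠ 0 := fun i => (Nat.pow_pos hN).ne'
  have hφ : ∀ b, PowerSeries.constantCoeff (φ b) = b := by
    intro b
    have : (PowerSeries.constantCoeff (R := P)).comp φ = RingHom.id P := by
      apply MvPolynomial.ringHom_ext
      · intro a
        simp [φ]
      · intro i
        simp only [φ, RingHom.comp_apply, MvPolynomial.coe_eval₂Hom, MvPolynomial.eval₂_X, map_add, map_pow,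
          PowerSeries.constantCoeff_C, PowerSeries.constantCoeff_X]
        rw [zero_pow (hNi i), add_zero]
        rfl
    exact congrArg (fun h => h b) this
  obtain ⟨τ, hτ, hτ0⟩ := PSLift.exists_lift (E := B) φ hφ
  refine ⟨τ, hτ0, fun a => ?_, n, ?_⟩
  · rw [hτ]
    change PowerSeries.map (algebraMap P B) (MvPolynomial.eval₂ _ _ (MvPolynomial.C a)) = _
    rw [MvPolynomial.eval₂_C]
    exact PowerSeries.map_C _ _
  · have h1 : (IsLocalRing.residue B) (PowerSeries.coeff n (τ (algebraMap P B g))) =
        PowerSeries.coeff n (MvPolynomial.eval₂ (PowerSeries.C (R := κ))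
          (fun i : Fin d => (PowerSeries.X : PowerSeries κ) ^ (N ^ (i : ℕ))) (sh gκ)) := by
      rw [hτ, ← PowerSeries.coeff_map]
      congr 1
      have h2 : ((PowerSeries.map (IsLocalRing.residue B)).comp ((PowerSeries.map (algebraMap P B)).comp φ)) =
          ((MvPolynomial.eval₂Hom (PowerSeries.C (R := κ))
            (fun i : Fin d => (PowerSeries.X : PowerSeries κ) ^ (N ^ (i : ℕ)))).comp
              (sh : MvPolynomial (Fin d) κ →+* MvPolynomial (Fin d) κ)).comp
              (MvPolynomial.map (ρ.comp MvPolynomial.C)) := by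
        apply MvPolynomial.ringHom_ext
        · intro a
          simp only [RingHom.comp_apply, φ, MvPolynomial.coe_eval₂Hom, MvPolynomial.eval₂_C, PowerSeries.map_C,
            MvPolynomial.map_C]
          rw [RingHom.coe_coe, show sh (MvPolynomial.C (ρ (MvPolynomial.C a))) =
            MvPolynomial.C (ρ (MvPolynomial.C a)) from sh.commutes _, MvPolynomial.eval₂_C]
          rfl
        · intro i
          simp only [RingHom.comp_apply, φ, MvPolynomial.coe_eval₂Hom, MvPolynomial.eval₂_X, map_add, map_pow,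
            PowerSeries.map_C, PowerSeries.map_X, MvPolynomial.map_X]
          rw [RingHom.coe_coe, show sh (MvPolynomial.X i) = MvPolynomial.X i + MvPolynomial.C (t i) from
            MvPolynomial.aeval_X _ _, MvPolynomial.eval₂_add, MvPolynomial.eval₂_X, MvPolynomial.eval₂_C, add_comm]
          rfl
      exact congrArg (fun h => h g) h2
    have h3 : IsLocalRing.residue B (PowerSeries.coeff n (τ (algebraMap P B g))) ≠ 0 := by
      rw [h1]; exact hn
    by_contra hnu
    exact h3 ((IsLocalRing.residue_eq_zero_iff _).mpr ((IsLocalRing.mem_maximalIdeal _).mpr hnu))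

end Groth.Agent.CalgB.TaylorLift
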