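import Groth.Agent.CalgB.TaylorEtale
import Groth.Agent.CalgB.TaylorLift
import Groth.Agent.Pi1A.ExtAlg
import Groth.Agent.Pi1A.DepthPunctured
import Groth.Agent.Pi1A.PSPurityHolds

set_option autoImplicit false

universe u

open AlgebraicGeometry CategoryTheory CategoryTheory.Limits IsLocalRing

namespace Groth.Agent.CalgB.TaylorPurity

open Groth.Agent.Pi1A Groth.Agent.Pi1A.DepthTwo Groth.Agent.Pi1A.ExtAlg
open Groth.Agent.Pi1C.SectionsOverAffine

theorem basicOpen_le (B : Type u) [CommRing B] [IsLocalRing B] (x : B) (hx : x ∈ maximalIdeal B) :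
    PrimeSpectrum.basicOpen x ≤ FEt.puncturedSpec B := by
  intro p hp hpc
  have : p = IsLocalRing.closedPoint B := hpc
  rw [this] at hp
  exact hp hx

/-- Purity for a Noetherian local ring with a suitable translation. -/
theorem purityHolds (B : Type u) [CommRing B] [IsNoetherianRing B] [IsLocalRing B]
    (τ : B →+* PowerSeries B) (hτ : ∀ b, PowerSeries.constantCoeff (τ b) = b) (a b g : B)
    (ha : τ a = PowerSeries.C a) (ham : a ∈ maximalIdeal B) (hbm : b ∈ maximalIdeal B)
    (hgm : g ∈ maximalIdeal B) (hab : IsRegPair a b) (hba : IsRegPair b a)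
    (n : ℕ) (hn : IsUnit (PowerSeries.coeff n (τ g))) : FEt.PurityHolds B := by
  refine ⟨fun V => ?_⟩
  have hBn : IsNoetherianRing (CommRingCat.of B) := inferInstanceAs (IsNoetherianRing B)
  have : TopologicalSpace.NoetherianSpace (Spec (CommRingCat.of B)) :=
    inferInstanceAs (TopologicalSpace.NoetherianSpace (PrimeSpectrum B))
  have : CompactSpace (FEt.puncturedSpec B) := isCompact_iff_compactSpace.mp
    (TopologicalSpace.NoetherianSpace.isCompact ((FEt.puncturedSpec B : (Spec (CommRingCat.of B)).Opens) :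
      Set (Spec (CommRingCat.of B))))
  have : IsFinite V.hom := V.prop.1
  have : Etale V.hom := V.prop.2
  let U := FEt.puncturedSpec B
  let p := V.hom ≫ U.ι
  let inst : Algebra B Γ(V.left, ⊤) := (toΓ p).toAlgebra
  have h1 := isRegPair_toΓ (R := CommRingCat.of B) p hab
  have h2 := isRegPair_toΓ (R := CommRingCat.of B) p hba
  have hfin : Module.Finite B Γ(V.left, ⊤) :=
    finite_toΓ (R := CommRingCat.of B) U V.hom hab (basicOpen_le B a ham) (basicOpen_le B b hbm)
  have hE : Algebra.Etale B Γ(V.left, ⊤) :=
    TaylorEtale.etale_of_translation τ hτ a b ha h1.fst h2.fst h1.snd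
      (etale_away (R := CommRingCat.of B) U V.hom a (basicOpen_le B a ham))
      (etale_away (R := CommRingCat.of B) U V.hom b (basicOpen_le B b hbm)) g
      (etale_away (R := CommRingCat.of B) U V.hom g (basicOpen_le B g hgm)) n hn
  exact exists_extension (R := CommRingCat.of B) U V hab (basicOpen_le B a ham) (basicOpen_le B b hbm)
    (RingHom.etale_algebraMap.mpr hE)

end Groth.Agent.CalgB.TaylorPurity
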